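import Cfsg.Agent.Lib.Involutions.StronglyEmbedded

/-!
Small general lemmas on 2-subgroups, congruent involutions, and strongly embedded subgroups.
-/

set_option autoImplicit false
set_option linter.unusedSectionVars false

namespace Cfsg.Agent.M12Sylow

open Subgroup
open Cfsg.Agent.Involutions

variable {G : Type*} [Group G] [Finite G]

/-- Adjoining a centralised 2-element to a 2-subgroup. -/
theorem isPGroup_sup_zpowers {P : Subgroup G} (hP : IsPGroup 2 P) {x : G} {n : ℕ}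
    (hx : x ^ 2 ^ n = 1) (hc : P ≤ centralizer ({x} : Set G)) : IsPGroup 2 ↥(P ⊔ zpowers x) := by
  have hz : IsPGroup 2 ↥(zpowers x) := by
    rintro ⟨_, k, rfl⟩
    refine ⟨n, Subtype.ext ?_⟩
    show (x ^ k) ^ 2 ^ n = 1
    rw [← zpow_natCast, ← zpow_mul, mul_comm, zpow_mul, zpow_natCast, hx, one_zpow]
  refine IsPGroup.to_sup_of_normal_right' hP hz fun p hp => ?_
  refine mem_normalizer_iff.2 fun y => ?_
  have h : ∀ k : ℤ, Commute p (x ^ k) := fun k =>
    Commute.zpow_right (show Commute p x from mem_centralizer_singleton_iff.1 (hc hp)) k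
  constructor
  · rintro ⟨k, rfl⟩
    exact ⟨k, by rw [(h k).eq, mul_inv_cancel_right]⟩
  · rintro ⟨k, hk⟩
    refine ⟨k, ?_⟩
    change x ^ k = p * y * p⁻¹ at hk
    calc x ^ k = p⁻¹ * (p * x ^ k) := by group
      _ = p⁻¹ * (x ^ k * p) := by rw [(h k).eq]
      _ = _ := by rw [hk]; group

/-- A largest 2-subgroup absorbs the others. -/
theorem exists_conj_into {H T : Subgroup G} (hT : IsPGroup 2 T) (hTH : T ≤ H)
    (hb : ∀ R : Subgroup G, IsPGroup 2 R → R ≤ H → T ≤ R → Nat.card R ≤ Nat.card T)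
    {P : Subgroup G} (hP : IsPGroup 2 P) (hPH : P ≤ H) :
    ∃ g ∈ H, ∀ a ∈ P, g * a * g⁻¹ ∈ T := by
  have : Fact (Nat.Prime 2) := ⟨Nat.prime_two⟩
  have hT' : IsPGroup 2 ↥(T.subgroupOf H) := hT.comap_of_injective H.subtype H.subtype_injective
  have hP' : IsPGroup 2 ↥(P.subgroupOf H) := hP.comap_of_injective H.subtype H.subtype_injective
  obtain ⟨R, hR⟩ := hT'.exists_le_sylow
  obtain ⟨R', hR'⟩ := hP'.exists_le_sylow
  have heq : T = (R : Subgroup H).map H.subtype := by
    have hle : T ≤ (R : Subgroup H).map H.subtype := fun t ht => ⟨⟨t, hTH ht⟩, hR ht, rfl⟩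
    exact Subgroup.eq_of_le_of_card_ge hle (hb _ (R.2.map _) (map_subtype_le _) hle)
  obtain ⟨c, hc⟩ := MulAction.exists_smul_eq H R' R
  refine ⟨c, c.2, fun a ha => ?_⟩
  rw [heq]
  refine ⟨c * ⟨a, hPH ha⟩ * c⁻¹, ?_, rfl⟩
  rw [← hc]
  exact Subgroup.smul_mem_pointwise_smul (⟨a, hPH ha⟩ : H) (MulAut.conj c) _ (hR' ha)

/-- Involutions congruent modulo a subgroup of odd order are conjugate inside it. -/
theorem exists_conj_of_congr {W : Subgroup G} (hW : Odd (Nat.card W)) {s t : G} (hs : orderOf s = 2)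
    (ht : orderOf t = 2) (h : s * t ∈ W) : ∃ d ∈ W, d * s * d⁻¹ = t := by
  have hodd : Odd (orderOf (s * t)) := by
    refine hW.of_dvd_nat ?_
    rw [← Subgroup.orderOf_mk (s * t) h]
    exact orderOf_dvd_natCard _
  obtain ⟨d, hd, hd'⟩ := Basic.exists_conj_of_odd hs ht hodd
  exact ⟨d, (zpowers_le.2 h) hd, hd'⟩

/-- A strongly embedded subgroup is an involution centraliser times an intersection of odd order. -/
theorem stronglyEmbedded_factor {H : Subgroup G} (hH : Cfsg.IsStronglyEmbedded H) {t : G} (htH : t ∈ H)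
    (ht : orderOf t = 2) :
    ∃ D : Subgroup G, D ≤ H ∧ Odd (Nat.card D) ∧
      ∀ x ∈ H, ∃ d ∈ D, ∃ c ∈ H, c * t = t * c ∧ x = d * c := by
  obtain ⟨s, hsH, hs⟩ := StronglyEmbedded.exists_involution_notMem hH
  refine ⟨H ⊓ H.map (MulAut.conj s).toMonoidHom, inf_le_left, hH.2.2 s hsH, fun x hx => ?_⟩
  obtain ⟨d, hd, hdt⟩ := StronglyEmbedded.exists_conj_in_inter hH hs hsH ht htH
    (show orderOf (x * t * x⁻¹) = 2 by rw [Basic.orderOf_conj, ht]) (mul_mem (mul_mem hx htH) (inv_mem hx))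
  refine ⟨d, hd, d⁻¹ * x, mul_mem (inv_mem hd.1) hx, ?_, by group⟩
  calc d⁻¹ * x * t = d⁻¹ * (x * t * x⁻¹) * x := by group
    _ = d⁻¹ * (d * t * d⁻¹) * x := by rw [hdt]
    _ = _ := by group

/-- An element of a group with an involution swapped: the product of two nonconjugate involutions is
even. -/
theorem exists_middle {x y : G} (hx : orderOf x = 2) (hy : orderOf y = 2) (h : ¬ IsConj x y) :
    ∃ i : G, orderOf i = 2 ∧ Commute x i ∧ Commute i y := by
  have he := Basic.even_orderOf_mul_of_not_isConj hx hy h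
  obtain ⟨h1, h2, h3⟩ := Basic.middle_involution hx hy he
  exact ⟨_, h1, h2.symm, h3⟩

end Cfsg.Agent.M12Sylow
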