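import Cfsg.Prelude.Def_Solvable
import Cfsg.Agent.Lib.SolvableSignalizer.Connected
import Cfsg.Agent.Lib.Involutions.StronglyEmbedded
import Cfsg.Agent.Lib.Transfer.Fusion
import Cfsg.Agent.Lib.M12Sylow.Gen
import Cfsg.Agent.S0205
import Cfsg.Agent.InvChar.Core

/-!
An elementary Sylow 2-subgroup of rank at least three, each nontrivial element of which is fixed only
trivially by the normaliser, is normal when the odd core is trivial and involutions are not all conjugate.
-/

set_option autoImplicit false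
set_option linter.unusedSectionVars false

namespace Cfsg.Agent.M12Sylow

open Subgroup

universe w

variable {Y : Type w} [Group Y] [Finite Y]

/-- Oddness through coprimality. -/
theorem odd_pPrimeCore (X : Type w) [Group X] [Finite X] : Odd (Nat.card (Cfsg.pPrimeCore 2 X)) := by
  rw [← Nat.coprime_two_right]
  exact InvChar.Core.coprime_card_pPrimeCore 2

/-- Burnside: fused elements of an abelian Sylow subgroup are fused in its normaliser. -/
theorem fusion_normalizer (E : Sylow 2 Y) (hel : Cfsg.IsElementaryAbelian 2 (E : Subgroup Y)) {v w g : Y}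
    (hv : v ∈ (E : Subgroup Y)) (hw : w ∈ (E : Subgroup Y)) (hg : g * v * g⁻¹ = w) :
    ∃ n ∈ normalizer ((E : Subgroup Y) : Set Y), n * v * n⁻¹ = w := by
  have hfix : ∀ a ∈ (E : Subgroup Y), ∀ x ∈ (E : Subgroup Y), x * a * x⁻¹ = a := by
    intro a ha x hx
    have h := congrArg Subtype.val (hel.1.is_comm.comm (⟨x, hx⟩ : (E : Subgroup Y)) ⟨a, ha⟩)
    change x * a = a * x at h
    rw [h]; group
  obtain ⟨n, hn, hnv⟩ := Transfer.Fusion.burnside_fusion_set E (X := {v}) (Y := {w}) (g := g)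
    (fun x hx => by simp [hfix v hv x hx]) (fun x hx => by simp [hfix w hw x hx]) (by simp [hg])
  exact ⟨n, hn, by simpa using hnv⟩

theorem normal_of_fixed (E : Sylow 2 Y) (hel : Cfsg.IsElementaryAbelian 2 (E : Subgroup Y))
    (h8 : 2 ^ 3 ≤ Nat.card (E : Subgroup Y))
    (hfix : ∀ n ∈ normalizer ((E : Subgroup Y) : Set Y), ∀ v ∈ (E : Subgroup Y), v ≠ 1 → n * v = v * n →
      ∀ w ∈ (E : Subgroup Y), n * w = w * n)
    (hO : Cfsg.pPrimeCore 2 Y = ⊥)
    (htwo : ∃ x y : Y, orderOf x = 2 ∧ orderOf y = 2 ∧ ¬ IsConj x y) :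
    (E : Subgroup Y).Normal ∧ centralizer ((E : Subgroup Y) : Set Y) = (E : Subgroup Y) := by
  classical
  have hp : Fact (Nat.Prime 2) := ⟨Nat.prime_two⟩
  set T := (E : Subgroup Y) with hT
  have hcomm : ∀ a ∈ T, ∀ b ∈ T, a * b = b * a := fun a ha b hb =>
    congrArg Subtype.val (hel.1.is_comm.comm (⟨a, ha⟩ : T) ⟨b, hb⟩)
  have hord : ∀ v ∈ T, v ≠ 1 → orderOf v = 2 := fun v hv hv1 => orderOf_eq_prime (hel.2 v hv) hv1
  have hTC : ∀ v ∈ T, T ≤ centralizer ({v} : Set Y) := fun v hv a ha =>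
    mem_centralizer_singleton_iff.2 (hcomm a ha v hv)
  let θ : Y → Subgroup Y := Cfsg.centralizerPPrimeCore 2
  -- each centraliser is `O(C(v)) E`
  have hsplit : ∀ v ∈ T, v ≠ 1 → centralizer ({v} : Set Y) ≤ θ v ⊔ T := by
    intro v hv hv1
    set C := centralizer ({v} : Set Y) with hC
    let EC : Sylow 2 C := E.subtype (hTC v hv)
    have hEC : ∀ x : C, x ∈ (EC : Subgroup C) ↔ (x : Y) ∈ T := fun x => Iff.rfl
    have hNC : normalizer ((EC : Subgroup C) : Set C) ≤ centralizer ((EC : Subgroup C) : Set C) := by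
      intro x hx
      rw [mem_centralizer_iff]
      intro a ha
      refine Subtype.ext ?_
      have hxn : (x : Y) ∈ normalizer (T : Set Y) := by
        refine mem_normalizer_iff.2 fun y => ?_
        constructor
        · intro hy
          exact (mem_normalizer_iff.1 hx ⟨y, hTC v hv hy⟩).1 hy
        · intro hy
          have hyC : y ∈ C := by
            have h := mul_mem (mul_mem (inv_mem x.2) (hTC v hv hy)) x.2
            simpa [mul_assoc] using h
          exact (mem_normalizer_iff.1 hx ⟨y, hyC⟩).2 hy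
      exact (hfix x hxn v hv hv1 (mem_centralizer_singleton_iff.1 x.2) a ((hEC a).1 ha)).symm
    have hcompl := MonoidHom.ker_transferSylow_isComplement' EC hNC
    set N := (MonoidHom.transferSylow EC hNC).ker
    have hNodd : (Nat.card N).Coprime 2 :=
      Nat.coprime_comm.1 ((Nat.Prime.coprime_iff_not_dvd Nat.prime_two).2
        (MonoidHom.not_dvd_card_ker_transferSylow EC hNC))
    have hN : N ≤ Cfsg.pPrimeCore 2 C := InvChar.Core.le_pPrimeCore inferInstance hNodd
    intro x hx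
    have hmem : (⟨x, hx⟩ : C) ∈ N ⊔ (EC : Subgroup C) := by rw [hcompl.sup_eq_top]; exact mem_top _
    rw [mem_sup_of_normal_left] at hmem
    obtain ⟨n, hn, a, ha, e⟩ := hmem
    have e1 : (n : Y) * (a : Y) = x := congrArg Subtype.val e
    rw [← e1]
    exact Subgroup.mul_mem_sup ⟨n, hN hn, rfl⟩ ((hEC a).1 ha)
  have hθC : ∀ v, θ v ≤ centralizer ({v} : Set Y) := fun v => map_subtype_le _
  have hθcop : ∀ v, (Nat.card (θ v)).Coprime 2 := fun v =>
    Components.Balance.centralizerPPrimeCore_coprime 2 v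
  -- odd elements of a centraliser lie in its core
  have hodd_in : ∀ v ∈ T, v ≠ 1 → ∀ H : Subgroup Y, Odd (Nat.card H) → H ≤ centralizer ({v} : Set Y) →
      H ≤ θ v := by
    intro v hv hv1 H hH hHC x hx
    obtain ⟨y, hy, a, ha, e⟩ : ∃ y ∈ θ v, ∃ a ∈ T, y * a = x := by
      have h := hsplit v hv hv1 (hHC hx)
      rwa [← SetLike.mem_coe, coe_mul_of_right_le_normalizer_left _ _
        ((hTC v hv).trans (Components.Balance.le_normalizer_centralizerPPrimeCore 2 v)), Set.mem_mul] at h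
    have hxo : Odd (orderOf x) := hH.of_dvd_nat (by
      rw [← Subgroup.orderOf_mk x hx]; exact orderOf_dvd_natCard _)
    -- modulo `θ v` the element `a` has odd order
    obtain ⟨m, hm⟩ := hxo
    have hn : ∀ k : ℕ, ∃ y' ∈ θ v, x ^ k = y' * a ^ k := by
      intro k
      induction k with
      | zero => exact ⟨1, one_mem _, by simp⟩
      | succ k ih =>
        obtain ⟨y', hy', e'⟩ := ih
        have hak : a ^ k ∈ normalizer (θ v : Set Y) :=
          Components.Balance.le_normalizer_centralizerPPrimeCore 2 v (hTC v hv (pow_mem ha k))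
        refine ⟨y' * (a ^ k * y * (a ^ k)⁻¹), mul_mem hy' ((mem_normalizer_iff.1 hak y).1 hy), ?_⟩
        rw [pow_succ, e', ← e, pow_succ]; group
    obtain ⟨y', hy', e'⟩ := hn (orderOf x)
    rw [pow_orderOf_eq_one, hm, pow_succ, pow_mul, hel.2 a ha, one_pow, one_mul] at e'
    have haθ : a ∈ θ v := by rw [eq_inv_of_mul_eq_one_right e'.symm]; exact inv_mem hy'
    rw [← e]; exact mul_mem hy haθ
  have hθ : Cfsg.IsSolvableSignalizerFunctor 2 T θ := by
    refine ⟨⟨fun a _ _ => hθC a, fun a _ _ h => ?_, fun a ha ha1 b hb x hx => ?_, fun a ha ha1 b hb hb1 => ?_⟩,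
      fun a _ _ => S0205.result (Nat.coprime_two_right.1 (hθcop a))⟩
    · exact (Nat.Prime.coprime_iff_not_dvd Nat.prime_two).1 (Nat.coprime_comm.1 (hθcop a)) h
    · exact (mem_normalizer_iff.1 (Components.Balance.le_normalizer_centralizerPPrimeCore 2 a
        (hTC a ha hb)) x).1 hx
    · exact hodd_in b hb hb1 _ ((Nat.coprime_two_right.1 (hθcop a)).of_dvd_nat (card_dvd_of_le inf_le_left))
        inf_le_right
  obtain hW := SolvableSignalizer.iSup_mem Nat.prime_two hel h8 hθ
  set W := ⨆ a : {a : Y // a ∈ T ∧ a ≠ 1}, θ (a : Y) with hWdef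
  have hWodd : (Nat.card W).Coprime 2 :=
    Nat.coprime_comm.1 ((Nat.Prime.coprime_iff_not_dvd Nat.prime_two).2 hW.2.1)
  set M := normalizer (W : Set Y) with hM
  have hTM : T ≤ M := Components.Signalizer.member_normalizer hW
  have hθle : ∀ a ∈ T, a ≠ 1 → θ a ≤ W := fun a ha ha1 =>
    le_iSup (fun a : {a : Y // a ∈ T ∧ a ≠ 1} => θ (a : Y)) ⟨a, ha, ha1⟩
  have hCM : ∀ v ∈ T, v ≠ 1 → centralizer ({v} : Set Y) ≤ M := fun v hv hv1 =>
    (hsplit v hv hv1).trans (sup_le ((hθle v hv hv1).trans le_normalizer) hTM)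
  have hnM : ∀ n ∈ normalizer (T : Set Y), n ∈ M := by
    have key : ∀ n ∈ normalizer (T : Set Y), W.map (MulAut.conj n).toMonoidHom ≤ W := by
      intro n hn
      rw [hWdef, Subgroup.map_iSup]
      refine iSup_le fun a => ?_
      rw [← SolvableSignalizer.centralizerPPrimeCore_conj 2]
      exact hθle _ ((mem_normalizer_iff.1 hn _).1 a.2.1) fun h => a.2.2 (conj_eq_one_iff.1 h)
    intro n hn
    refine mem_normalizer_iff.2 fun y => ⟨fun hy => key n hn ⟨y, hy, rfl⟩, fun hy => ?_⟩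
    obtain ⟨y', hy', e⟩ : n⁻¹ * (n * y * n⁻¹) * n ∈ W.map (MulAut.conj n⁻¹).toMonoidHom :=
      ⟨_, hy, by simp [mul_assoc]⟩
    have := key n⁻¹ (inv_mem hn) ⟨y', hy', e⟩
    simpa [mul_assoc] using this
  -- involutions of an overgroup containing the centralisers
  have hse : ∀ H : Subgroup Y, T ≤ H → (∀ v ∈ T, v ≠ 1 → centralizer ({v} : Set Y) ≤ H) →
      (∀ n ∈ normalizer (T : Set Y), n ∈ H) → H = ⊤ := by
    intro H hTH hC hN
    by_contra hne
    have hev : Even (Nat.card H) := by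
      refine even_iff_two_dvd.2 (Nat.dvd_trans ?_ (card_dvd_of_le hTH))
      obtain ⟨n, hn⟩ := IsPGroup.iff_card.1 E.2
      rw [← hT] at hn
      rw [hn] at h8 ⊢
      exact dvd_pow_self 2 (by rintro rfl; norm_num at h8)
    have hinv : ∀ t ∈ H, orderOf t = 2 → ∃ h ∈ H, h * t * h⁻¹ ∈ T := by
      intro t ht ht2
      have hz : IsPGroup 2 ↥(zpowers t) := IsPGroup.of_card (n := 1) (by rw [Nat.card_zpowers, ht2, pow_one])
      obtain ⟨g, hg, hgm⟩ := exists_conj_into (T := T) (H := H) E.2 hTH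
        (fun R hR _ hle => by rw [E.3 hR hle]) hz (zpowers_le.2 ht)
      exact ⟨g, hg, hgm t (mem_zpowers t)⟩
    have hH : Cfsg.IsStronglyEmbedded H := Involutions.StronglyEmbedded.of_conj hne hev (by
      intro t ht ht2 g hg
      obtain ⟨a, ha, hav⟩ := hinv t ht ht2
      obtain ⟨c, hc, hcv⟩ := hinv _ hg (by rw [Involutions.Basic.orderOf_conj, ht2])
      obtain ⟨n, hn, hnv⟩ := fusion_normalizer E hel (v := a * t * a⁻¹) (w := c * (g * t * g⁻¹) * c⁻¹)
        (g := c * g * a⁻¹) hav hcv (by group)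
      have hv1 : a * t * a⁻¹ ≠ 1 := fun h => Involutions.Basic.ne_one ht2 (conj_eq_one_iff.1 h)
      have hmem : n⁻¹ * (c * g * a⁻¹) ∈ H := hC _ hav hv1 (mem_centralizer_singleton_iff.2 (by
        calc n⁻¹ * (c * g * a⁻¹) * (a * t * a⁻¹) = n⁻¹ * (c * (g * t * g⁻¹) * c⁻¹) * (c * g * a⁻¹) := by group
          _ = n⁻¹ * (n * (a * t * a⁻¹) * n⁻¹) * (c * g * a⁻¹) := by rw [hnv]
          _ = _ := by group))
      have := mul_mem (mul_mem (inv_mem hc) (mul_mem (hN n hn) hmem)) ha
      simpa [mul_assoc] using this)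
    obtain ⟨x, y, hx, hy, hxy⟩ := htwo
    exact hxy (Involutions.StronglyEmbedded.isConj_involutions hH hx hy)
  have hMtop : M = ⊤ := hse M hTM hCM hnM
  have hW0 : W = ⊥ := by
    rw [← le_bot_iff, ← hO]
    exact InvChar.Core.le_pPrimeCore (normalizer_eq_top_iff.1 hMtop) hWodd
  have hCT : ∀ v ∈ T, v ≠ 1 → centralizer ({v} : Set Y) ≤ T := fun v hv hv1 =>
    (hsplit v hv hv1).trans (sup_le (((hθle v hv hv1).trans hW0.le).trans bot_le) le_rfl)
  have hNtop : normalizer (T : Set Y) = ⊤ :=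
    hse _ le_normalizer (fun v hv hv1 => (hCT v hv hv1).trans le_normalizer) fun n hn => hn
  refine ⟨normalizer_eq_top_iff.1 hNtop, le_antisymm (fun x hx => ?_) fun a ha => ?_⟩
  · obtain ⟨v, hv, hv1⟩ : ∃ v ∈ T, v ≠ 1 := by
      by_contra h
      push Not at h
      rw [(Subgroup.eq_bot_iff_forall _).2 h, Subgroup.card_bot] at h8
      norm_num at h8
    exact hCT v hv hv1 (mem_centralizer_singleton_iff.2 (mem_centralizer_iff.1 hx v hv).symm)
  · exact mem_centralizer_iff.2 fun b hb => hcomm b hb a ha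

end Cfsg.Agent.M12Sylow
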