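import Cfsg.Agent.Lib.M12Sylow.Model

/-!
The extraspecial subgroup of the model: automorphisms respecting the fusion pattern, and further facts.
-/

set_option autoImplicit false
set_option maxRecDepth 30000

namespace Cfsg.Agent.M12Sylow

open Cfsg.Agent.G2Type

/-- `b ^ q`. -/
def pow4 (B : M) (q : ZMod (4 * 1)) : M :=
  bif q == 0 then 1 else bif q == 1 then B else bif q == 2 then B * B else B * B * B

/-- The map on `Q` with given values at `e`, `b`, `u`, `v`. -/
def evalQ (Ee B U V x : M) : M :=
  (bif x.p == 0 then 1 else Ee) * pow4 B x.q * (bif x.i then U else 1) * (bif x.j then V else 1)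

theorem evalQ_id : (elts.all fun x => !inQ x || evalQ e b u v x == x) = true := by decide +kernel

/-- Equality modulo `⟨z⟩`. -/
def eqz (x y : M) : Bool := x == y || x == z * y

theorem eqz_iff {x y : M} : eqz x y = true ↔ x = y ∨ x = z * y := by simp [eqz]

/-- Possible images of `e`, `b`, `u`, `v` under an automorphism respecting the fusion pattern. -/
def candE : List M := elts.filter fun x => inQ x && isInv x && (typ x == 1 || typ x == 5)
/-- See `candE`. -/
def candB : List M := elts.filter fun x => inQ x && x * x == z
/-- See `candE`. -/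
def candU : List M := elts.filter fun x => inQ x && isInv x && (typ x == 2 || typ x == 3 || typ x == 4)

/-- The relations. -/
def relQ (Ee B U V : M) : Bool :=
  Ee * B == B * Ee && U * B * U == B && V * B * V == B⁻¹ && U * Ee * U == z * Ee && V * Ee * V == z * Ee &&
    U * V == V * U && isInv (B * U * V) && (typ (B * U * V) == 1 || typ (B * U * V) == 5) &&
    isInv (U * V) && (typ (U * V) == 2 || typ (U * V) == 3 || typ (U * V) == 4)

/-- Iteration. -/
def itQ (Ee B U V : M) : ℕ → M → M
  | 0, x => x
  | n + 1, x => evalQ Ee B U V (itQ Ee B U V n x)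

/-- A test of a candidate: the sixth iterate is the identity modulo `⟨z⟩`, and if already the third
iterate is, then only the identity has a nontrivial fixed point. -/
def okQ (Ee B U V : M) : Bool :=
  let l := [e, b, u, v]
  (l.all fun x => eqz (itQ Ee B U V 6 x) x) &&
    (!(l.all fun x => eqz (itQ Ee B U V 3 x) x) ||
      (l.all fun x => eqz (evalQ Ee B U V x) x) ||
      ((elts.filter inQ).all fun x => x == 1 || x == z || !eqz (evalQ Ee B U V x) x))

/-- All candidates with a given image of `e` pass. -/
def autE (Ee : M) : Bool :=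
  candB.all fun B => !(Ee * B == B * Ee) ||
    (candU.filter fun U => U * B * U == B && U * Ee * U == z * Ee).all fun U =>
      candU.all fun V => !relQ Ee B U V || okQ Ee B U V

theorem q_auto : candE.all autE = true := by decide +kernel

theorem q_rel : relQ e b u v = true ∧ candE.contains e ∧ candB.contains b ∧ candU.contains u ∧
    candU.contains v ∧ b * u * v = w1 ∧ u * v = w0 ∧ b * b = z := by
  decide +kernel

theorem q_cent : (elts.all fun y => (elts.filter inQ).any fun q =>
    q * y == y * q && !(q == 1) && !(q == z)) = true := by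
  decide +kernel

theorem q_center : (elts.all fun x => !inQ x || x == 1 || x == z ||
    !((elts.filter inQ).all fun y => x * y == y * x)) = true := by
  decide +kernel

theorem q_comm : (elts.all fun x => !inQ x || elts.all fun y => !inQ y ||
    x * y * x⁻¹ * y⁻¹ == 1 || x * y * x⁻¹ * y⁻¹ == z) = true := by
  decide +kernel

theorem q_sq : (elts.all fun x => !inQ x || x * x == 1 || x * x == z) = true := by decide +kernel

theorem q_normal : (elts.all fun g => elts.all fun x => !inQ x || inQ (g * x * g⁻¹)) = true := by
  decide +kernel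

theorem a3_normal : (elts.all fun g => elts.all fun x => !inA3 x || inA3 (g * x * g⁻¹)) = true := by
  decide +kernel

theorem a3_types : (elts.all fun x => inA3 x == (x == 1 || x == z ||
    (isInv x && inQ x && (typ x == 1 || typ x == 5)))) = true := by
  decide +kernel

theorem a3_comm : (elts.all fun x => !inA3 x || elts.all fun y => !inA3 y || x * y == y * x) = true := by
  decide +kernel

theorem a3_w0 : (elts.all fun x => !inA3 x || x * w0 * x⁻¹ * w0⁻¹ == 1 || x * w0 * x⁻¹ * w0⁻¹ == z) = true ∧
    w1 * w0 * w1⁻¹ * w0⁻¹ = z := by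
  decide +kernel

/-- A normal elementary subgroup of order eight is one of the two at `w0`, `w1`. -/
theorem normal_elementary : (elts.all fun x => !isInv x || inA3 x || inE0 x ||
    elts.any fun g => elts.any fun h =>
      !((g * x * g⁻¹) * (h * x * h⁻¹) == (h * x * h⁻¹) * (g * x * g⁻¹))) = true := by
  decide +kernel

theorem normal_exclusive : (elts.all fun x => !(inE0 x && !inZ0 x) || elts.all fun y =>
    !(inA3 y && !inZ0 y) || !(x * y == y * x)) = true ∧
    (elts.filter inE0).length = 8 ∧ e * w1 = w1 * e ∧ ¬ w0 * w1 = w1 * w0 := by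
  decide +kernel

theorem exists_order_eight : ∃ x : M, x * x * (x * x) ≠ 1 ∧ x * x * (x * x) * (x * x * (x * x)) = 1 :=
  ⟨⟨1, 0, true, false⟩, by decide +kernel⟩

/-- `C(w0)` modulo `⟨z, e⟩`. -/
theorem cent_w0_split : (elts.all fun t => !(t * w0 == w0 * t) ||
    elts.any fun a => inZ0 a && (t == a || t == a * u || t == a * v || t == a * w0)) = true := by
  decide +kernel

/-- The two hyperplanes of `C(w0)` through `⟨z, e⟩` used for transfer. -/
def inPb (x : M) : Bool := inZ0 x || inZ0 (x * w0)
/-- See `inPb`. -/
def inPu (x : M) : Bool := inZ0 x || inZ0 (x * u)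

/-- `⟨z, e, w0⟩`. -/
def Pb : Subgroup M := ofPred inPb (by decide +kernel)
/-- `⟨z, e, u⟩`. -/
def Pu : Subgroup M := ofPred inPu (by decide +kernel)

theorem hyper_facts : (elts.all fun x => (!inPb x || x * w0 == w0 * x) && (!inPu x || x * w0 == w0 * x)) =
    true ∧ (elts.filter inPb).length = 8 ∧ (elts.filter inPu).length = 8 ∧
    (elts.filter fun y => y * w0 == w0 * y).length = 16 ∧
    inPu w0 = false ∧ inPb u = false ∧ inPb v = false ∧
    (elts.all fun x => !(inPb x && isInv x) || inZ0 x || x == w0 ||
      (inZ0 (x * w0) && isInv (x * w0) && typ x == 4)) = true := by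
  decide +kernel

theorem small_facts : w0 * u = v ∧ w0 * v = u ∧ u * e * u⁻¹ = e' ∧ u * z * u⁻¹ = z ∧
    b * e * b⁻¹ = e ∧ b * w2 * b⁻¹ = z * w2 ∧ u * v = v * u ∧ (a * a = e) ∧ w1 * w0 = b ∧
    w2 * w1 * w2⁻¹ = e' * w1 ∧ a * w0 = w2 := by
  decide +kernel

end Cfsg.Agent.M12Sylow
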