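import Cfsg.Agent.Lib.M12Sylow.Weak
import Cfsg.Agent.Lib.M12Sylow.ModelQ
import Cfsg.Agent.Lib.M12Sylow.AbSylow
import Cfsg.Agent.Lib.Involutions.ThompsonTransfer

/-!
The centraliser of `z` modulo its odd core has order 192 and normalises the extraspecial subgroup.
-/

set_option autoImplicit false
set_option linter.unusedSectionVars false

namespace Cfsg.Agent.M12Sylow

open Cfsg.Agent.G2Type
open Subgroup
open Cfsg.Agent.Involutions

universe w

variable {G : Type w} [Group G] [Finite G]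

namespace Ctx

variable (X : Ctx G)

/-- The odd core of `C(z)`. -/
abbrev U : Subgroup G := Cfsg.centralizerPPrimeCore 2 (X.ι z)

theorem U_le : X.U ≤ X.C := map_subtype_le _

theorem U_odd : Odd (Nat.card X.U) :=
  Nat.coprime_two_right.1 (Components.Balance.centralizerPPrimeCore_coprime 2 _)

theorem C_le_norm_U : X.C ≤ normalizer (X.U : Set G) :=
  Components.Balance.le_normalizer_centralizerPPrimeCore 2 _

theorem conj_mem_U {c a : G} (hc : c ∈ X.C) (ha : a ∈ X.U) : c * a * c⁻¹ ∈ X.U :=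
  (mem_normalizer_iff.1 (X.C_le_norm_U hc) a).1 ha

theorem conj_z {c : G} (hc : c ∈ X.C) : c * X.ι z * c⁻¹ = X.ι z :=
  mul_inv_eq_iff_eq_mul.2 (mem_centralizer_singleton_iff.1 hc)

theorem ι_eq_one_of_mem {H : Subgroup G} (hH : Odd (Nat.card H)) {m : M} (h : X.ι m ∈ H) : m = 1 := by
  have ho : Odd (orderOf m) := by
    rw [← orderOf_injective X.ι X.inj m, ← Subgroup.orderOf_mk _ h]
    exact hH.of_dvd_nat (orderOf_dvd_natCard _)
  have h64 : orderOf m ∣ 2 ^ 6 := by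
    refine (orderOf_dvd_natCard m).trans ?_
    rw [Mdl.card_eq]; norm_num
  obtain ⟨k, -, hk⟩ := (Nat.dvd_prime_pow Nat.prime_two).1 h64
  rcases Nat.eq_zero_or_pos k with rfl | hk0
  · exact orderOf_eq_one_iff.1 hk
  · rw [hk] at ho
    exact absurd ho (Nat.not_odd_iff_even.2 ((Nat.even_pow.2 ⟨even_two, hk0.ne'⟩)))

/-- The extraspecial subgroup in `G`. -/
abbrev QG : Subgroup G := Q.map X.ι

theorem Q_le_C : X.QG ≤ X.C := by rintro _ ⟨q, -, rfl⟩; exact X.ι_mem_C q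

theorem Q_gens {H : Subgroup G} (he : X.ι e ∈ H) (hb : X.ι b ∈ H) (hu : X.ι u ∈ H) (hv : X.ι v ∈ H) :
    X.QG ≤ H := by
  rintro _ ⟨q, hq, rfl⟩
  have h := all_elts evalQ_id q
  rw [mem_Q.1 hq] at h
  simp only [Bool.not_true, Bool.false_or, beq_iff_eq] at h
  rw [← h]
  simp only [evalQ, map_mul]
  refine mul_mem (mul_mem (mul_mem ?_ ?_) ?_) ?_
  · cases q.p == 0 <;> simp [he]
  · simp only [pow4]
    cases q.q == 0 <;> cases q.q == 1 <;> cases q.q == 2 <;> simp [hb, mul_mem]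
  · cases q.i <;> simp [hu]
  · cases q.j <;> simp [hv]

/-- The subgroup of index two in `C(z)`. -/
structure Half where
  /-- the subgroup -/
  H : Subgroup G
  le : H ≤ X.C
  norm : ∀ c ∈ X.C, ∀ x ∈ H, c * x * c⁻¹ ∈ H
  cover : ∀ x ∈ X.C, x ∈ H ∨ x * X.ι w2 ∈ H
  notMem : X.ι w2 ∉ H
  Q_le : X.QG ≤ H
  odd_le : ∀ x ∈ X.C, Odd (orderOf x) → x ∈ H
  relIndex : H.relIndex X.C = 2

theorem exists_half : Nonempty X.Half := by
  have hp : Fact (Nat.Prime 2) := ⟨Nat.prime_two⟩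
  set C := X.C with hC
  set M0 := X.QG.subgroupOf C with hM0
  have hidx : M0.index % 4 = 2 := by
    set SC := ((⊤ : Subgroup M).map X.ι).subgroupOf C
    have hle : M0 ≤ SC := fun x hx => by
      obtain ⟨q, -, e⟩ := hx
      exact ⟨q, mem_top q, e⟩
    have hcardS : Nat.card SC = 64 := by
      rw [Nat.card_congr (subgroupOfEquivOfLe (show (⊤ : Subgroup M).map X.ι ≤ C by
        rintro _ ⟨a, -, rfl⟩; exact X.ι_mem_C a)).toEquiv, X.card_map, card_top, Mdl.card_eq]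
      norm_num
    have hcard0 : Nat.card M0 = 32 := by
      rw [Nat.card_congr (subgroupOfEquivOfLe X.Q_le_C).toEquiv, X.card_map, card_Q]
    refine ThompsonTransfer.index_mod_four hle ?_ ?_
    · have h := (M0.subgroupOf SC).card_mul_index
      rw [Nat.card_congr (subgroupOfEquivOfLe hle).toEquiv, hcard0, hcardS] at h
      change 32 * M0.relIndex SC = 64 at h
      omega
    · refine Nat.odd_iff.2 (Nat.two_dvd_ne_zero.1 fun h2 => ?_)
      obtain ⟨R, hR⟩ := Sylow.exists_subgroup_card_pow_prime 2 (G := C) (n := 7) (by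
        rw [← SC.card_mul_index, hcardS]
        obtain ⟨r, hr⟩ := h2
        exact ⟨r, by rw [hr]; ring⟩)
      have h := X.card_le_sixtyfour (P := R.map C.subtype) ((IsPGroup.of_card hR).map _)
      rw [card_map_of_injective C.subtype_injective, hR] at h
      norm_num at h
  have hw2 : orderOf (⟨X.ι w2, X.ι_mem_C w2⟩ : C) = 2 := by
    rw [Subgroup.orderOf_mk]; exact X.orderOf_ι inv_w2
  obtain ⟨K, hK, hwK⟩ := ThompsonTransfer.exists_index_two_of_no_conj M0 hidx _ hw2 (by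
    rintro ⟨c, hc⟩ ⟨q, hq, e⟩
    exact X.w2_not_into_Q hc hq e.symm)
  have hKn : K.Normal := normal_of_index_eq_two hK
  set H := K.map C.subtype with hH
  have hmem : ∀ x : C, (x : G) ∈ H ↔ x ∈ K := fun x =>
    ⟨fun ⟨y, hy, e⟩ => by rwa [← Subtype.ext e], fun h => ⟨x, h, rfl⟩⟩
  have hsame : ∀ c ∈ C, ∀ x ∈ C, (c * x * c⁻¹ ∈ H ↔ x ∈ H) := fun c hc x hx => by
    rw [show c * x * c⁻¹ = ((⟨c, hc⟩ * ⟨x, hx⟩ * ⟨c, hc⟩⁻¹ : C) : G) from rfl, hmem, hmem ⟨x, hx⟩]
    constructor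
    · intro h
      have h' := hKn.conj_mem _ h (⟨c, hc⟩ : C)⁻¹
      rwa [show (⟨c, hc⟩ : C)⁻¹ * (⟨c, hc⟩ * ⟨x, hx⟩ * ⟨c, hc⟩⁻¹) * (⟨c, hc⟩ : C)⁻¹⁻¹ = ⟨x, hx⟩ by group] at h'
    · exact fun h => hKn.conj_mem _ h _
  have hmul : ∀ x ∈ C, ∀ y ∈ C, (x * y ∈ H ↔ (x ∈ H ↔ y ∈ H)) := fun x hx y hy => by
    rw [show x * y = ((⟨x, hx⟩ * ⟨y, hy⟩ : C) : G) from rfl, hmem, hmem ⟨x, hx⟩, hmem ⟨y, hy⟩]
    exact mul_mem_iff_of_index_two hK
  have hodd : ∀ x ∈ C, Odd (orderOf x) → x ∈ H := by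
    intro x hx ho
    obtain ⟨m, hm⟩ := ho
    have hx2 : x ^ (2 * (m + 1)) = x := by
      rw [show 2 * (m + 1) = orderOf x + 1 by omega, pow_succ, pow_orderOf_eq_one, one_mul]
    rw [← hx2, pow_mul, pow_two]
    exact pow_mem ((hmul x hx x hx).2 Iff.rfl) _
  have hw2H : X.ι w2 ∉ H := fun h => hwK ((hmem ⟨X.ι w2, X.ι_mem_C w2⟩).1 h)
  -- the generators
  obtain ⟨c₁, hc₁, hc₁e, -⟩ := X.conj_C_of_not_K inv_u inv_w0 (Or.inl typ_reps.2.2.1)
    (Or.inr (Or.inr typ_reps.2.2.2.2.1)) X.not_K_u X.hw0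
  obtain ⟨c₂, hc₂, hc₂e, -⟩ := X.conj_C_of_not_K inv_v inv_w0 (Or.inr (Or.inl typ_reps.2.2.2.1))
    (Or.inr (Or.inr typ_reps.2.2.2.2.1)) X.not_K_v X.hw0
  obtain ⟨f, hf, hfe, -⟩ := X.move_to_e (x := w1) (c := u) (d := e) X.hw1 (mem_cent.2 (by decide +kernel))
    (mem_cent.2 (by decide +kernel)) (by decide +kernel) (by decide +kernel)
  have huw : X.ι u ∈ H ↔ X.ι w0 ∈ H := by rw [← hc₁e, hsame c₁ hc₁ _ (X.ι_mem_C u)]
  have hvw : X.ι v ∈ H ↔ X.ι w0 ∈ H := by rw [← hc₂e, hsame c₂ hc₂ _ (X.ι_mem_C v)]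
  have hw : X.ι w0 ∈ H := by
    rw [show (w0 : M) = u * v by decide +kernel, map_mul, hmul _ (X.ι_mem_C u) _ (X.ι_mem_C v), huw, hvw]
  have he : X.ι e ∈ H := by
    rw [show (e : M) = a * a by decide +kernel, map_mul, hmul _ (X.ι_mem_C a) _ (X.ι_mem_C a)]
  have hw1 : X.ι w1 ∈ H := by rwa [← hsame f hf _ (X.ι_mem_C w1), hfe]
  have hb : X.ι b ∈ H := by
    rw [show (b : M) = w1 * w0 by decide +kernel, map_mul]; exact mul_mem hw1 hw
  exact ⟨⟨H, map_subtype_le _, fun c hc x hx => (hsame c hc x (map_subtype_le _ hx)).2 hx,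
    fun x hx => by
      by_cases h : x ∈ H
      · exact Or.inl h
      · exact Or.inr ((hmul x hx _ (X.ι_mem_C w2)).2 (iff_of_false h hw2H)),
    hw2H, X.Q_gens he hb (huw.2 hw) (hvw.2 hw), hodd, by
      rw [relIndex, subgroupOf, hH, comap_map_eq_self_of_injective C.subtype_injective, hK]⟩⟩

namespace Half

variable {X} (P : X.Half)

theorem U_le' : X.U ≤ P.H := fun x hx => P.odd_le x (X.U_le hx) (by
  rw [← Subgroup.orderOf_mk x hx]; exact X.U_odd.of_dvd_nat (orderOf_dvd_natCard _))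

theorem mem_Q {m : M} (h : X.ι m ∈ P.H) : m ∈ Q := by
  by_contra hm
  have hcov : (elts.all fun x => inQ x || inQ (x * w2)) = true := by decide +kernel
  have h' := all_elts hcov m
  rw [Bool.eq_false_iff.2 (fun e => hm (M12Sylow.mem_Q.2 e)), Bool.false_or] at h'
  have hq : X.ι (m * w2) ∈ P.H := P.Q_le ⟨m * w2, M12Sylow.mem_Q.2 h', rfl⟩
  rw [map_mul] at hq
  exact P.notMem ((mul_mem_cancel_left h).1 hq)

theorem card_le {R : Subgroup G} (hR : IsPGroup 2 R) (hRH : R ≤ P.H) : Nat.card R ≤ 32 := by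
  obtain ⟨c, hc, hcm⟩ := X.into_SC hR (hRH.trans P.le)
  have hm : ∀ a : R, c * (a : G) * c⁻¹ ∈ X.QG := fun a => by
    obtain ⟨m, hm⟩ := hcm a a.2
    exact ⟨m, P.mem_Q (hm ▸ P.norm c hc a (hRH a.2)), hm⟩
  calc Nat.card R ≤ Nat.card X.QG :=
        Nat.card_le_card_of_injective (fun a => (⟨_, hm a⟩ : X.QG)) fun a d h =>
          Subtype.ext (mul_left_cancel (mul_right_cancel (congrArg Subtype.val h)))
    _ = 32 := by rw [X.card_map, card_Q]

/-- The normaliser of the extraspecial subgroup. -/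
abbrev N0 : Subgroup G := P.H ⊓ normalizer (X.QG : Set G)

theorem Q_le_N0 : X.QG ≤ P.N0 := le_inf P.Q_le le_normalizer

/-- A 2-element of the normaliser lies in the extraspecial subgroup. -/
theorem two_mem {y : G} {k : ℕ} (hy : y ∈ P.N0) (h2 : y ^ 2 ^ k = 1) : y ∈ X.QG := by
  have hz : IsPGroup 2 ↥(zpowers y) := by
    obtain ⟨j, -, hj⟩ := (Nat.dvd_prime_pow Nat.prime_two).1 (orderOf_dvd_of_pow_eq_one h2)
    exact IsPGroup.of_card (n := j) (by rw [Nat.card_zpowers, hj])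
  have hsup : IsPGroup 2 ↥(zpowers y ⊔ X.QG) :=
    IsPGroup.to_sup_of_normal_right' hz (X.range_pgroup Q) (zpowers_le.2 hy.2)
  have hle : zpowers y ⊔ X.QG ≤ P.H := sup_le (zpowers_le.2 hy.1) P.Q_le
  have e := Subgroup.eq_of_le_of_card_ge (le_sup_right : X.QG ≤ zpowers y ⊔ X.QG) (by
    rw [X.card_map, card_Q]; exact P.card_le hsup hle)
  rw [e]
  exact (le_sup_left : zpowers y ≤ zpowers y ⊔ X.QG) (mem_zpowers y)

end Half

/-- A homomorphism on `Q` fixing `z` that is the identity modulo `⟨z⟩` on generators is so everywhere. -/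
theorem eqz_all {φ : M → M} (hin : ∀ q ∈ Q, φ q ∈ Q) (hmul : ∀ p ∈ Q, ∀ q ∈ Q, φ (p * q) = φ p * φ q)
    (h1 : φ 1 = 1) (he : eqz (φ e) e = true) (hb : eqz (φ b) b = true)
    (hu : eqz (φ u) u = true) (hv : eqz (φ v) v = true) : ∀ q ∈ Q, eqz (φ q) q = true := by
  have hS : ∀ p q, p ∈ Q → q ∈ Q → eqz (φ p) p = true → eqz (φ q) q = true →
      eqz (φ (p * q)) (p * q) = true := by
    intro p q hp hq h h'
    rw [eqz_iff] at h h' ⊢
    rw [hmul p hp q hq]
    have hz2 : ∀ x y : M, z * x * (z * y) = x * y := fun x y => by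
      rw [show z * x = x * z from Mdl.zE_central x, mul_assoc, ← mul_assoc z z y,
        show (z : M) * z = 1 from Mdl.zE_sq, one_mul]
    rcases h with e1 | e1 <;> rcases h' with e2 | e2 <;> rw [e1, e2]
    · exact Or.inl rfl
    · exact Or.inr (by rw [← mul_assoc, show p * z = z * p from (Mdl.zE_central p).symm, mul_assoc])
    · exact Or.inr (by rw [mul_assoc])
    · exact Or.inl (hz2 p q)
  have h1' : eqz (φ 1) 1 = true := eqz_iff.2 (Or.inl h1)
  have me : e ∈ Q := M12Sylow.mem_Q.2 (by decide +kernel)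
  have mb : b ∈ Q := M12Sylow.mem_Q.2 (by decide +kernel)
  have mu : u ∈ Q := M12Sylow.mem_Q.2 (by decide +kernel)
  have mv : v ∈ Q := M12Sylow.mem_Q.2 (by decide +kernel)
  intro q hq
  have h := all_elts evalQ_id q
  rw [M12Sylow.mem_Q.1 hq] at h
  simp only [Bool.not_true, Bool.false_or, beq_iff_eq] at h
  rw [← h]
  have A1 : (bif q.p == 0 then (1 : M) else e) ∈ Q ∧
      eqz (φ (bif q.p == 0 then 1 else e)) (bif q.p == 0 then 1 else e) = true := by
    cases q.p == 0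
    exacts [⟨me, he⟩, ⟨one_mem _, h1'⟩]
  have A2 : pow4 b q.q ∈ Q ∧ eqz (φ (pow4 b q.q)) (pow4 b q.q) = true := by
    simp only [pow4]
    cases q.q == 0 <;> cases q.q == 1 <;> cases q.q == 2 <;>
      first
        | exact ⟨one_mem _, h1'⟩
        | exact ⟨mb, hb⟩
        | exact ⟨mul_mem mb mb, hS b b mb mb hb hb⟩
        | exact ⟨mul_mem (mul_mem mb mb) mb, hS _ b (mul_mem mb mb) mb (hS b b mb mb hb hb) hb⟩
  have A3 : (bif q.i then u else (1 : M)) ∈ Q ∧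
      eqz (φ (bif q.i then u else 1)) (bif q.i then u else 1) = true := by
    cases q.i
    exacts [⟨one_mem _, h1'⟩, ⟨mu, hu⟩]
  have A4 : (bif q.j then v else (1 : M)) ∈ Q ∧
      eqz (φ (bif q.j then v else 1)) (bif q.j then v else 1) = true := by
    cases q.j
    exacts [⟨one_mem _, h1'⟩, ⟨mv, hv⟩]
  exact hS _ _ (mul_mem (mul_mem A1.1 A2.1) A3.1) A4.1
    (hS _ _ (mul_mem A1.1 A2.1) A3.1 (hS _ _ A1.1 A2.1 A1.2 A2.2) A3.2) A4.2

/-- The action of an element of the normaliser on `Q`. -/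
theorem exists_act {n : G} (hn : n ∈ X.C) (hnQ : n ∈ normalizer (X.QG : Set G)) :
    ∃ ψ : M → M, (∀ q ∈ Q, X.ι (ψ q) = n * X.ι q * n⁻¹) ∧ (∀ q ∈ Q, ψ q ∈ Q) ∧
      (∀ p ∈ Q, ∀ q ∈ Q, ψ (p * q) = ψ p * ψ q) ∧ ψ 1 = 1 ∧ ψ z = z ∧
      (∀ q ∈ Q, isInv q = true → isInv (ψ q) = true) ∧ (∀ q ∈ Q, X.K (ψ q) ↔ X.K q) := by
  obtain ⟨ψ, hψ, hmul, -, hone, hii, hK⟩ := X.exists_psi (H := Q) (g := n) fun q hq => by
    obtain ⟨m, -, e1⟩ := (mem_normalizer_iff.1 hnQ _).1 (show X.ι q ∈ X.QG from ⟨q, hq, rfl⟩)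
    exact ⟨m, e1⟩
  have hzQ : z ∈ Q := M12Sylow.mem_Q.2 (by decide +kernel)
  refine ⟨ψ, hψ, fun q hq => ?_, hmul, (hone 1 (one_mem _)).2 rfl,
    X.inj ((hψ z hzQ).trans (X.conj_z hn)), hii, hK⟩
  obtain ⟨m, hm, e1⟩ := (mem_normalizer_iff.1 hnQ _).1 (show X.ι q ∈ X.QG from ⟨q, hq, rfl⟩)
  rwa [X.inj ((hψ q hq).trans e1.symm)]

theorem eqz_trans {x y t : M} (h : eqz x y = true) (h' : eqz y t = true) : eqz x t = true := by
  rw [eqz_iff] at *
  rcases h with rfl | rfl <;> rcases h' with rfl | rfl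
  · exact Or.inl rfl
  · exact Or.inr rfl
  · exact Or.inr rfl
  · exact Or.inl (by rw [← mul_assoc, show (z : M) * z = 1 from Mdl.zE_sq, one_mul])

theorem eqz_symm {x y : M} (h : eqz x y = true) : eqz y x = true := by
  rw [eqz_iff] at *
  rcases h with rfl | rfl
  · exact Or.inl rfl
  · exact Or.inr (by rw [← mul_assoc, show (z : M) * z = 1 from Mdl.zE_sq, one_mul])

/-- The type of an involution of `Q`. -/
theorem typ_Q {x : M} (hx : x ∈ Q) (hi : isInv x = true) : typ x ≠ 6 := by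
  have hq : (elts.all fun y => !(inQ y && isInv y) || !(typ y == 6)) = true := by decide +kernel
  have h' := all_elts hq x
  rw [M12Sylow.mem_Q.1 hx, hi] at h'
  simpa using h'

/-- The images of the generators form a tested candidate. -/
theorem act_okQ {n : G} (hn : n ∈ X.C) {ψ : M → M} (hψ : ∀ q ∈ Q, X.ι (ψ q) = n * X.ι q * n⁻¹)
    (hin : ∀ q ∈ Q, ψ q ∈ Q) (hmul : ∀ p ∈ Q, ∀ q ∈ Q, ψ (p * q) = ψ p * ψ q) (hone : ψ 1 = 1)
    (hzz : ψ z = z) (hii : ∀ q ∈ Q, isInv q = true → isInv (ψ q) = true)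
    (hK : ∀ q ∈ Q, X.K (ψ q) ↔ X.K q) :
    okQ (ψ e) (ψ b) (ψ u) (ψ v) = true ∧
      ∀ k : ℕ, ∀ x ∈ Q, itQ (ψ e) (ψ b) (ψ u) (ψ v) k x = ψ^[k] x := by
  have me : e ∈ Q := M12Sylow.mem_Q.2 (by decide +kernel)
  have mb : b ∈ Q := M12Sylow.mem_Q.2 (by decide +kernel)
  have mu : u ∈ Q := M12Sylow.mem_Q.2 (by decide +kernel)
  have mv : v ∈ Q := M12Sylow.mem_Q.2 (by decide +kernel)
  have mz : z ∈ Q := M12Sylow.mem_Q.2 (by decide +kernel)
  have m0 : w0 ∈ Q := M12Sylow.mem_Q.2 (by decide +kernel)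
  have m1 : w1 ∈ Q := M12Sylow.mem_Q.2 (by decide +kernel)
  have hiq : ∀ k : ℕ, ∀ x ∈ Q, ψ^[k] x ∈ Q := by
    intro k
    induction k with
    | zero => intro x hx; exact hx
    | succ k ih => intro x hx; rw [Function.iterate_succ_apply']; exact hin _ (ih x hx)
  -- the candidates
  have hcand : ∀ x ∈ Q, isInv x = true → ¬ X.K x → candU.contains (ψ x) = true := by
    intro x hx hi hk
    have hi' := hii x hx hi
    have hk' : ¬ X.K (ψ x) := fun h => hk ((hK x hx).1 h)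
    rw [X.K_iff hi'] at hk'
    push Not at hk'
    have h6 := (typ_spec hi').2.1
    have h6' := typ_Q (hin x hx) hi'
    simp only [List.contains_iff_mem, candU, List.mem_filter, Bool.and_eq_true, Bool.or_eq_true, beq_iff_eq]
    refine ⟨mem_elts _, ⟨M12Sylow.mem_Q.1 (hin x hx), hi'⟩, ?_⟩
    omega
  have hK15 : ∀ x ∈ Q, isInv x = true → X.K x → x ≠ z → typ (ψ x) = 1 ∨ typ (ψ x) = 5 := by
    intro x hx hi hk hxz
    have hi' := hii x hx hi
    rcases (X.K_iff hi').1 ((hK x hx).2 hk) with h | h | h | h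
    · exfalso
      have h0 := (typ_spec hi').2.2.1 h
      have := hψ x hx
      rw [h0, ← X.conj_z hn] at this
      exact hxz (X.inj ((MulAut.conj n).injective this)).symm
    · exact Or.inl h
    · exact Or.inr h
    · exact absurd h.1 (typ_Q (hin x hx) hi')
  have cE : candE.contains (ψ e) = true := by
    simp only [List.contains_iff_mem, candE, List.mem_filter, Bool.and_eq_true, Bool.or_eq_true, beq_iff_eq]
    exact ⟨mem_elts _, ⟨M12Sylow.mem_Q.1 (hin e me), hii e me inv_e⟩, hK15 e me inv_e X.K_e Mdl.eE_ne_zE⟩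
  have cB : candB.contains (ψ b) = true := by
    simp only [List.contains_iff_mem, candB, List.mem_filter, Bool.and_eq_true, beq_iff_eq]
    refine ⟨mem_elts _, M12Sylow.mem_Q.1 (hin b mb), ?_⟩
    rw [← hmul b mb b mb, show (b : M) * b = z by decide +kernel, hzz]
  have cU := hcand u mu inv_u X.not_K_u
  have cV := hcand v mv inv_v X.not_K_v
  have hrel : relQ (ψ e) (ψ b) (ψ u) (ψ v) = true := by
    have c0 := hcand w0 m0 inv_w0 X.hw0
    simp only [List.contains_iff_mem, candU, List.mem_filter, Bool.and_eq_true, Bool.or_eq_true,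
      beq_iff_eq] at c0
    have k1 := hK15 w1 m1 inv_w1 X.hw1 (by decide +kernel)
    have e0 : ψ u * ψ v = ψ w0 := by rw [← hmul u mu v mv, show (u : M) * v = w0 by decide +kernel]
    have e1 : ψ b * ψ u * ψ v = ψ w1 := by
      rw [← hmul b mb u mu, ← hmul _ (mul_mem mb mu) v mv, show (b : M) * u * v = w1 by decide +kernel]
    have hvb : ψ b⁻¹ = (ψ b)⁻¹ := eq_inv_of_mul_eq_one_left (by
      rw [← hmul _ (inv_mem mb) b mb, inv_mul_cancel, hone])
    simp only [relQ, Bool.and_eq_true, Bool.or_eq_true, beq_iff_eq, e0, e1]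
    refine ⟨⟨⟨⟨⟨⟨⟨⟨⟨?_, ?_⟩, ?_⟩, ?_⟩, ?_⟩, ?_⟩, hii w1 m1 inv_w1⟩, k1⟩, hii w0 m0 inv_w0⟩, c0.2.2⟩
    · rw [← hmul e me b mb, ← hmul b mb e me, show (e : M) * b = b * e by decide +kernel]
    · rw [← hmul u mu b mb, ← hmul _ (mul_mem mu mb) u mu, show (u : M) * b * u = b by decide +kernel]
    · rw [← hmul v mv b mb, ← hmul _ (mul_mem mv mb) v mv, show (v : M) * b * v = b⁻¹ by decide +kernel, hvb]
    · rw [← hmul u mu e me, ← hmul _ (mul_mem mu me) u mu, show (u : M) * e * u = z * e by decide +kernel,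
        hmul z mz e me, hzz]
    · rw [← hmul v mv e me, ← hmul _ (mul_mem mv me) v mv, show (v : M) * e * v = z * e by decide +kernel,
        hmul z mz e me, hzz]
    · rw [← e0, ← hmul v mv u mu, show (v : M) * u = u * v by decide +kernel, hmul u mu v mv]
  have heval : ∀ x ∈ Q, evalQ (ψ e) (ψ b) (ψ u) (ψ v) x = ψ x := by
    intro x hx
    have h := all_elts evalQ_id x
    rw [M12Sylow.mem_Q.1 hx] at h
    simp only [Bool.not_true, Bool.false_or, beq_iff_eq] at h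
    conv_rhs => rw [← h]
    have M1 : ∀ c : Bool, (bif c then (1 : M) else e) ∈ Q := fun c => by cases c; exacts [me, one_mem _]
    have M2 : pow4 b x.q ∈ Q := by
      simp only [pow4]
      cases x.q == 0 <;> cases x.q == 1 <;> cases x.q == 2 <;>
        first | exact one_mem _ | exact mb | exact mul_mem mb mb | exact mul_mem (mul_mem mb mb) mb
    have M3 : ∀ c : Bool, (bif c then u else (1 : M)) ∈ Q := fun c => by cases c; exacts [one_mem _, mu]
    have M4 : ∀ c : Bool, (bif c then v else (1 : M)) ∈ Q := fun c => by cases c; exacts [one_mem _, mv]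
    have E2 : ψ (pow4 b x.q) = pow4 (ψ b) x.q := by
      simp only [pow4]
      cases x.q == 0 <;> cases x.q == 1 <;> cases x.q == 2 <;>
        simp [hone, hmul b mb b mb, hmul (b * b) (mul_mem mb mb) b mb]
    simp only [evalQ]
    rw [hmul _ (mul_mem (mul_mem (M1 _) M2) (M3 _)) _ (M4 _), hmul _ (mul_mem (M1 _) M2) _ (M3 _),
      hmul _ (M1 _) _ M2, E2]
    cases x.p == 0 <;> cases x.i <;> cases x.j <;> simp [hone]
  have hit : ∀ k : ℕ, ∀ x ∈ Q, itQ (ψ e) (ψ b) (ψ u) (ψ v) k x = ψ^[k] x := by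
    intro k
    induction k with
    | zero => intro x _; rfl
    | succ k ih =>
      intro x hx
      rw [Function.iterate_succ_apply', itQ, ih x hx, heval _ (hiq k x hx)]
  refine ⟨?_, hit⟩
  have hA := List.all_eq_true.1 q_auto _ (List.contains_iff_mem.1 cE)
  simp only [autE, List.all_eq_true] at hA
  have hB := hA _ (List.contains_iff_mem.1 cB)
  have hr := hrel
  simp only [relQ, Bool.and_eq_true, beq_iff_eq] at hr
  rw [show (ψ e * ψ b == ψ b * ψ e) = true from beq_iff_eq.2 hr.1.1.1.1.1.1.1.1.1] at hB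
  simp only [Bool.not_true, Bool.false_or, List.all_eq_true, List.mem_filter, Bool.and_eq_true,
    beq_iff_eq] at hB
  have hU := hB (ψ u) ⟨List.contains_iff_mem.1 cU, hr.1.1.1.1.1.1.1.1.2, hr.1.1.1.1.1.1.2⟩ _
    (List.contains_iff_mem.1 cV)
  rw [hrel] at hU
  simpa using hU

/-- An element of the normaliser fixing a nontrivial coset of `⟨z⟩` in `Q` fixes all. -/
theorem fix_all (P : X.Half) {n : G} (hn : n ∈ P.N0) {q₀ : M} (hq₀ : q₀ ∈ Q) (h1 : q₀ ≠ 1) (hz : q₀ ≠ z)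
    {r : M} (hr : X.ι r = n * X.ι q₀ * n⁻¹) (hfix : eqz r q₀ = true) {q : M} (hq : q ∈ Q) {r' : M}
    (hr' : X.ι r' = n * X.ι q * n⁻¹) : eqz r' q = true := by
  obtain ⟨ψ, hψ, hin, hmul, hone, hzz, hii, hK⟩ := X.exists_act (P.le hn.1) hn.2
  obtain rfl : r = ψ q₀ := X.inj (hr.trans (hψ q₀ hq₀).symm)
  obtain rfl : r' = ψ q := X.inj (hr'.trans (hψ q hq).symm)
  clear hr hr'
  have me : e ∈ Q := M12Sylow.mem_Q.2 (by decide +kernel)
  have mb : b ∈ Q := M12Sylow.mem_Q.2 (by decide +kernel)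
  have mu : u ∈ Q := M12Sylow.mem_Q.2 (by decide +kernel)
  have mv : v ∈ Q := M12Sylow.mem_Q.2 (by decide +kernel)
  have mz : z ∈ Q := M12Sylow.mem_Q.2 (by decide +kernel)
  have m0 : w0 ∈ Q := M12Sylow.mem_Q.2 (by decide +kernel)
  have m1 : w1 ∈ Q := M12Sylow.mem_Q.2 (by decide +kernel)
  -- powers
  have hpow : ∀ k : ℕ, ∀ x ∈ Q, X.ι (ψ^[k] x) = n ^ k * X.ι x * (n ^ k)⁻¹ ∧ ψ^[k] x ∈ Q := by
    intro k
    induction k with
    | zero => intro x hx; simpa using hx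
    | succ k ih =>
      intro x hx
      obtain ⟨e1, e2⟩ := ih x hx
      rw [Function.iterate_succ_apply']
      exact ⟨by rw [hψ _ e2, e1, pow_succ']; group, hin _ e2⟩
  have hpmul : ∀ k : ℕ, ∀ x ∈ Q, ∀ y ∈ Q, ψ^[k] (x * y) = ψ^[k] x * ψ^[k] y := fun k x hx y hy =>
    X.inj (by rw [(hpow k _ (mul_mem hx hy)).1, map_mul X.ι, map_mul X.ι, (hpow k x hx).1, (hpow k y hy).1]; group)
  have hcong : ∀ k : ℕ, ∀ x ∈ Q, ∀ y ∈ Q, eqz x y = true → eqz (ψ^[k] x) (ψ^[k] y) = true := by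
    intro k x hx y hy h
    rw [eqz_iff] at h ⊢
    rcases h with rfl | rfl
    · exact Or.inl rfl
    · right
      rw [hpmul k z mz y hy, (Function.iterate_fixed hzz k)]
  obtain ⟨hok, hit⟩ := X.act_okQ (P.le hn.1) hψ hin hmul hone hzz hii hK
  have heval : ∀ x ∈ Q, evalQ (ψ e) (ψ b) (ψ u) (ψ v) x = ψ x := fun x hx => hit 1 x hx
  simp only [okQ, Bool.and_eq_true, Bool.or_eq_true, Bool.not_eq_true', List.all_cons, List.all_nil,
    Bool.and_true] at hok
  obtain ⟨⟨he6, hb6, hu6, hv6⟩, hrest⟩ := hok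
  rw [hit 6 e me] at he6
  rw [hit 6 b mb] at hb6
  rw [hit 6 u mu] at hu6
  rw [hit 6 v mv] at hv6
  have h6 : ∀ x ∈ Q, eqz (ψ^[6] x) x = true :=
    eqz_all (φ := ψ^[6]) (fun x hx => (hpow 6 x hx).2) (hpmul 6) (Function.iterate_fixed hone 6) he6 hb6 hu6 hv6
  -- an odd iterate
  obtain ⟨k, m, hm, hkm⟩ := Nat.exists_eq_two_pow_mul_odd (orderOf_pos n).ne'
  have hfactor : (n ^ m) ^ 2 ^ k = 1 := by rw [← pow_mul, mul_comm, ← hkm, pow_orderOf_eq_one]
  obtain ⟨s, hs, hse⟩ := P.two_mem (pow_mem hn m) hfactor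
  have hodd : ∀ x ∈ Q, eqz (ψ^[m] x) x = true := by
    intro x hx
    rw [eqz_iff]
    have e1 : ψ^[m] x = s * x * s⁻¹ := X.inj (by
      rw [(hpow m x hx).1, ← hse, map_mul, map_mul, map_inv])
    have hc := all_elts q_comm s
    rw [M12Sylow.mem_Q.1 hs] at hc
    simp only [Bool.not_true, Bool.false_or] at hc
    have hc' := all_elts hc x
    rw [M12Sylow.mem_Q.1 hx] at hc'
    simp only [Bool.not_true, Bool.false_or, Bool.or_eq_true, beq_iff_eq] at hc'
    rcases hc' with c | c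
    · exact Or.inl (by rw [e1]; exact mul_inv_eq_one.1 c)
    · exact Or.inr (by rw [e1]; exact mul_inv_eq_iff_eq_mul.1 c)
  have hiter : ∀ a : ℕ, (∀ x ∈ Q, eqz (ψ^[a] x) x = true) → ∀ l : ℕ, ∀ x ∈ Q, eqz (ψ^[a * l] x) x = true := by
    intro a ha l
    induction l with
    | zero => intro x _; exact eqz_iff.2 (Or.inl rfl)
    | succ l ih =>
      intro x hx
      rw [Nat.mul_succ, Function.iterate_add_apply]
      exact eqz_trans (hcong (a * l) _ (hpow a x hx).2 x hx (ha x hx)) (ih x hx)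
  have h3 : ∀ x ∈ Q, eqz (ψ^[3] x) x = true := by
    intro x hx
    obtain ⟨t, rfl⟩ := hm
    have h' := hiter (2 * t + 1) hodd 3 x hx
    rw [show (2 * t + 1) * 3 = 3 + 6 * t by ring, Function.iterate_add_apply] at h'
    exact eqz_trans (eqz_symm (hcong 3 _ (hpow (6 * t) x hx).2 x hx (hiter 6 h6 t x hx))) h'
  rcases hrest with (hnot | hid) | hfree
  · exfalso
    simp only [hit 3 e me, hit 3 b mb, hit 3 u mu, hit 3 v mv, h3 e me, h3 b mb, h3 u mu, h3 v mv,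
      Bool.and_self, Bool.and_eq_false_iff, Bool.true_eq_false, or_self] at hnot
  · obtain ⟨g1, g2, g3, g4⟩ := hid
    rw [heval e me] at g1
    rw [heval b mb] at g2
    rw [heval u mu] at g3
    rw [heval v mv] at g4
    exact eqz_all hin hmul hone g1 g2 g3 g4 q hq
  · exfalso
    have h := List.all_eq_true.1 hfree q₀ (List.mem_filter.2 ⟨mem_elts _, M12Sylow.mem_Q.1 hq₀⟩)
    rw [heval q₀ hq₀, hfix] at h
    simp [h1, hz] at h

end Ctx

end Cfsg.Agent.M12Sylow
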