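import Cfsg.Agent.Lib.M12Sylow.CentQuot

/-!
Consequences for the centraliser of `z`.
-/

set_option autoImplicit false
set_option linter.unusedSectionVars false

namespace Cfsg.Agent.M12Sylow

open Cfsg.Agent.G2Type
open Subgroup
open Cfsg.Agent.Involutions

universe w

variable {G : Type w} [Group G] [Finite G]

namespace Ctx

variable (X : Ctx G)

local instance (P : X.Half) : (X.R.subgroupOf P.H).Normal := X.R_normal P.H P.le

theorem norm_QG {m : M} : X.ι m ∈ normalizer (X.QG : Set G) := by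
  refine mem_normalizer_iff.2 fun y => ?_
  constructor
  · rintro ⟨q, hq, rfl⟩
    refine ⟨m * q * m⁻¹, ?_, by rw [map_mul, map_mul, map_inv]⟩
    have h := all_elts (all_elts q_normal m) q
    rw [M12Sylow.mem_Q.1 hq] at h
    exact M12Sylow.mem_Q.2 (by simpa using h)
  · rintro ⟨q, hq, e1⟩
    refine ⟨m⁻¹ * q * m, ?_, by rw [map_mul, map_mul, map_inv, e1]; group⟩
    have h := all_elts (all_elts q_normal m⁻¹) q
    rw [M12Sylow.mem_Q.1 hq, inv_inv] at h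
    exact M12Sylow.mem_Q.2 (by simpa using h)

theorem C_split {x : G} (hx : x ∈ X.C) :
    ∃ a ∈ X.U, ∃ n, n ∈ X.C ∧ n ∈ normalizer (X.QG : Set G) ∧ x = a * n := by
  obtain ⟨P⟩ := X.exists_half
  have key : ∀ y ∈ P.H, ∃ a ∈ X.U, ∃ n, n ∈ X.C ∧ n ∈ normalizer (X.QG : Set G) ∧ y = a * n := by
    intro y hy
    obtain ⟨q, m, hm, hqm⟩ := X.lift_normalizer P (y := X.π P ⟨y, hy⟩) (by
      rw [normalizer_eq_top_iff.2 (X.quot_normal P).1]; trivial)
    rw [πQ, MonoidHom.comp_apply, ← map_mul, π_eq] at hqm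
    have hr : ((X.ι q * y)⁻¹ * (m : G)) ∈ X.R := hqm
    set n₀ := (X.ι q)⁻¹ * (m : G) with hn₀
    have hn₀C : n₀ ∈ X.C := mul_mem (inv_mem (X.ι_mem_C _)) (P.le hm.1)
    have hn₀N : n₀ ∈ normalizer (X.QG : Set G) := mul_mem (inv_mem X.norm_QG) hm.2
    have h2 : y⁻¹ * n₀ ∈ X.R := by
      rw [show y⁻¹ * n₀ = (X.ι q * y)⁻¹ * (m : G) by rw [hn₀]; group]; exact hr
    have hyC := P.le hy
    have h3 : y * (y⁻¹ * n₀)⁻¹ * y⁻¹ ∈ X.R := X.conj_mem_R hyC (inv_mem h2)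
    rcases X.mem_R.1 h3 with h | h
    · exact ⟨_, h, n₀, hn₀C, hn₀N, by group⟩
    · refine ⟨_, h, X.ι z * n₀, mul_mem (X.ι_mem_C z) hn₀C, mul_mem X.norm_QG hn₀N, ?_⟩
      have hz2 : X.ι z * X.ι z = 1 := by rw [← map_mul, show (z : M) * z = 1 from Mdl.zE_sq, map_one]
      rw [show y * (y⁻¹ * n₀)⁻¹ * y⁻¹ * X.ι z * (X.ι z * n₀) =
        y * (y⁻¹ * n₀)⁻¹ * y⁻¹ * (X.ι z * X.ι z) * n₀ by group, hz2]
      group
  rcases P.cover x hx with h | h
  · exact key x h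
  · obtain ⟨a, ha, n, hn, hnN, e1⟩ := key _ h
    refine ⟨a, ha, n * (X.ι w2)⁻¹, mul_mem hn (inv_mem (X.ι_mem_C _)), mul_mem hnN (inv_mem X.norm_QG), ?_⟩
    rw [← mul_assoc, ← e1, mul_inv_cancel_right]

theorem norm_A3 {n : G} (hn : n ∈ X.C) (hnQ : n ∈ normalizer (X.QG : Set G)) :
    n ∈ normalizer ((A3.map X.ι : Subgroup G) : Set G) := by
  obtain ⟨ψ, hψ, hin, hmul, hone, hzz, hii, hK⟩ := X.exists_act hn hnQ
  have hle : (A3.map X.ι).map (MulAut.conj n).toMonoidHom ≤ A3.map X.ι := by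
    rintro _ ⟨_, ⟨x, hx, rfl⟩, rfl⟩
    have hxQ : x ∈ Q := by
      have h : (elts.all fun y => !inA3 y || inQ y) = true := by decide +kernel
      have h' := all_elts h x
      rw [mem_A3.1 hx] at h'
      exact M12Sylow.mem_Q.2 (by simpa using h')
    refine ⟨ψ x, ?_, hψ x hxQ⟩
    have h := all_elts a3_types x
    rw [mem_A3.1 hx, beq_iff_eq, eq_comm] at h
    simp only [Bool.or_eq_true, beq_iff_eq, Bool.and_eq_true] at h
    rw [SetLike.mem_coe, mem_A3]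
    have h' := all_elts a3_types (ψ x)
    rw [beq_iff_eq] at h'
    rw [h']
    rcases h with (h | h) | ⟨⟨hi, -⟩, ht⟩
    · subst h; simp [hone]
    · subst h; simp [hzz]
    · have hk : X.K (ψ x) := (hK x hxQ).2 ((X.K_iff hi).2 (by omega))
      have hi' := hii x hxQ hi
      simp only [Bool.or_eq_true, beq_iff_eq, Bool.and_eq_true]
      rcases (X.K_iff hi').1 hk with t | t | t | t
      · exact Or.inl (Or.inr ((typ_spec hi').2.2.1 t))
      · exact Or.inr ⟨⟨hi', M12Sylow.mem_Q.1 (hin x hxQ)⟩, Or.inl t⟩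
      · exact Or.inr ⟨⟨hi', M12Sylow.mem_Q.1 (hin x hxQ)⟩, Or.inr t⟩
      · exact absurd t.1 (typ_Q (hin x hxQ) hi')
  have he := Subgroup.eq_of_le_of_card_ge hle (le_of_eq (card_map_of_injective (MulAut.conj n).injective).symm)
  refine mem_normalizer_iff.2 fun a => ⟨fun ha => hle ⟨a, ha, rfl⟩, fun ha => ?_⟩
  rw [← he] at ha
  obtain ⟨a', ha', e1⟩ := ha
  rwa [(MulAut.conj n).injective e1] at ha'

theorem odd_fix {n : G} (hn : n ∈ X.C) (ho : Odd (orderOf n)) {q : M} (hq : q ∈ Q) (h1 : q ≠ 1) (hz : q ≠ z)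
    (hc : n * X.ι q * n⁻¹ * (X.ι q)⁻¹ ∈ X.U) : n ∈ X.U := by
  obtain ⟨P⟩ := X.exists_half
  have hnH := P.odd_le n hn ho
  obtain ⟨-, hc', hfix⟩ := X.quot_normal P
  have hy := hfix (X.π P ⟨n, hnH⟩) ⟨q, hq⟩ (fun h => by
      rcases (X.πQ_eq_one P).1 h with h | h
      exacts [h1 h, hz h]) (by
    rw [πQ, MonoidHom.comp_apply, ← map_mul, ← map_mul, π_eq]
    show (n * X.ι q)⁻¹ * (X.ι q * n) ∈ X.R
    rw [show (n * X.ι q)⁻¹ * (X.ι q * n) =
      (n * X.ι q)⁻¹ * (n * X.ι q * n⁻¹ * (X.ι q)⁻¹)⁻¹ * (n * X.ι q)⁻¹⁻¹ by group]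
    exact X.conj_mem_R (inv_mem (mul_mem hn (X.ι_mem_C q))) ((le_sup_left : X.U ≤ X.R) (inv_mem hc)))
  obtain ⟨m, hm⟩ := ho
  have h2 : X.π P ⟨n, hnH⟩ ^ 2 = 1 := (X.range_elementary P).2 _ hy
  have h3 : X.π P ⟨n, hnH⟩ = 1 := by
    have e : X.π P ⟨n, hnH⟩ ^ (2 * m + 1) = 1 := by
      rw [← map_pow, show (⟨n, hnH⟩ : P.H) ^ (2 * m + 1) = 1 from Subtype.ext (by
        rw [SubgroupClass.coe_pow, ← hm, pow_orderOf_eq_one]; rfl), map_one]
    rw [pow_succ, pow_mul, h2, one_pow, one_mul] at e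
    exact e
  have hnR : n ∈ X.R := (X.π_eq_one P).1 h3
  rcases X.mem_R.1 hnR with h | h
  · exact h
  · exfalso
    have hzz : X.ι z * X.ι z = 1 := by rw [← map_mul, show (z : M) * z = 1 from Mdl.zE_sq, map_one]
    have hcz : Commute n (X.ι z) := mem_centralizer_singleton_iff.1 hn
    have e1 : (n * X.ι z) ^ (2 * m + 1) = X.ι z := by
      rw [hcz.mul_pow, ← hm, pow_orderOf_eq_one, one_mul, hm, pow_succ, pow_mul, pow_two, hzz, one_pow, one_mul]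
    have := pow_mem h (2 * m + 1)
    rw [e1] at this
    exact Mdl.zE_ne (X.ι_eq_one_of_mem X.U_odd this)

theorem exists_noncomm : ∃ g ∈ X.C, g * X.ι w2 * g⁻¹ * (X.ι w2)⁻¹ ∉ X.U ⊔ X.QG := by
  obtain ⟨P⟩ := X.exists_half
  obtain ⟨g, hg, x, hxQ, hge, hx⟩ := X.exists_mover P
  refine ⟨g, P.le hg, fun h => ?_⟩
  set w := X.ι w2 with hw
  obtain ⟨hn, hc', -⟩ := X.quot_normal P
  -- both orders of acting give congruent elements
  set d := g * w * g⁻¹ * w⁻¹ with hd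
  have hdH : d ∈ P.H := (sup_le P.U_le' P.Q_le) h
  have hdQ : X.π P ⟨d, hdH⟩ ∈ (X.πQ P).range := by
    rw [← SetLike.mem_coe, coe_mul_of_right_le_normalizer_left _ _ (X.Q_le_C.trans X.C_le_norm_U),
      Set.mem_mul] at h
    obtain ⟨a, ha, _, ⟨q, hq, rfl⟩, e1⟩ := h
    refine ⟨⟨q, hq⟩, ?_⟩
    rw [πQ, MonoidHom.comp_apply, π_eq]
    show (X.ι q)⁻¹ * d ∈ X.R
    rw [← e1, show (X.ι q)⁻¹ * (a * X.ι q) = (X.ι q)⁻¹ * a * (X.ι q)⁻¹⁻¹ by group]
    exact X.conj_mem_R (inv_mem (X.ι_mem_C q)) ((le_sup_left : X.U ≤ X.R) ha)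
  have me : e ∈ Q := M12Sylow.mem_Q.2 (by decide +kernel)
  have hcen : d * X.ι e * d⁻¹ * (X.ι e)⁻¹ ∈ X.R := by
    have hh : X.π P ⟨d, hdH⟩ * X.πQ P ⟨e, me⟩ = X.πQ P ⟨e, me⟩ * X.π P ⟨d, hdH⟩ := by
      rw [← hc'] at hdQ
      exact (mem_centralizer_iff.1 hdQ _ ⟨_, rfl⟩).symm
    have hmem : d * X.ι e * d⁻¹ * (X.ι e)⁻¹ ∈ P.H :=
      mul_mem (mul_mem (mul_mem hdH (P.Q_le ⟨e, me, rfl⟩)) (inv_mem hdH)) (inv_mem (P.Q_le ⟨e, me, rfl⟩))
    refine (X.π_eq_one P (x := ⟨_, hmem⟩)).1 ?_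
    rw [show (⟨_, hmem⟩ : P.H) = ⟨d, hdH⟩ * ⟨X.ι e, P.Q_le ⟨e, me, rfl⟩⟩ * ⟨d, hdH⟩⁻¹ *
      (⟨X.ι e, P.Q_le ⟨e, me, rfl⟩⟩ : P.H)⁻¹ from Subtype.ext rfl, map_mul, map_mul, map_mul, map_inv, map_inv]
    change X.π P ⟨d, hdH⟩ * X.πQ P ⟨e, me⟩ * (X.π P ⟨d, hdH⟩)⁻¹ * (X.πQ P ⟨e, me⟩)⁻¹ = 1
    rw [hh]; group
  -- so `w2 x w2⁻¹` is congruent to `x`
  have hwe : w * X.ι e * w⁻¹ = X.ι e := by
    rw [hw, ← map_inv, ← map_mul, ← map_mul]; exact congrArg X.ι (by decide +kernel)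
  have e2 : g * (w * X.ι x * w⁻¹) * g⁻¹ = d * X.ι e * d⁻¹ := by
    rw [hd, show g * (w * X.ι x * w⁻¹) * g⁻¹ = (g * w * g⁻¹ * w⁻¹) * (w * (g * X.ι x * g⁻¹) * w⁻¹) *
      (g * w * g⁻¹ * w⁻¹)⁻¹ by group, hge, hwe]
  have h4 : g * (w * X.ι x * w⁻¹ * (X.ι x)⁻¹) * g⁻¹ ∈ X.R := by
    rw [show g * (w * X.ι x * w⁻¹ * (X.ι x)⁻¹) * g⁻¹ = g * (w * X.ι x * w⁻¹) * g⁻¹ * (g * X.ι x * g⁻¹)⁻¹
      by group, e2, hge]
    exact hcen
  have h5 : w * X.ι x * w⁻¹ * (X.ι x)⁻¹ ∈ X.R := by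
    have := X.conj_mem_R (inv_mem (P.le hg)) h4
    simpa [mul_assoc] using this
  rw [hw, ← map_inv, ← map_mul, ← map_mul, ← map_inv, ← map_mul] at h5
  rcases X.ι_mem_R h5 with h6 | h6 <;> rcases hx with rfl | rfl <;> exact absurd h6 (by decide +kernel)

theorem quot_card_half (P : X.Half) : Nat.card (X.Yq P) = 48 := by
  obtain ⟨hn, hc, hfix⟩ := X.quot_normal P
  set E := (X.πQ P).range with hE
  have hidx : E.index ≠ 1 := by
    intro h
    obtain ⟨g, hg, x, hxQ, hge, hx⟩ := X.exists_mover P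
    have hmem : X.π P ⟨g, hg⟩ ∈ E := by rw [Subgroup.index_eq_one.1 h]; exact mem_top _
    have me : e ∈ Q := M12Sylow.mem_Q.2 (by decide +kernel)
    have h2 : X.π P ⟨g, hg⟩ * X.πQ P ⟨x, hxQ⟩ * (X.π P ⟨g, hg⟩)⁻¹ = X.πQ P ⟨e, me⟩ := by
      rw [πQ, MonoidHom.comp_apply, MonoidHom.comp_apply, ← map_inv, ← map_mul, ← map_mul]
      exact congrArg (X.π P) (Subtype.ext hge)
    rw [← hc] at hmem
    rw [← mem_centralizer_iff.1 hmem _ ⟨_, rfl⟩, mul_inv_cancel_right, πQ_eq] at h2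
    change eqz x e = true at h2
    rcases hx with rfl | rfl <;> exact absurd h2 (by decide +kernel)
  -- cosets embed in the images of `ē`
  have hodd : ¬ 2 ∣ E.index := by
    obtain ⟨T, hT⟩ := X.exists_sylow P
    have : Fact (Nat.Prime 2) := ⟨Nat.prime_two⟩
    rw [hE, ← hT]; exact T.not_dvd_index
  have h3 : E.index ≤ 3 := by
    classical
    have me : e ∈ Q := M12Sylow.mem_Q.2 (by decide +kernel)
    have he1 : X.πQ P ⟨e, me⟩ ≠ 1 := fun h => by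
      rcases (X.πQ_eq_one P).1 h with h | h
      · exact Mdl.eE_ne h
      · exact Mdl.eE_ne_zE h
    let f : X.Yq P ⧸ E → X.Yq P := Quotient.lift (fun y => y * X.πQ P ⟨e, me⟩ * y⁻¹) (by
      intro y y' hyy
      have h : y⁻¹ * y' ∈ E := QuotientGroup.leftRel_apply.1 hyy
      rw [← hc] at h
      have h' := mem_centralizer_iff.1 h _ ⟨⟨e, me⟩, rfl⟩
      calc y * X.πQ P ⟨e, me⟩ * y⁻¹ = y * (X.πQ P ⟨e, me⟩ * (y⁻¹ * y')) * y'⁻¹ := by group
        _ = y * ((y⁻¹ * y') * X.πQ P ⟨e, me⟩) * y'⁻¹ := by rw [h']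
        _ = _ := by group)
    have hf : Function.Injective f := by
      rintro ⟨y⟩ ⟨y'⟩ h
      refine QuotientGroup.eq.2 (hfix _ _ he1 ?_)
      change y * X.πQ P ⟨e, me⟩ * y⁻¹ = y' * X.πQ P ⟨e, me⟩ * y'⁻¹ at h
      calc y⁻¹ * y' * X.πQ P ⟨e, me⟩ = y⁻¹ * (y' * X.πQ P ⟨e, me⟩ * y'⁻¹) * y' := by group
        _ = y⁻¹ * (y * X.πQ P ⟨e, me⟩ * y⁻¹) * y' := by rw [h]
        _ = _ := by group
    have hrange : ∀ c, f c ∈ ({X.πQ P ⟨e, me⟩, X.πQ P ⟨w1, M12Sylow.mem_Q.2 (by decide +kernel)⟩,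
        X.πQ P ⟨e * w1, M12Sylow.mem_Q.2 (by decide +kernel)⟩} : Finset (X.Yq P)) := by
      rintro ⟨y⟩
      obtain ⟨s, m, hm, hsm⟩ := X.lift_normalizer P (y := y) (by rw [normalizer_eq_top_iff.2 hn]; trivial)
      obtain ⟨ψ, hψ, hin, -, -, hzz, hii, hK⟩ := X.exists_act (P.le hm.1) hm.2
      have key : X.π P m * X.πQ P ⟨e, me⟩ * (X.π P m)⁻¹ = X.πQ P ⟨ψ e, hin e me⟩ := by
        rw [πQ, MonoidHom.comp_apply, MonoidHom.comp_apply, ← map_inv, ← map_mul, ← map_mul]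
        refine congrArg (X.π P) (Subtype.ext ?_)
        exact (hψ e me).symm
      have hval : y * X.πQ P ⟨e, me⟩ * y⁻¹ = X.πQ P ⟨ψ e, hin e me⟩ := by
        have hmemE : y * X.πQ P ⟨e, me⟩ * y⁻¹ ∈ E := hn.conj_mem _ ⟨_, rfl⟩ y
        have hsc : X.πQ P s * (y * X.πQ P ⟨e, me⟩ * y⁻¹) = y * X.πQ P ⟨e, me⟩ * y⁻¹ * X.πQ P s :=
          congrArg Subtype.val ((X.range_elementary P).1.is_comm.comm (⟨_, ⟨s, rfl⟩⟩ : E) ⟨_, hmemE⟩)
        rw [← key, ← hsm, show X.πQ P s * y * X.πQ P ⟨e, me⟩ * (X.πQ P s * y)⁻¹ =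
          X.πQ P s * (y * X.πQ P ⟨e, me⟩ * y⁻¹) * (X.πQ P s)⁻¹ by group, hsc, mul_inv_cancel_right]
      show y * X.πQ P ⟨e, me⟩ * y⁻¹ ∈ _
      rw [hval]
      simp only [Finset.mem_insert, Finset.mem_singleton, πQ_eq]
      have hi := hii e me inv_e
      have hk : X.K (ψ e) := (hK e me).2 X.K_e
      have h15 : typ (ψ e) = 1 ∨ typ (ψ e) = 5 := by
        rcases (X.K_iff hi).1 hk with t | t | t | t
        · exfalso
          have h0 := (typ_spec hi).2.2.1 t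
          have := hψ e me
          rw [h0, ← X.conj_z (P.le hm.1)] at this
          exact Mdl.eE_ne_zE (X.inj ((MulAut.conj (m : G)).injective this)).symm
        · exact Or.inl t
        · exact Or.inr t
        · exact absurd t.1 (typ_Q (hin e me) hi)
      have hcls : (elts.all fun x => !(inQ x && isInv x && (typ x == 1 || typ x == 5)) ||
          (eqz x e || eqz x w1 || eqz x (e * w1))) = true := by decide +kernel
      have h := all_elts hcls (ψ e)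
      rw [M12Sylow.mem_Q.1 (hin e me), hi] at h
      rcases h15 with t | t <;> rw [t] at h <;> simpa [or_assoc] using h
    calc E.index = Nat.card (X.Yq P ⧸ E) := rfl
      _ ≤ Nat.card ({X.πQ P ⟨e, me⟩, X.πQ P ⟨w1, M12Sylow.mem_Q.2 (by decide +kernel)⟩,
        X.πQ P ⟨e * w1, M12Sylow.mem_Q.2 (by decide +kernel)⟩} : Finset (X.Yq P)) :=
          Nat.card_le_card_of_injective (fun c => ⟨f c, hrange c⟩) fun c d h => hf (congrArg Subtype.val h)
      _ ≤ 3 := by rw [Nat.card_eq_fintype_card, Fintype.card_coe]; exact Finset.card_le_three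
  have hpos : E.index ≠ 0 := Subgroup.index_ne_zero_of_finite
  have h4 := E.card_mul_index
  rw [show E.index = 3 by omega, hE, X.range_card P] at h4
  omega

theorem C_card : Nat.card X.C = 192 * Nat.card X.U := by
  obtain ⟨P⟩ := X.exists_half
  have hR : Nat.card X.R = 2 * Nat.card X.U := by
    let f : X.U × Bool → X.R := fun s => ⟨(s.1 : G) * bif s.2 then X.ι z else 1,
      mul_mem ((le_sup_left : X.U ≤ X.R) s.1.2) (by cases s.2 <;> simp [X.z_mem_R])⟩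
    have hf : Function.Bijective f := by
      constructor
      · rintro ⟨⟨a, ha⟩, i⟩ ⟨⟨c, hc⟩, j⟩ h
        have h' : a * (bif i then X.ι z else 1) = c * (bif j then X.ι z else 1) := congrArg Subtype.val h
        have hne : X.ι z ∉ X.U := fun h0 => Mdl.zE_ne (X.ι_eq_one_of_mem X.U_odd h0)
        cases i <;> cases j <;> simp only [cond_true, cond_false, mul_one] at h'
        · subst h'; rfl
        · exact absurd (by rw [show X.ι z = c⁻¹ * a by rw [h']; group]; exact mul_mem (inv_mem hc) ha) hne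
        · exact absurd (by rw [show X.ι z = a⁻¹ * c by rw [← h']; group]; exact mul_mem (inv_mem ha) hc) hne
        · obtain rfl := mul_right_cancel h'; rfl
      · rintro ⟨x, hx⟩
        rcases X.mem_R.1 hx with h | h
        · exact ⟨(⟨x, h⟩, false), Subtype.ext (mul_one x)⟩
        · refine ⟨(⟨_, h⟩, true), Subtype.ext ?_⟩
          show x * X.ι z * X.ι z = x
          rw [mul_assoc, ← map_mul, show (z : M) * z = 1 from Mdl.zE_sq, map_one, mul_one]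
    rw [← Nat.card_congr (Equiv.ofBijective f hf), Nat.card_prod, Nat.card_eq_fintype_card (α := Bool),
      Fintype.card_bool, mul_comm]
  have h1 : Nat.card P.H = 48 * Nat.card X.R := by
    rw [(X.R.subgroupOf P.H).card_eq_card_quotient_mul_card_subgroup, Nat.card_congr
      (subgroupOfEquivOfLe (sup_le P.U_le' (zpowers_le.2 (P.Q_le ⟨z, M12Sylow.mem_Q.2 (by decide +kernel), rfl⟩)))).toEquiv]
    exact congrArg (· * _) (X.quot_card_half P)
  have h2 := (P.H.subgroupOf X.C).card_mul_index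
  rw [Nat.card_congr (subgroupOfEquivOfLe P.le).toEquiv] at h2
  change Nat.card P.H * P.H.relIndex X.C = _ at h2
  rw [P.relIndex, h1, hR] at h2
  rw [← h2]; ring

end Ctx

end Cfsg.Agent.M12Sylow
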