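import Cfsg.Agent.Lib.M12Sylow.Top
import Cfsg.Agent.Lib.Involutions.Isolated
import Cfsg.Agent.Lib.Coprime.Generation

/-!
An isolated involution with a four-group of involutions whose centralisers lie in a subgroup: the whole
group lies there.
-/

set_option autoImplicit false
set_option linter.unusedSectionVars false

namespace Cfsg.Agent.M12Sylow

open Subgroup

universe w

variable {H : Type w} [Group H] [Finite H]

/-- A group with an isolated involution is its odd core times the centraliser. -/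
theorem isolated_split {z : H} (hz : Cfsg.IsIsolatedInvolution z) (x : H) :
    ∃ a ∈ Cfsg.pPrimeCore 2 H, ∃ c ∈ centralizer ({z} : Set H), x = a * c := by
  set N := Cfsg.pPrimeCore 2 H
  have hNn : N.Normal := Cores.pPrimeCore_normal 2
  have hzN : z ∉ N := fun h => by
    have h1 : orderOf z ∣ Nat.card N := by rw [← Subgroup.orderOf_mk z h]; exact orderOf_dvd_natCard _
    rw [hz.1] at h1
    exact Nat.not_even_iff_odd.2 (odd_pPrimeCore H) (even_iff_two_dvd.2 h1)
  obtain ⟨hiso, hcen⟩ := Involutions.Isolated.quotient hz N hzN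
  have hO : Cfsg.oddCore (H ⧸ N) = ⊥ := Cores.pPrimeCore_quotient_self 2
  have hc := ZStar.Main.mem_center_of_isolated hO hiso
  have hx : (QuotientGroup.mk x : H ⧸ N) ∈ (centralizer ({z} : Set H)).map (QuotientGroup.mk' N) := by
    rw [← hcen, mem_centralizer_singleton_iff]
    exact mem_center_iff.1 hc _
  obtain ⟨c, hcz, e⟩ := hx
  have hmem : x * c⁻¹ ∈ N := by
    have e' : (QuotientGroup.mk c : H ⧸ N) = QuotientGroup.mk x := e
    rw [QuotientGroup.eq] at e'
    have := hNn.conj_mem _ e' c
    simpa [mul_assoc] using this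
  exact ⟨x * c⁻¹, hmem, c, hcz, by group⟩

/-- With an isolated involution, a subgroup containing the centralisers of a four-group is everything. -/
theorem eq_top_of_isolated {z e : H} {K : Subgroup H} (hz : Cfsg.IsIsolatedInvolution z) (he : orderOf e = 2)
    (hne : z ≠ e) (hcomm : z * e = e * z) (hCz : centralizer ({z} : Set H) ≤ K)
    (hCe : centralizer ({e} : Set H) ≤ K) (hCze : centralizer ({z * e} : Set H) ≤ K) : K = ⊤ := by
  have hz2 := Involutions.Basic.inv_sq_one hz.1
  have he2 := Involutions.Basic.inv_sq_one he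
  set A : Subgroup H :=
    { carrier := {1, z, e, z * e}
      one_mem' := Or.inl rfl
      mul_mem' := by
        have e1 : z * (z * e) = e := by rw [← mul_assoc, hz2, one_mul]
        have e2 : e * (z * e) = z := by rw [hcomm, ← mul_assoc, he2, one_mul]
        have e3 : z * e * z = e := by rw [hcomm, mul_assoc, hz2, mul_one]
        have e4 : z * e * e = z := by rw [mul_assoc, he2, mul_one]
        have e5 : z * e * (z * e) = 1 := by rw [← mul_assoc, e3, he2]
        rintro a c (rfl | rfl | rfl | rfl) (rfl | rfl | rfl | rfl) <;>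
          simp [hz2, he2, e1, e2, e3, e4, e5, ← hcomm]
      inv_mem' := by
        have i1 : z⁻¹ = z := inv_eq_of_mul_eq_one_right hz2
        have i2 : e⁻¹ = e := inv_eq_of_mul_eq_one_right he2
        rintro a (rfl | rfl | rfl | rfl) <;> simp [i1, i2, ← hcomm] } with hA
  have hAc : IsMulCommutative A := by
    refine ⟨⟨?_⟩⟩
    rintro ⟨a, ha⟩ ⟨c, hc⟩
    refine Subtype.ext ?_
    show a * c = c * a
    have hcz : Commute z e := hcomm
    rcases ha with h | h | h | h <;> rcases hc with h' | h' | h' | h' <;> rw [h, h'] <;>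
      first
        | exact (Commute.refl _).eq
        | exact (Commute.one_left _).eq
        | exact (Commute.one_right _).eq
        | exact hcz.eq
        | exact hcz.symm.eq
        | exact ((Commute.refl z).mul_right hcz).eq
        | exact ((Commute.refl z).mul_right hcz).symm.eq
        | exact (hcz.symm.mul_right (Commute.refl e)).eq
        | exact (hcz.symm.mul_right (Commute.refl e)).symm.eq
  have hsq : ∀ a ∈ A, a * a = 1 := by
    rintro a (rfl | rfl | rfl | rfl)
    · exact mul_one 1
    · exact hz2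
    · exact he2
    · rw [hcomm, mul_assoc, ← mul_assoc z e z, hcomm, mul_assoc e z z, hz2, mul_one, he2]
  have hnc : ¬ IsCyclic A := by
    intro h
    obtain ⟨g, hg⟩ := h.exists_generator
    have hg2 : g ^ 2 = 1 := Subtype.ext (by rw [SubgroupClass.coe_pow, pow_two]; exact hsq g g.2)
    have hcases : ∀ a : A, a = 1 ∨ a = g := by
      intro a
      obtain ⟨k, hk⟩ := mem_zpowers_iff.1 (hg a)
      rcases Int.even_or_odd' k with ⟨j, rfl | rfl⟩
      · left; rw [← hk, zpow_mul, zpow_two, ← pow_two, hg2, one_zpow]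
      · right; rw [← hk, zpow_add, zpow_mul, zpow_two, ← pow_two, hg2, one_zpow, one_mul, zpow_one]
    rcases hcases ⟨z, Or.inr (Or.inl rfl)⟩ with h1 | h1
    · exact Involutions.Basic.ne_one hz.1 (congrArg Subtype.val h1)
    rcases hcases ⟨e, Or.inr (Or.inr (Or.inl rfl))⟩ with h2 | h2
    · exact Involutions.Basic.ne_one he (congrArg Subtype.val h2)
    exact hne (congrArg Subtype.val (h1.trans h2.symm))
  have hcop : (Nat.card A).Coprime (Nat.card (Cfsg.pPrimeCore 2 H)) := by
    have hp : IsPGroup 2 A := fun a => ⟨1, Subtype.ext (by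
      rw [SubgroupClass.coe_pow, pow_one, pow_two]; exact hsq a a.2)⟩
    have : Fact (Nat.Prime 2) := ⟨Nat.prime_two⟩
    obtain ⟨n, hn⟩ := IsPGroup.iff_card.1 hp
    rw [hn]
    exact Nat.Coprime.pow_left n (Nat.coprime_two_left.2 (odd_pPrimeCore H))
  have hNn : (Cfsg.pPrimeCore 2 H).Normal := Cores.pPrimeCore_normal 2
  have hO : Cfsg.pPrimeCore 2 H ≤ K := by
    rw [← Coprime.fixedGen_eq hnc (by rw [normalizer_eq_top_iff.2 hNn]; exact le_top) hcop]
    refine iSup₂_le fun a ha => inf_le_right.trans ?_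
    rcases ha.1 with h | h | h | h <;> subst h
    exacts [absurd rfl ha.2, hCz, hCe, hCze]
  refine eq_top_iff.2 fun x _ => ?_
  obtain ⟨a, ha, c, hc, rfl⟩ := isolated_split hz x
  exact mul_mem (hO ha) (hCz hc)

/-- A group of order 60 with a subgroup of order 15 has an involution of any given four-group centralising
an element of order five. -/
theorem five_of_fifteen (h60 : Nat.card H = 60) {D : Subgroup H} (h15 : Nat.card D = 15) {s t : H}
    (hs : orderOf s = 2) (ht : orderOf t = 2) (_hne : s ≠ t) (_hcomm : s * t = t * s) :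
    ∃ x : H, (x = s ∨ x = t ∨ x = s * t) ∧ ∃ p : H, orderOf p = 5 ∧ p * x = x * p := by
  have hp : Fact (Nat.Prime 5) := ⟨by norm_num⟩
  obtain ⟨P⟩ : Nonempty (Sylow 5 H) := inferInstance
  obtain ⟨⟨p, hpD⟩, hpo⟩ := exists_prime_orderOf_dvd_card' (G := D) 5 (by rw [h15]; norm_num)
  rw [Subgroup.orderOf_mk] at hpo
  have hcardP : Nat.card (zpowers p) = 5 ^ (Nat.card H).factorization 5 := by
    rw [Nat.card_zpowers, hpo, h60, show (60 : ℕ) = 5 ^ 1 * 12 by norm_num,
      Nat.factorization_mul (by norm_num) (by norm_num), Finsupp.add_apply,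
      Nat.Prime.factorization_pow (by norm_num : Nat.Prime 5), Finsupp.single_eq_same,
      Nat.factorization_eq_zero_of_not_dvd (by norm_num : ¬ 5 ∣ 12)]
    norm_num
  let T : Sylow 5 H := Sylow.ofCard (zpowers p) hcardP
  have hT : (T : Subgroup H) = zpowers p := rfl
  -- `D` normalises it
  have hDn : D ≤ normalizer ((T : Subgroup H) : Set H) := by
    let TD : Sylow 5 D := T.subtype (by rw [hT]; exact zpowers_le.2 hpD)
    have h1 : Nat.card (Sylow 5 D) ∣ 15 := h15 ▸ (Sylow.card_dvd_index TD).trans (Subgroup.index_dvd_card _)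
    have h2 := card_sylow_modEq_one 5 D
    have h3 : Nat.card (Sylow 5 D) = 1 := by
      have hle := Nat.le_of_dvd (by norm_num) h1
      unfold Nat.ModEq at h2
      interval_cases hN : Nat.card (Sylow 5 D) <;> omega
    have : Subsingleton (Sylow 5 D) := (Nat.card_eq_one_iff_unique.1 h3).1
    have hn : (TD : Subgroup D).Normal := Sylow.normal_of_subsingleton TD
    intro d hd
    refine mem_normalizer_iff.2 fun y => ?_
    constructor
    · intro hy
      have hyD : y ∈ D := (zpowers_le.2 hpD) (hT ▸ hy)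
      exact hn.conj_mem ⟨y, hyD⟩ hy ⟨d, hd⟩
    · intro hy
      have hyD : d * y * d⁻¹ ∈ D := (zpowers_le.2 hpD) (hT ▸ hy)
      have h := hn.conj_mem ⟨_, hyD⟩ hy (⟨d, hd⟩ : D)⁻¹
      have h' : d⁻¹ * (d * y * d⁻¹) * d⁻¹⁻¹ ∈ (T : Subgroup H) := h
      simpa [mul_assoc] using h'
  have hn1 : Nat.card (Sylow 5 H) = 1 := by
    have h2 := card_sylow_modEq_one 5 H
    have h3 : Nat.card (Sylow 5 H) ∣ 4 := by
      rw [T.card_eq_index_normalizer]
      have := Subgroup.index_dvd_of_le hDn
      have h4 := D.card_mul_index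
      rw [h15, h60] at h4
      rwa [show D.index = 4 by omega] at this
    have hle := Nat.le_of_dvd (by norm_num) h3
    unfold Nat.ModEq at h2
    interval_cases hN : Nat.card (Sylow 5 H) <;> omega
  have : Subsingleton (Sylow 5 H) := (Nat.card_eq_one_iff_unique.1 hn1).1
  have hTn : (zpowers p).Normal := hT ▸ Sylow.normal_of_subsingleton T
  have hact : ∀ x : H, orderOf x = 2 → x * p * x⁻¹ = p ∨ x * p * x⁻¹ = p⁻¹ := by
    intro x hx
    obtain ⟨j, hj⟩ := mem_zpowers_iff.1 (hTn.conj_mem p (mem_zpowers p) x)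
    have h2 : p ^ (j * j) = p := by
      rw [zpow_mul, hj, conj_zpow, hj, Involutions.Basic.inv_eq hx,
        show x * (x * p * x) * x = (x * x) * p * (x * x) by group, Involutions.Basic.inv_sq_one hx]
      group
    have h3 : (5 : ℤ) ∣ j * j - 1 := by
      have := orderOf_dvd_iff_zpow_eq_one.2 (show p ^ (j * j - 1) = 1 by rw [zpow_sub_one, h2, mul_inv_cancel])
      rwa [hpo] at this
    have h5 : (5 : ℤ) ∣ j - 1 ∨ (5 : ℤ) ∣ j + 1 :=
      Int.Prime.dvd_mul' (p := 5) (by norm_num) (by rwa [show (j - 1) * (j + 1) = j * j - 1 by ring])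
    rw [← hj]
    rcases h5 with h5 | h5
    · left
      have h6 : p ^ (j - 1) = 1 := orderOf_dvd_iff_zpow_eq_one.1 (by rw [hpo]; exact h5)
      rwa [zpow_sub_one, mul_inv_eq_one] at h6
    · right
      have h6 : p ^ (j + 1) = 1 := orderOf_dvd_iff_zpow_eq_one.1 (by rw [hpo]; exact h5)
      rw [zpow_add_one] at h6
      exact eq_inv_of_mul_eq_one_left h6
  have hfix : ∀ x : H, x * p * x⁻¹ = p → p * x = x * p := fun x h => (mul_inv_eq_iff_eq_mul.1 h).symm
  rcases hact s hs with e1 | e1
  · exact ⟨s, Or.inl rfl, p, hpo, hfix s e1⟩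
  rcases hact t ht with e2 | e2
  · exact ⟨t, Or.inr (Or.inl rfl), p, hpo, hfix t e2⟩
  refine ⟨s * t, Or.inr (Or.inr rfl), p, hpo, hfix _ ?_⟩
  rw [show s * t * p * (s * t)⁻¹ = s * (t * p * t⁻¹) * s⁻¹ by group, e2,
    show s * p⁻¹ * s⁻¹ = (s * p * s⁻¹)⁻¹ by group, e1, inv_inv]

end Cfsg.Agent.M12Sylow
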