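import Cfsg.Agent.Lib.M12Central.Model
import Cfsg.Agent.Lib.M12Central.Order
import Cfsg.Agent.Lib.M12Order.Mathieu

/-!
The centraliser of a non-central involution of the Mathieu group of degree 12 has order 240.
-/

set_option autoImplicit false
set_option linter.unusedSectionVars false

namespace Cfsg.Agent.M12Sylow

open Cfsg.Agent.M12Central
open Subgroup

universe w

theorem card_cent_noncentral {H : Type w} [Group H] [Finite H] (h : Cfsg.Spor.IsoM12 H) {t b : H}
    {S : Subgroup H} (hS : Nat.card S = 64) (htS : t ∈ S) (hc : ∀ x ∈ S, x * t = t * x)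
    (ht : orderOf t = 2) (hb : orderOf b = 2) (hbt : ¬ IsConj t b) :
    Nat.card (centralizer ({b} : Set H)) = 240 := by
  have hp : Fact (Nat.Prime 2) := ⟨Nat.prime_two⟩
  obtain ⟨θ⟩ := h
  have hM := M12Order.Mathieu.isM12_M12
  have hs : IsSimpleGroup ↥Cfsg.Spor.M12 := hM.1
  have hna : ¬ IsMulCommutative ↥Cfsg.Spor.M12 := fun hab => by
    have hcard := hM.2
    let : CommGroup ↥Cfsg.Spor.M12 := { mul_comm := hab.is_comm.comm }
    have hpr := IsSimpleGroup.prime_card (α := ↥Cfsg.Spor.M12)
    rw [hcard] at hpr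
    norm_num at hpr
  set u := θ t with hu
  have hu2 : orderOf u = 2 := by rw [hu, MulEquiv.orderOf_eq, ht]
  have hcardT : Nat.card (S.map θ.toMonoidHom) = 2 ^ (Nat.card ↥Cfsg.Spor.M12).factorization 2 := by
    rw [card_map_of_injective (f := θ.toMonoidHom) θ.injective, hS, hM.2,
      show (95040 : ℕ) = 2 ^ 6 * 1485 by norm_num, Nat.factorization_mul (by norm_num) (by norm_num),
      Finsupp.add_apply, Nat.Prime.factorization_pow Nat.prime_two, Finsupp.single_eq_same,
      Nat.factorization_eq_zero_of_not_dvd (by norm_num : ¬ 2 ∣ 1485)]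
    norm_num
  have htc : Cfsg.IsTwoCentralInvolution u := by
    refine ⟨hu2, Sylow.ofCard _ hcardT, ⟨t, htS, rfl⟩, ?_⟩
    rintro _ ⟨x, hx, rfl⟩
    show θ x * θ t = θ t * θ x
    rw [← map_mul, ← map_mul, hc x hx]
  obtain ⟨D⟩ := Model.exists_local u htc u hu2 (MulEquiv.refl _)
  have hf := Involutions.OrderFormula.order_formula u D.b D.orderOf_t D.orderOf_b D.not_conj_b
    (D.two_classes hna)
  rw [D.alpha_count hna, D.card_centralizer, hM.2] at hf
  have h240 : Nat.card (centralizer ({D.b} : Set ↥Cfsg.Spor.M12)) = 240 := by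
    rcases D.centB_count hna with ⟨h1, h2⟩ | ⟨h1, -⟩
    · rw [h1, h2] at hf; norm_num at hf
    · exact h1
  have hbb : IsConj D.b (θ b) := by
    rcases D.two_classes hna (θ b) (by rw [MulEquiv.orderOf_eq, hb]) with h | h
    · exfalso
      have := θ.symm.toMonoidHom.map_isConj h
      simp only [MulEquiv.coe_toMonoidHom, hu, MulEquiv.symm_apply_apply] at this
      exact hbt this
    · exact h
  rw [← h240, Local.card_centralizer_conj hbb, ← Nat.card_congr
    ((θ.subgroupMap (centralizer ({b} : Set H))).trans (MulEquiv.subgroupCongr (show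
      (centralizer ({b} : Set H)).map θ.toMonoidHom = centralizer ({θ b} : Set ↥Cfsg.Spor.M12) from ?_))).toEquiv]
  ext y
  rw [Subgroup.mem_map_equiv, mem_centralizer_singleton_iff, mem_centralizer_singleton_iff,
    ← θ.apply_eq_iff_eq, map_mul, map_mul, θ.apply_symm_apply]

end Cfsg.Agent.M12Sylow
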