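import Cfsg.Agent.Lib.M12Sylow.Top
import Cfsg.Agent.Lib.M12Sylow.Isolated
import Cfsg.Agent.Lib.M12Sylow.Mathieu

/-!
The centraliser of `w0` lies in the normaliser of the signalizer closure.
-/

set_option autoImplicit false
set_option linter.unusedSectionVars false

namespace Cfsg.Agent.M12Sylow

open Cfsg.Agent.G2Type
open Subgroup
open Cfsg.Agent.Involutions

universe w

variable {G : Type w} [Group G] [Finite G]

namespace Ctx

variable (X : Ctx G)

/-- The centraliser of `w0`. -/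
abbrev HJ : Subgroup G := centralizer ({X.ι w0} : Set G)

theorem typ_w0 : typ w0 = 4 := typ_reps.2.2.2.2.1

theorem into_T {P : Subgroup G} (hP : IsPGroup 2 P) (hPH : P ≤ X.HJ) :
    ∃ h ∈ X.HJ, ∀ a ∈ P, ∃ m ∈ cent w0, X.ι m = h * a * h⁻¹ := by
  obtain ⟨g, hg, hm⟩ := X.into_cent inv_w0 X.hw0 (by rw [typ_w0]; norm_num) hP hPH
  exact ⟨g, hg, fun a ha => by
    obtain ⟨m, hm', e1⟩ := hm a ha
    exact ⟨m, hm', e1⟩⟩

theorem K_cent_w0 {m : M} (hm : m ∈ cent w0) (hi : isInv m = true) (hK : X.K m) :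
    m = z ∨ m = e ∨ m = e' := by
  have hc : (elts.all fun x => !(isInv x && x * w0 == w0 * x) ||
      (x == z || x == e || x == e' || typ x == 2 || typ x == 3 || typ x == 4)) = true := by decide +kernel
  have h := all_elts hc m
  rw [hi, show (m * w0 == w0 * m) = true from beq_iff_eq.2 (mem_cent.1 hm)] at h
  simp only [Bool.and_self, Bool.not_true, Bool.false_or, Bool.or_eq_true, beq_iff_eq] at h
  rw [X.K_iff hi] at hK
  rcases h with ((((h | h) | h) | h) | h) | h
  · exact Or.inl h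
  · exact Or.inr (Or.inl h)
  · exact Or.inr (Or.inr h)
  all_goals rw [h] at hK; simp at hK

theorem u_mem_HJ : X.ι u ∈ X.HJ := X.commute_of_mem_cent (mem_cent.2 (by decide +kernel))

theorem Z0_mem_HJ {x : M} (hx : x ∈ Z0) : X.ι x ∈ X.HJ := X.commute_of_mem_cent (mem_cent.2 (by
  have h : (elts.all fun y => !inZ0 y || y * w0 == w0 * y) = true := by decide +kernel
  have h' := all_elts h x
  rw [mem_Z0.1 hx] at h'
  simpa using h'))

theorem K_Z0 {x : M} (hx : x ∈ Z0) (h1 : x ≠ 1) : X.K x := (X.A3_class (Z0_sub x hx) h1).2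

/-- Without fusion of `z` to `e` in `C(w0)` that group lies in the normaliser. -/
theorem HJ_le_of_not_fused (h : ∀ k ∈ X.HJ, k * X.ι z * k⁻¹ ≠ X.ι e) : X.HJ ≤ X.MG := by
  set H := X.HJ
  have mz : z ∈ Z0 := mem_Z0.2 (by decide +kernel)
  have me : e ∈ Z0 := mem_Z0.2 (by decide +kernel)
  have me' : e' ∈ Z0 := mem_Z0.2 (by decide +kernel)
  have h' : ∀ k ∈ H, k * X.ι z * k⁻¹ ≠ X.ι e' := by
    intro k hk hke
    refine h (X.ι u * k) (mul_mem X.u_mem_HJ hk) ?_
    rw [show X.ι u * k * X.ι z * (X.ι u * k)⁻¹ = X.ι u * (k * X.ι z * k⁻¹) * (X.ι u)⁻¹ by group, hke,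
      ← map_inv, ← map_mul, ← map_mul]
    exact congrArg X.ι (by decide +kernel)
  let zH : H := ⟨X.ι z, X.Z0_mem_HJ mz⟩
  let eH : H := ⟨X.ι e, X.Z0_mem_HJ me⟩
  have hiso : Cfsg.IsIsolatedInvolution zH := by
    refine ⟨by rw [Subgroup.orderOf_mk]; exact X.orderOf_ι inv_z, fun g hg => ?_⟩
    refine Subtype.ext ?_
    set x := (g : G) * X.ι z * (g : G)⁻¹ with hx
    show x = X.ι z
    have hxH : x ∈ H := mul_mem (mul_mem g.2 (X.Z0_mem_HJ mz)) (inv_mem g.2)
    have hxC : x * X.ι z = X.ι z * x := (congrArg Subtype.val hg.eq).symm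
    -- move `⟨x, z⟩` into the Sylow subgroup
    have hP : IsPGroup 2 ↥(zpowers x ⊔ zpowers (X.ι z)) :=
      isPGroup_sup_zpowers (IsPGroup.of_card (n := 1) (by
        rw [Nat.card_zpowers, hx, Basic.orderOf_conj, X.orderOf_ι inv_z, pow_one])) (n := 1)
        (by rw [pow_one, pow_two, ← map_mul, (isInv_iff.1 inv_z).1, map_one])
        (zpowers_le.2 (mem_centralizer_singleton_iff.2 hxC))
    obtain ⟨k, hk, hm⟩ := X.into_T hP (sup_le (zpowers_le.2 hxH) (zpowers_le.2 (X.Z0_mem_HJ mz)))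
    obtain ⟨a, ha, hae⟩ := hm x ((le_sup_left : zpowers x ≤ _) (mem_zpowers x))
    obtain ⟨c, hc, hce⟩ := hm (X.ι z) ((le_sup_right : zpowers (X.ι z) ≤ _) (mem_zpowers _))
    have hai : isInv a = true := X.isInv_of_orderOf (by
      rw [hae, Basic.orderOf_conj, hx, Basic.orderOf_conj, X.orderOf_ι inv_z])
    have hci : isInv c = true := X.isInv_of_orderOf (by rw [hce, Basic.orderOf_conj, X.orderOf_ι inv_z])
    have hae' : k * (g : G) * X.ι z * (k * (g : G))⁻¹ = X.ι a := by rw [hae, hx]; group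
    have hne : ∀ y, y = e ∨ y = e' → a ≠ y ∧ c ≠ y := by
      intro y hy
      constructor <;> intro he <;> subst he <;> rcases hy with rfl | rfl
      exacts [h _ (mul_mem hk g.2) hae', h' _ (mul_mem hk g.2) hae', h _ hk hce.symm, h' _ hk hce.symm]
    have ea : a = z := by
      rcases X.K_cent_w0 ha hai (IsConj.symm (isConj_iff.2 ⟨_, hae'⟩)) with e1 | e1 | e1
      · exact e1
      · exact absurd e1 (hne e (Or.inl rfl)).1
      · exact absurd e1 (hne e' (Or.inr rfl)).1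
    have ec : c = z := by
      rcases X.K_cent_w0 hc hci (IsConj.symm (isConj_iff.2 ⟨_, hce.symm⟩)) with e1 | e1 | e1
      · exact e1
      · exact absurd e1 (hne e (Or.inl rfl)).2
      · exact absurd e1 (hne e' (Or.inr rfl)).2
    rw [ea] at hae; rw [ec] at hce
    exact (MulAut.conj k).injective (hae.symm.trans hce)
  have hcom : zH * eH = eH * zH := Subtype.ext (by
    show X.ι z * X.ι e = X.ι e * X.ι z
    rw [← map_mul, ← map_mul, Mdl.zE_central e])
  have hC : ∀ x : M, x ∈ Z0 → x ≠ 1 → ∀ y : H, (y : G) * X.ι x = X.ι x * y → (y : G) ∈ X.MG :=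
    fun x hx h1 y hy => X.cent_le_MG (X.ι_mem_MG x) (X.K_Z0 hx h1) (mem_centralizer_singleton_iff.2 hy)
  have htop := eq_top_of_isolated (K := X.MG.subgroupOf H) hiso (e := eH)
    (by rw [Subgroup.orderOf_mk]; exact X.orderOf_ι inv_e)
    (fun hh => Mdl.eE_ne_zE (X.inj (congrArg Subtype.val hh).symm)) hcom
    (fun y hy => hC z mz (by decide +kernel) y (congrArg Subtype.val (mem_centralizer_singleton_iff.1 hy)))
    (fun y hy => hC e me (by decide +kernel) y (congrArg Subtype.val (mem_centralizer_singleton_iff.1 hy)))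
    (fun y hy => hC e' me' (by decide +kernel) y (by
      rw [show (e' : M) = z * e from rfl, map_mul]
      exact congrArg Subtype.val (mem_centralizer_singleton_iff.1 hy)))
  exact subgroupOf_eq_top.1 htop

/-- In the first quotient no element of `C(w0)` in the normaliser moves `z` to `e`. -/
theorem not_fused_of_normal {N : Subgroup X.Mq} (hN : N.Normal) (hab : IsMulCommutative N)
    (h2 : ∀ n ∈ N, n ^ 2 = 1) (h8 : Nat.card N = 8) : ∀ k ∈ X.HJ, k * X.ι z * k⁻¹ ≠ X.ι e := by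
  have hp : Fact (Nat.Prime 2) := ⟨Nat.prime_two⟩
  have hcardG : ∀ R : Subgroup X.Mq, IsPGroup 2 R → Nat.card R ≤ 64 := by
    intro R hR
    obtain ⟨n, hn⟩ := IsPGroup.iff_card.1 hR
    have h1 : 2 ^ n ∣ Nat.card G := by
      rw [← hn]
      exact (card_subgroup_dvd_card R).trans ((Subgroup.card_quotient_dvd_card _).trans (card_subgroup_dvd_card X.MG))
    obtain ⟨R', hR'⟩ := Sylow.exists_subgroup_card_pow_prime 2 h1
    rw [hn, ← hR']
    exact X.card_le_sixtyfour (IsPGroup.of_card hR')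
  have hsub : N ≤ X.ιq.range := by
    have hNp : IsPGroup 2 N := IsPGroup.of_card (n := 3) (by rw [h8]; norm_num)
    have hS : IsPGroup 2 X.ιq.range := IsPGroup.of_card (n := 6) (by
      rw [← Nat.card_congr (MonoidHom.ofInjective X.ιq_inj).toEquiv, Mdl.card_eq]; norm_num)
    have hsup : IsPGroup 2 ↥(N ⊔ X.ιq.range) :=
      IsPGroup.to_sup_of_normal_left' hNp hS (by rw [normalizer_eq_top_iff.2 hN]; exact le_top)
    have he : X.ιq.range = N ⊔ X.ιq.range := Subgroup.eq_of_le_of_card_ge le_sup_right (by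
      rw [← Nat.card_congr (MonoidHom.ofInjective X.ιq_inj).toEquiv, Mdl.card_eq]
      exact (hcardG _ hsup).trans (by norm_num))
    rw [he]; exact le_sup_left
  set NM := N.comap X.ιq
  have hNMn : NM.Normal := hN.comap _
  have hcomm : ∀ a ∈ NM, ∀ c ∈ NM, a * c = c * a := fun a ha c hc => X.ιq_inj (by
    rw [map_mul, map_mul]
    exact congrArg Subtype.val (hab.is_comm.comm (⟨_, ha⟩ : N) ⟨_, hc⟩))
  have hcardNM : Nat.card NM = 8 := by
    rw [show Nat.card NM = Nat.card (NM.map X.ιq) from (card_map_of_injective X.ιq_inj).symm,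
      Subgroup.map_comap_eq_self hsub, h8]
  have hmem : ∀ x ∈ NM, x ∈ A3 ∨ inE0 x = true := by
    intro x hx
    by_cases h1 : x = 1
    · exact Or.inl (h1 ▸ one_mem _)
    have hi : isInv x = true := isInv_iff.2 ⟨X.ιq_inj (by
      rw [map_mul, map_one, ← pow_two]; exact h2 _ hx), h1⟩
    have h := all_elts normal_elementary x
    rw [hi] at h
    simp only [Bool.not_true, Bool.false_or, Bool.or_eq_true, List.any_eq_true, Bool.not_eq_true',
      beq_eq_false_iff_ne] at h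
    rcases h with (h | h) | ⟨g, -, g', -, h⟩
    · exact Or.inl (mem_A3.2 h)
    · exact Or.inr h
    · exact absurd (hcomm _ (hNMn.conj_mem _ hx g) _ (hNMn.conj_mem _ hx g')) h
  -- the subgroup at `w0` is excluded
  have hA : NM = A3 := by
    by_cases hex : ∀ x ∈ NM, x ∈ A3
    · exact Subgroup.eq_of_le_of_card_ge hex (by rw [card_A3, hcardNM])
    exfalso
    push Not at hex
    obtain ⟨x, hx, hxA⟩ := hex
    have hxE : inE0 x = true := (hmem x hx).resolve_left hxA
    have hxZ : inZ0 x = false := Bool.eq_false_iff.2 fun h => hxA (Z0_sub x (mem_Z0.2 h))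
    obtain ⟨hexcl, hlen, -, -⟩ := normal_exclusive
    have hle : ∀ y ∈ NM, inE0 y = true := by
      intro y hy
      rcases hmem y hy with h | h
      · by_cases hyZ : inZ0 y = true
        · rw [inE0, hyZ]; rfl
        · exfalso
          have h' := all_elts hexcl x
          rw [hxE, hxZ] at h'
          simp only [Bool.not_false, Bool.and_self, Bool.not_true, Bool.false_or] at h'
          have h'' := all_elts h' y
          rw [mem_A3.1 h, Bool.eq_false_iff.2 hyZ, show (x * y == y * x) = true from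
            beq_iff_eq.2 (hcomm x hx y hy)] at h''
          simp at h''
      · exact h
    have hE0 : ∀ y, inE0 y = true → y ∈ NM := by
      classical
      intro y hy
      by_contra hyN
      have hlt : Nat.card NM < 8 := by
        rw [← hlen, ← card_pred {a | inE0 a = true} inE0 fun _ => Iff.rfl, Nat.card_coe_set_eq,
          show Nat.card NM = Nat.card (NM : Set M) from rfl, Nat.card_coe_set_eq]
        exact Set.ncard_lt_ncard ⟨fun a ha => hle a ha, fun hsub' => hyN (hsub' hy)⟩ (Set.toFinite _)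
      omega
    obtain ⟨f, hf, hfe, -⟩ := X.move_to_e (x := w1) (c := u) (d := e) X.hw1 (mem_cent.2 (by decide +kernel))
      (mem_cent.2 (by decide +kernel)) (by decide +kernel) (by decide +kernel)
    have he : X.ιq e ∈ N := hE0 e (by decide +kernel)
    have h1 := hN.conj_mem _ he (X.pr ⟨f, X.C_le_MG hf⟩)⁻¹
    have h3 : (X.pr ⟨f, X.C_le_MG hf⟩)⁻¹ * X.ιq e * (X.pr ⟨f, X.C_le_MG hf⟩)⁻¹⁻¹ = X.ιq w1 := by
      show (X.pr ⟨f, X.C_le_MG hf⟩)⁻¹ * X.pr ⟨X.ι e, X.ι_mem_MG e⟩ * (X.pr ⟨f, X.C_le_MG hf⟩)⁻¹⁻¹ =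
        X.pr ⟨X.ι w1, X.ι_mem_MG w1⟩
      rw [← map_inv, ← map_inv, ← map_mul, ← map_mul]
      refine congrArg X.pr (Subtype.ext ?_)
      show f⁻¹ * X.ι e * f⁻¹⁻¹ = X.ι w1
      rw [← hfe]; group
    rw [h3] at h1
    exact absurd (hle w1 h1) (by decide +kernel)
  intro k hk hke
  have mw1 : w1 ∈ A3 := mem_A3.2 (by decide +kernel)
  have hkM : k ∈ X.MG := X.fuse (X.ι_mem_MG z) X.K_z (by rw [hke]; exact X.ι_mem_MG e)
  set kb := X.pr ⟨k, hkM⟩
  have hmem1 : kb * X.ιq w1 * kb⁻¹ ∈ N := hN.conj_mem _ (show w1 ∈ NM by rw [hA]; exact mw1) kb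
  obtain ⟨a, ha⟩ := hsub hmem1
  have haA : a ∈ A3 := by rw [← hA]; show X.ιq a ∈ N; rw [ha]; exact hmem1
  have hw0 : kb * X.ιq w0 * kb⁻¹ = X.ιq w0 := by
    show X.pr ⟨k, hkM⟩ * X.pr ⟨X.ι w0, X.ι_mem_MG w0⟩ * (X.pr ⟨k, hkM⟩)⁻¹ = X.pr ⟨X.ι w0, X.ι_mem_MG w0⟩
    rw [← map_inv, ← map_mul, ← map_mul]
    exact congrArg X.pr (Subtype.ext (mul_inv_eq_iff_eq_mul.2 (mem_centralizer_singleton_iff.1 hk)))
  obtain ⟨hsmall, hz⟩ := a3_w0
  have h := all_elts hsmall a
  rw [mem_A3.1 haA] at h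
  simp only [Bool.not_true, Bool.false_or, Bool.or_eq_true, beq_iff_eq] at h
  have hz' : X.ιq e = X.ιq (a * w0 * a⁻¹ * w0⁻¹) := by
    have hze : kb * X.ιq z * kb⁻¹ = X.ιq e := by
      show X.pr ⟨k, hkM⟩ * X.pr ⟨X.ι z, X.ι_mem_MG z⟩ * (X.pr ⟨k, hkM⟩)⁻¹ = X.pr ⟨X.ι e, X.ι_mem_MG e⟩
      rw [← map_inv, ← map_mul, ← map_mul]
      exact congrArg X.pr (Subtype.ext hke)
    rw [← hze, ← hz]
    simp only [map_mul, map_inv, ha]
    conv_rhs => rw [← hw0]
    group
  rcases h with h | h <;> rw [h] at hz'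
  · exact Mdl.eE_ne (X.ιq_inj hz')
  · exact Mdl.eE_ne_zE (X.ιq_inj hz')

end Ctx

end Cfsg.Agent.M12Sylow
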