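import Cfsg.Agent.Lib.M12Sylow.CentJ

/-!
When `z` and `e` are fused in `C(w0)`: a normal subgroup of index four with Sylow subgroup `⟨z, e⟩`
and the conclusion through the centraliser of order 240.
-/

set_option autoImplicit false
set_option linter.unusedSectionVars false

namespace Cfsg.Agent.M12Sylow

open Cfsg.Agent.G2Type
open Subgroup
open Cfsg.Agent.Involutions

universe w

variable {G : Type w} [Group G] [Finite G]

/-- Representatives of `C(w0)` modulo `⟨z, e⟩`. -/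
def reps4 : Fin 4 → M := ![1, u, v, w0]

theorem reps4_facts : (∀ i, reps4 i * w0 = w0 * reps4 i) ∧
    ∀ i j, inZ0 (reps4 i * (reps4 j)⁻¹) = true → i = j := by
  decide +kernel

namespace Ctx

variable (X : Ctx G)

/-- The normal subgroup of index four in `C(w0)`. -/
structure Quarter where
  /-- the subgroup -/
  L : Subgroup G
  le : L ≤ X.HJ
  norm : ∀ h ∈ X.HJ, ∀ x ∈ L, h * x * h⁻¹ ∈ L
  Z0_le : Z0.map X.ι ≤ L
  cut : ∀ m ∈ cent w0, X.ι m ∈ L → m ∈ Z0
  odd_le : ∀ x ∈ X.HJ, Odd (orderOf x) → x ∈ L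
  cover : ∀ h ∈ X.HJ, ∃ l ∈ L, ∃ m ∈ cent w0, h = l * X.ι m

theorem exists_quarter {k : G} (hk : k ∈ X.HJ) (hke : k * X.ι z * k⁻¹ = X.ι e) : Nonempty X.Quarter := by
  have hp : Fact (Nat.Prime 2) := ⟨Nat.prime_two⟩
  set H := X.HJ with hH
  set T := (cent w0).map X.ι
  have hTH : T ≤ H := X.map_cent_le w0
  have hidx : ∀ P : Subgroup M, P ≤ cent w0 → Nat.card P = 8 → ((P.map X.ι).subgroupOf H).index % 4 = 2 := by
    intro P hP h8
    set TH := T.subgroupOf H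
    have hle : (P.map X.ι).subgroupOf H ≤ TH := fun x hx => Subgroup.map_mono hP hx
    have h16 : Nat.card TH = 16 := by
      rw [Nat.card_congr (subgroupOfEquivOfLe hTH).toEquiv, X.card_map, card_cent_inv inv_w0]
      rw [typ_w0]; rfl
    have h8' : Nat.card ((P.map X.ι).subgroupOf H) = 8 := by
      rw [Nat.card_congr (subgroupOfEquivOfLe ((Subgroup.map_mono hP).trans hTH)).toEquiv, X.card_map, h8]
    refine ThompsonTransfer.index_mod_four hle ?_ ?_
    · have h := (((P.map X.ι).subgroupOf H).subgroupOf TH).card_mul_index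
      rw [Nat.card_congr (subgroupOfEquivOfLe hle).toEquiv, h8', h16] at h
      change 8 * ((P.map X.ι).subgroupOf H).relIndex TH = 16 at h
      omega
    · refine Nat.odd_iff.2 (Nat.two_dvd_ne_zero.1 fun h2 => ?_)
      obtain ⟨R, hR⟩ := Sylow.exists_subgroup_card_pow_prime 2 (G := H) (n := 5) (by
        rw [← TH.card_mul_index, h16]
        obtain ⟨r, hr⟩ := h2
        exact ⟨r, by rw [hr]; ring⟩)
      have h := X.card_le_of_not_K inv_w0 X.hw0 (R := R.map H.subtype) ((IsPGroup.of_card hR).map _)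
        (map_subtype_le _)
      rw [card_map_of_injective H.subtype_injective, hR] at h
      norm_num at h
  obtain ⟨hfix, hlb, hlu, -, hwu, hub, hvb, hinv⟩ := hyper_facts
  have hPb : Pb ≤ cent w0 := fun x hx => mem_cent.2 (by
    have h := all_elts hfix x
    simp only [Bool.and_eq_true, Bool.or_eq_true, Bool.not_eq_true', beq_iff_eq] at h
    exact h.1.resolve_left fun h' => by rw [show inPb x = true from hx] at h'; simp at h')
  have hPu : Pu ≤ cent w0 := fun x hx => mem_cent.2 (by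
    have h := all_elts hfix x
    simp only [Bool.and_eq_true, Bool.or_eq_true, Bool.not_eq_true', beq_iff_eq] at h
    exact h.2.resolve_left fun h' => by rw [show inPu x = true from hx] at h'; simp at h')
  have hcPb : Nat.card Pb = 8 := (card_pred (Pb : Set M) inPb fun _ => Iff.rfl).trans hlb
  have hcPu : Nat.card Pu = 8 := (card_pred (Pu : Set M) inPu fun _ => Iff.rfl).trans hlu
  have mu : X.ι u ∈ H := X.u_mem_HJ
  have mv : X.ι v ∈ H := X.commute_of_mem_cent (mem_cent.2 (by decide +kernel))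
  have m0 : X.ι w0 ∈ H := mem_centralizer_singleton_iff.2 rfl
  -- neither `u` nor `v` fuses into the hyperplane at `w0`
  have hno : ∀ x, isInv x = true → ¬ X.K x → ¬ X.K (x * w0) → x ≠ w0 →
      ∀ g ∈ H, g * X.ι x * g⁻¹ ∉ Pb.map X.ι := by
    rintro x hxi hx hxw hne g hg ⟨y, hy, hye⟩
    have hyi : isInv y = true := X.isInv_of_orderOf (by rw [hye, Basic.orderOf_conj, X.orderOf_ι hxi])
    have h := all_elts hinv y
    rw [show inPb y = true from hy, hyi] at h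
    simp only [Bool.and_self, Bool.not_true, Bool.false_or, Bool.or_eq_true, Bool.and_eq_true,
      beq_iff_eq] at h
    rcases h with (h | h) | ⟨⟨h, h'⟩, -⟩
    · exact hx ((isConj_iff.2 ⟨g, hye.symm⟩ : IsConj (X.ι x) (X.ι y)).trans
        (X.K_Z0 (mem_Z0.2 h) (isInv_iff.1 hyi).2))
    · subst h
      have hg' := mul_inv_eq_iff_eq_mul.2 (mem_centralizer_singleton_iff.1 hg)
      exact hne (X.inj ((MulAut.conj g).injective (hye.symm.trans hg'.symm)))
    · refine hxw ((isConj_iff.2 ⟨g, ?_⟩ : IsConj (X.ι (x * w0)) (X.ι (y * w0))).trans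
        (X.K_Z0 (mem_Z0.2 h) (isInv_iff.1 h').2))
      rw [map_mul, map_mul, hye, show g * (X.ι x * X.ι w0) * g⁻¹ = g * X.ι x * g⁻¹ * (g * X.ι w0 * g⁻¹)
        by group, mul_inv_eq_iff_eq_mul.2 (mem_centralizer_singleton_iff.1 hg)]
  obtain ⟨Ku, hKu, huK⟩ := ThompsonTransfer.exists_index_two_of_no_conj _ (hidx Pb hPb hcPb) (⟨X.ι u, mu⟩ : H)
    (by rw [Subgroup.orderOf_mk]; exact X.orderOf_ι inv_u) (fun g hg => hno u inv_u X.not_K_u
      (by rw [show (u : M) * w0 = v by decide +kernel]; exact X.not_K_v) (by decide +kernel) g g.2 hg)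
  obtain ⟨Kv, hKv, hvK⟩ := ThompsonTransfer.exists_index_two_of_no_conj _ (hidx Pb hPb hcPb) (⟨X.ι v, mv⟩ : H)
    (by rw [Subgroup.orderOf_mk]; exact X.orderOf_ι inv_v) (fun g hg => hno v inv_v X.not_K_v
      (by rw [show (v : M) * w0 = u by decide +kernel]; exact X.not_K_u) (by decide +kernel) g g.2 hg)
  obtain ⟨Kb, hKb, hbK⟩ := ThompsonTransfer.exists_index_two_of_no_conj _ (hidx Pu hPu hcPu) (⟨X.ι w0, m0⟩ : H)
    (by rw [Subgroup.orderOf_mk]; exact X.orderOf_ι inv_w0) (fun g => by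
      rintro ⟨y, hy, hye⟩
      change X.ι y = (g : G) * X.ι w0 * (g : G)⁻¹ at hye
      rw [mul_inv_eq_iff_eq_mul.2 (mem_centralizer_singleton_iff.1 g.2)] at hye
      rw [X.inj hye] at hy
      exact absurd (show inPu w0 = true from hy) (by rw [hwu]; simp))
  set L0 := Ku ⊓ Kb ⊓ Kv with hL0
  have hnu := normal_of_index_eq_two hKu
  have hnb := normal_of_index_eq_two hKb
  have hnv := normal_of_index_eq_two hKv
  have hsq : ∀ x : H, x * x ∈ L0 := fun x =>
    ⟨⟨Subgroup.mul_self_mem_of_index_two hKu x, Subgroup.mul_self_mem_of_index_two hKb x⟩,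
      Subgroup.mul_self_mem_of_index_two hKv x⟩
  have hodd0 : ∀ x : H, Odd (orderOf x) → x ∈ L0 := by
    intro x hx
    obtain ⟨m, hm⟩ := hx
    have e1 : x = (x * x) ^ (m + 1) := by
      rw [← pow_two, ← pow_mul, show 2 * (m + 1) = orderOf x + 1 by omega, pow_succ, pow_orderOf_eq_one, one_mul]
    rw [e1]; exact pow_mem (hsq x) _
  have hnormal : L0.Normal := ⟨fun x hx g =>
    ⟨⟨hnu.conj_mem x hx.1.1 g, hnb.conj_mem x hx.1.2 g⟩, hnv.conj_mem x hx.2 g⟩⟩
  set L := L0.map H.subtype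
  have hmemL : ∀ x : H, ((x : G) ∈ L ↔ x ∈ L0) := fun x =>
    ⟨fun ⟨y, hy, e1⟩ => by rwa [← Subtype.ext e1], fun h => ⟨x, h, rfl⟩⟩
  have hzL : X.ι z ∈ L := by
    have hmem : X.ι (u * e) ∈ H := X.commute_of_mem_cent (mem_cent.2 (by decide +kernel))
    have h := (hmemL (⟨_, hmem⟩ * ⟨_, hmem⟩)).2 (hsq _)
    change X.ι (u * e) * X.ι (u * e) ∈ L at h
    rwa [← map_mul, show (u : M) * e * (u * e) = z by decide +kernel] at h
  have hnormL : ∀ h ∈ H, ∀ x ∈ L, h * x * h⁻¹ ∈ L := by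
    rintro h hh _ ⟨x, hx, rfl⟩
    exact ⟨⟨h, hh⟩ * x * ⟨h, hh⟩⁻¹, hnormal.conj_mem x hx _, rfl⟩
  have heL : X.ι e ∈ L := hke ▸ hnormL k hk _ hzL
  have hZ0L : Z0.map X.ι ≤ L := by
    rintro _ ⟨x, hx, rfl⟩
    rcases Z0_cases hx with rfl | rfl | rfl | rfl
    · rw [map_one]; exact one_mem _
    · exact hzL
    · exact heL
    · rw [show (e' : M) = z * e from rfl, map_mul]; exact mul_mem hzL heL
  have hsplit : ∀ m ∈ cent w0, ∃ a ∈ Z0, ∃ i, m = a * reps4 i := by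
    intro m hm
    have h := all_elts cent_w0_split m
    rw [show (m * w0 == w0 * m) = true from beq_iff_eq.2 (mem_cent.1 hm)] at h
    simp only [Bool.not_true, Bool.false_or, List.any_eq_true, Bool.and_eq_true, Bool.or_eq_true,
      beq_iff_eq] at h
    obtain ⟨a, -, ha, h⟩ := h
    refine ⟨a, mem_Z0.2 ha, ?_⟩
    rcases h with ((h | h) | h) | h
    · exact ⟨0, by rw [h]; exact (mul_one a).symm⟩
    · exact ⟨1, h⟩
    · exact ⟨2, h⟩
    · exact ⟨3, h⟩
  have hcut : ∀ m ∈ cent w0, X.ι m ∈ L → m ∈ Z0 := by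
    intro m hm hmL
    obtain ⟨a, ha, i, rfl⟩ := hsplit m hm
    have hi : X.ι (reps4 i) ∈ L := by
      have := mul_mem (inv_mem (hZ0L ⟨a, ha, rfl⟩)) hmL
      rwa [map_mul, inv_mul_cancel_left] at this
    obtain ⟨y, ⟨⟨hy1, hy2⟩, hy3⟩, hye⟩ := hi
    have key : ∀ (x : M) (hx : X.ι x ∈ H), reps4 i = x → y = ⟨X.ι x, hx⟩ := fun x hx e1 =>
      Subtype.ext (hye.trans (congrArg X.ι e1))
    fin_cases i
    · exact mul_mem ha (one_mem _)
    · exact absurd (key u mu rfl ▸ hy1) huK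
    · exact absurd (key v mv rfl ▸ hy3) hvK
    · exact absurd (key w0 m0 rfl ▸ hy2) hbK
  refine ⟨⟨L, map_subtype_le _, hnormL, hZ0L, hcut, fun x hx ho => ?_, fun h hh => ?_⟩⟩
  · exact (hmemL ⟨x, hx⟩).2 (hodd0 _ (by rwa [Subgroup.orderOf_mk]))
  · -- the Sylow subgroup covers the quotient
    set TH := T.subgroupOf H
    have hJ : L0 ⊔ TH = ⊤ := by
      rw [← Subgroup.index_eq_one]
      have hodd : ¬ 2 ∣ (L0 ⊔ TH).index := by
        intro h2
        have h2' : 2 ∣ TH.index := h2.trans (index_dvd_of_le le_sup_right)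
        have h16 : Nat.card TH = 16 := by
          rw [Nat.card_congr (subgroupOfEquivOfLe hTH).toEquiv, X.card_map, card_cent_inv inv_w0, typ_w0]; rfl
        obtain ⟨R, hR⟩ := Sylow.exists_subgroup_card_pow_prime 2 (G := H) (n := 5) (by
          rw [← TH.card_mul_index, h16]
          obtain ⟨r, hr⟩ := h2'
          exact ⟨r, by rw [hr]; ring⟩)
        have h := X.card_le_of_not_K inv_w0 X.hw0 (R := R.map H.subtype) ((IsPGroup.of_card hR).map _)
          (map_subtype_le _)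
        rw [card_map_of_injective H.subtype_injective, hR] at h
        norm_num at h
      have hpg : IsPGroup 2 (H ⧸ L0) := by
        intro q
        obtain ⟨x, rfl⟩ := QuotientGroup.mk_surjective q
        refine ⟨1, ?_⟩
        rw [pow_one, pow_two, ← QuotientGroup.mk_mul, QuotientGroup.eq_one_iff]
        exact hsq x
      obtain ⟨n, hn⟩ := IsPGroup.iff_card.1 hpg
      have hd : (L0 ⊔ TH).index ∣ 2 ^ n := hn ▸ index_dvd_of_le le_sup_left
      obtain ⟨j, -, hj⟩ := (Nat.dvd_prime_pow Nat.prime_two).1 hd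
      rcases Nat.eq_zero_or_pos j with rfl | hj0
      · exact hj
      · exact absurd (hj ▸ dvd_pow_self 2 hj0.ne') hodd
    have hm : (⟨h, hh⟩ : H) ∈ L0 ⊔ TH := hJ ▸ mem_top _
    rw [mem_sup_of_normal_left] at hm
    obtain ⟨l, hl, t, ht, e1⟩ := hm
    obtain ⟨m, hm, hme⟩ := ht
    exact ⟨l, (hmemL l).2 hl, m, hm, by rw [hme]; exact (congrArg Subtype.val e1).symm⟩

namespace Quarter

variable {X} (P : X.Quarter)

theorem inv_in {t : G} (ht : t ∈ P.L) (ht2 : orderOf t = 2) : IsConj t (X.ι z) := by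
  obtain ⟨h, hh, hm⟩ := X.into_T (P := zpowers t) (IsPGroup.of_card (n := 1) (by
    rw [Nat.card_zpowers, ht2, pow_one])) (zpowers_le.2 (P.le ht))
  obtain ⟨m, hmc, hme⟩ := hm t (mem_zpowers t)
  have hmi : isInv m = true := X.isInv_of_orderOf (by rw [hme, Basic.orderOf_conj, ht2])
  have hmZ := P.cut m hmc (hme ▸ P.norm h hh t ht)
  exact (isConj_iff.2 ⟨h, hme.symm⟩ : IsConj t (X.ι m)).trans (X.K_Z0 hmZ (isInv_iff.1 hmi).2)

theorem L_le (hM : Cfsg.Spor.IsoM12 X.Mq) : P.L ≤ X.MG := by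
  classical
  have hp : Fact (Nat.Prime 2) := ⟨Nat.prime_two⟩
  by_contra hne
  set LM := X.MG.subgroupOf P.L with hLM
  have mz : z ∈ Z0 := mem_Z0.2 (by decide +kernel)
  have me : e ∈ Z0 := mem_Z0.2 (by decide +kernel)
  have me' : e' ∈ Z0 := mem_Z0.2 (by decide +kernel)
  let zL : P.L := ⟨X.ι z, P.Z0_le ⟨z, mz, rfl⟩⟩
  have hzo : orderOf zL = 2 := by rw [Subgroup.orderOf_mk]; exact X.orderOf_ι inv_z
  have hzM : zL ∈ LM := X.ι_mem_MG z
  have hSE : Cfsg.IsStronglyEmbedded LM := by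
    refine StronglyEmbedded.of_conj (fun h => hne (subgroupOf_eq_top.1 h)) ?_ ?_
    · refine even_iff_two_dvd.2 ?_
      rw [← hzo, ← Subgroup.orderOf_mk zL hzM]; exact orderOf_dvd_natCard _
    · intro t ht ht2 g hg
      exact X.fuse (t := (t : G)) ht (P.inv_in t.2 (by rw [Subgroup.orderOf_coe, ht2])) hg
  obtain ⟨D, hDle, hDodd, hfac⟩ := stronglyEmbedded_factor hSE hzM hzo
  -- images in the quotient
  set Lb := (P.L.subgroupOf X.MG).map X.pr with hLb
  set bq := X.ιq w0 with hbq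
  have hbi : orderOf bq = 2 := by
    rw [hbq, orderOf_injective X.ιq X.ιq_inj]
    exact orderOf_eq_prime (p := 2) (by rw [pow_two]; exact (isInv_iff.1 inv_w0).1) (isInv_iff.1 inv_w0).2
  have hbz : ¬ IsConj (X.ιq z) bq := by
    intro h
    obtain ⟨y, hy⟩ := isConj_iff.1 h
    obtain ⟨y, rfl⟩ := QuotientGroup.mk'_surjective (X.W.subgroupOf X.MG) y
    have hmem : (y : G) * X.ι z * (y : G)⁻¹ * X.ι w0 ∈ X.W := by
      have e1 : X.pr (y * ⟨X.ι z, X.ι_mem_MG z⟩ * y⁻¹ * ⟨X.ι w0, X.ι_mem_MG w0⟩) = 1 := by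
        rw [map_mul, map_mul, map_mul, map_inv]
        show X.pr y * X.ιq z * (X.pr y)⁻¹ * X.ιq w0 = 1
        rw [hy, hbq, ← map_mul, (isInv_iff.1 inv_w0).1, map_one]
      exact X.pr_eq_one.1 e1
    obtain ⟨d, -, hd⟩ := exists_conj_of_congr X.W_odd (s := (y : G) * X.ι z * (y : G)⁻¹)
      (by rw [Basic.orderOf_conj, X.orderOf_ι inv_z]) (X.orderOf_ι inv_w0) hmem
    exact X.hw0 (IsConj.symm (isConj_iff.2 ⟨d * y, by rw [← hd]; group⟩))
  have h240 : Nat.card (centralizer ({bq} : Set X.Mq)) = 240 := by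
    refine card_cent_noncentral hM (S := X.ιq.range) ?_ ⟨z, rfl⟩ ?_ ?_ hbi hbz
    · rw [← Nat.card_congr (MonoidHom.ofInjective X.ιq_inj).toEquiv, Mdl.card_eq]; norm_num
    · rintro _ ⟨m, rfl⟩
      rw [← map_mul, ← map_mul, Mdl.zE_central m]
    · rw [orderOf_injective X.ιq X.ιq_inj]
      exact orderOf_eq_prime (p := 2) (by rw [pow_two]; exact Mdl.zE_sq) Mdl.zE_ne
  have hLbC : ∀ y ∈ Lb, y * bq = bq * y := by
    rintro _ ⟨y, hy, rfl⟩
    show X.pr y * X.pr ⟨X.ι w0, X.ι_mem_MG w0⟩ = X.pr ⟨X.ι w0, X.ι_mem_MG w0⟩ * X.pr y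
    rw [← map_mul, ← map_mul]
    exact congrArg X.pr (Subtype.ext (mem_centralizer_singleton_iff.1 (P.le hy)))
  have hrepC : ∀ i, X.ιq (reps4 i) * bq = bq * X.ιq (reps4 i) := fun i => by
    rw [hbq, ← map_mul, ← map_mul, reps4_facts.1 i]
  have h60 : Nat.card Lb = 60 := by
    let f : Lb × Fin 4 → centralizer ({bq} : Set X.Mq) := fun s =>
      ⟨(s.1 : X.Mq) * X.ιq (reps4 s.2), mem_centralizer_singleton_iff.2 (by
        rw [mul_assoc, hrepC, ← mul_assoc, hLbC _ s.1.2, mul_assoc])⟩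
    have hf : Function.Bijective f := by
      constructor
      · rintro ⟨⟨l, hl⟩, i⟩ ⟨⟨l', hl'⟩, j⟩ h
        have h' : l * X.ιq (reps4 i) = l' * X.ιq (reps4 j) := congrArg Subtype.val h
        have hmem : X.ιq (reps4 i * (reps4 j)⁻¹) ∈ Lb := by
          rw [map_mul, map_inv, show X.ιq (reps4 i) * (X.ιq (reps4 j))⁻¹ = l⁻¹ * (l * X.ιq (reps4 i)) *
            (X.ιq (reps4 j))⁻¹ by group, h']
          simpa [mul_assoc] using mul_mem (inv_mem hl) hl'
        obtain ⟨y, hy, hye⟩ := hmem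
        set m := reps4 i * (reps4 j)⁻¹
        have hmc : m ∈ cent w0 := mul_mem (mem_cent.2 (reps4_facts.1 i)) (inv_mem (mem_cent.2 (reps4_facts.1 j)))
        have hW : (y : G)⁻¹ * X.ι m ∈ X.W := (X.pr_eq (y := ⟨X.ι m, X.ι_mem_MG m⟩)).1 hye
        have hmem2 : (y : G)⁻¹ * X.ι m ∈ P.L := P.odd_le _
          (mul_mem (inv_mem (P.le hy)) (X.commute_of_mem_cent hmc)) (by
            rw [← Subgroup.orderOf_mk _ hW]; exact X.W_odd.of_dvd_nat (orderOf_dvd_natCard _))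
        have hmL : X.ι m ∈ P.L := by
          have hy' : (y : G) ∈ P.L := hy
          simpa using mul_mem hy' hmem2
        obtain rfl := reps4_facts.2 i j (mem_Z0.1 (P.cut m hmc hmL))
        obtain rfl := mul_right_cancel h'
        rfl
      · rintro ⟨c, hc⟩
        obtain ⟨y, rfl⟩ := QuotientGroup.mk'_surjective (X.W.subgroupOf X.MG) c
        obtain ⟨y', hy', hyH⟩ := X.lift_cent inv_w0 (mem_centralizer_singleton_iff.1 hc)
        obtain ⟨l, hl, m, hm, e1⟩ := P.cover _ hyH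
        obtain ⟨a, ha, i, rfl⟩ : ∃ a ∈ Z0, ∃ i, m = a * reps4 i := by
          have h := all_elts cent_w0_split m
          rw [show (m * w0 == w0 * m) = true from beq_iff_eq.2 (mem_cent.1 hm)] at h
          simp only [Bool.not_true, Bool.false_or, List.any_eq_true, Bool.and_eq_true, Bool.or_eq_true,
            beq_iff_eq] at h
          obtain ⟨a, -, ha, h⟩ := h
          refine ⟨a, mem_Z0.2 ha, ?_⟩
          rcases h with ((h | h) | h) | h
          exacts [⟨0, by rw [h]; exact (mul_one a).symm⟩, ⟨1, h⟩, ⟨2, h⟩, ⟨3, h⟩]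
        have hlaL : l * X.ι a ∈ P.L := mul_mem hl (P.Z0_le ⟨a, ha, rfl⟩)
        have hlaM : l * X.ι a ∈ X.MG := by
          have : l * X.ι a = (y' : G) * (X.ι (reps4 i))⁻¹ := by rw [e1, map_mul]; group
          rw [this]; exact mul_mem y'.2 (inv_mem (X.ι_mem_MG _))
        refine ⟨(⟨X.pr ⟨_, hlaM⟩, ⟨_, hlaL, rfl⟩⟩, i), Subtype.ext ?_⟩
        show X.pr ⟨_, hlaM⟩ * X.pr ⟨X.ι (reps4 i), X.ι_mem_MG _⟩ = X.pr y
        rw [← map_mul, ← hy']
        exact congrArg X.pr (Subtype.ext (by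
          show l * X.ι a * X.ι (reps4 i) = y'
          rw [e1, map_mul, mul_assoc]))
    have h := Nat.card_congr (Equiv.ofBijective f hf)
    rw [Nat.card_prod, h240, Nat.card_eq_fintype_card (α := Fin 4), Fintype.card_fin] at h
    omega
  -- the maps
  let g : LM →* X.Mq := X.pr.comp
    { toFun := fun x => ⟨((x : P.L) : G), x.2⟩
      map_one' := rfl
      map_mul' := fun _ _ => rfl }
  have hgrange : g.range = Lb := by
    ext q
    constructor
    · rintro ⟨x, rfl⟩; exact ⟨⟨((x : P.L) : G), x.2⟩, (x : P.L).2, rfl⟩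
    · rintro ⟨y, hy, rfl⟩; exact ⟨⟨⟨(y : G), hy⟩, y.2⟩, rfl⟩
  -- elements fixing `z̄` have 2-power order in the image
  have hczk : ∀ q ∈ Lb, q * X.ιq z = X.ιq z * q → ∃ k : ℕ, q ^ 2 ^ k = 1 := by
    rintro _ ⟨y, hy, rfl⟩ hq
    set W' := X.W ⊓ P.L
    have hW'odd : Odd (Nat.card W') := X.W_odd.of_dvd_nat (card_dvd_of_le inf_le_left)
    have hmem : (y : G) * X.ι z * (y : G)⁻¹ * X.ι z ∈ W' := by
      refine Subgroup.mem_inf.2 ⟨?_, mul_mem (mul_mem (mul_mem hy (P.Z0_le ⟨z, mz, rfl⟩)) (inv_mem hy))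
        (P.Z0_le ⟨z, mz, rfl⟩)⟩
      have e1 : X.pr (y * ⟨X.ι z, X.ι_mem_MG z⟩ * y⁻¹ * ⟨X.ι z, X.ι_mem_MG z⟩) = 1 := by
        rw [map_mul, map_mul, map_mul, map_inv]
        show X.pr y * X.ιq z * (X.pr y)⁻¹ * X.ιq z = 1
        rw [hq, mul_inv_cancel_right, ← map_mul, (isInv_iff.1 inv_z).1, map_one]
      exact X.pr_eq_one.1 e1
    obtain ⟨d, hd, hde⟩ := exists_conj_of_congr hW'odd (s := (y : G) * X.ι z * (y : G)⁻¹)
      (by rw [Basic.orderOf_conj, X.orderOf_ι inv_z]) (X.orderOf_ι inv_z) hmem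
    set y' := d * (y : G) with hy'
    have hy'C : y' ∈ X.C := mem_centralizer_singleton_iff.2 (mul_inv_eq_iff_eq_mul.1 (by
      conv_rhs => rw [← hde]
      rw [hy']; group))
    have hy'H : y' ∈ X.HJ := P.le (mul_mem (Subgroup.mem_inf.1 hd).2 hy)
    obtain ⟨k, r, hr, hkr⟩ := Nat.exists_eq_two_pow_mul_odd (orderOf_pos y').ne'
    refine ⟨k, ?_⟩
    have hU : y' ^ 2 ^ k ∈ X.U := by
      refine X.odd_fix (pow_mem hy'C _) ?_ (M12Sylow.mem_Q.2 (show inQ w0 = true by decide +kernel))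
        (by decide +kernel) (by decide +kernel) ?_
      · rw [orderOf_pow' y' (by positivity), hkr, Nat.gcd_eq_right (dvd_mul_right _ _),
          Nat.mul_div_cancel_left _ (by positivity)]
        exact hr
      · rw [mul_inv_eq_iff_eq_mul.2 (mem_centralizer_singleton_iff.1 (pow_mem hy'H (2 ^ k))), mul_inv_cancel]
        exact one_mem _
    have hdM : d ∈ X.MG := le_normalizer (Subgroup.mem_inf.1 hd).1
    have e2 : X.pr y = X.pr ⟨y', mul_mem hdM y.2⟩ := by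
      rw [X.pr_eq]
      show (y : G)⁻¹ * (d * (y : G)) ∈ X.W
      rw [show (y : G)⁻¹ * (d * (y : G)) = (y : G)⁻¹ * d * (y : G)⁻¹⁻¹ by group]
      exact (mem_normalizer_iff.1 (inv_mem y.2) d).1 (Subgroup.mem_inf.1 hd).1
    rw [e2, ← map_pow]
    exact X.pr_eq_one.2 (X.U_le_W hU)
  -- the odd factor has order fifteen
  set Db := (D.subgroupOf LM).map g with hDb
  set Cb := Lb ⊓ centralizer ({X.ιq z} : Set X.Mq) with hCb
  have hDb_le : Db ≤ Lb := hgrange ▸ map_le_range g _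
  have hDbodd : Odd (Nat.card Db) := by
    refine hDodd.of_dvd_nat ?_
    rw [← Nat.card_congr (subgroupOfEquivOfLe hDle).toEquiv]
    exact card_map_dvd _ _
  have hCb4 : Nat.card Cb ≤ 4 := by
    have hp2 : IsPGroup 2 Cb := fun c => by
      obtain ⟨k, hk⟩ := hczk _ (Subgroup.mem_inf.1 c.2).1 (mem_centralizer_singleton_iff.1 (Subgroup.mem_inf.1 c.2).2)
      exact ⟨k, Subtype.ext hk⟩
    obtain ⟨n, hn⟩ := IsPGroup.iff_card.1 hp2
    have hd : 2 ^ n ∣ 60 := by rw [← hn, ← h60]; exact card_dvd_of_le inf_le_left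
    rw [hn]
    have h3 : n < 3 := by
      by_contra h
      push Not at h
      have := (pow_dvd_pow 2 h).trans hd
      norm_num at this
    interval_cases n <;> norm_num
  have hprod : ∀ q : Lb, ∃ s : Db × Cb, (q : X.Mq) = s.1 * s.2 := by
    rintro ⟨q, hq⟩
    rw [← hgrange] at hq
    obtain ⟨x, rfl⟩ := hq
    obtain ⟨d, hd, c, hc, hcz, hxe⟩ := hfac x x.2
    refine ⟨(⟨g ⟨d, hDle hd⟩, ⟨⟨d, hDle hd⟩, hd, rfl⟩⟩, ⟨g ⟨c, hc⟩, Subgroup.mem_inf.2 ⟨hgrange ▸ ⟨_, rfl⟩, ?_⟩⟩), ?_⟩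
    · rw [mem_centralizer_singleton_iff]
      show g ⟨c, hc⟩ * g ⟨zL, hzM⟩ = g ⟨zL, hzM⟩ * g ⟨c, hc⟩
      rw [← map_mul, ← map_mul]
      exact congrArg g (Subtype.ext hcz)
    · show g x = g ⟨d, hDle hd⟩ * g ⟨c, hc⟩
      rw [← map_mul]
      exact congrArg g (Subtype.ext hxe)
  have h15 : Nat.card Db = 15 := by
    choose s hs using hprod
    have hinj : Function.Injective s := fun a c h => Subtype.ext (by rw [hs a, hs c, h])
    have h := Nat.card_le_card_of_injective s hinj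
    rw [h60, Nat.card_prod] at h
    have hge : 15 ≤ Nat.card Db := by nlinarith
    have hdvd : Nat.card Db ∣ 60 := h60 ▸ card_dvd_of_le hDb_le
    have hdvd' : Nat.card Db ∣ 15 := by
      refine Nat.Coprime.dvd_of_dvd_mul_left (m := 4) ?_ (by simpa using hdvd)
      exact Nat.Coprime.pow_right 2 (Nat.coprime_two_right.2 hDbodd)
    exact le_antisymm (Nat.le_of_dvd (by norm_num) hdvd') hge
  -- the contradiction
  let zb : Lb := ⟨X.ιq z, ⟨⟨X.ι z, X.ι_mem_MG z⟩, P.Z0_le ⟨z, mz, rfl⟩, rfl⟩⟩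
  let eb : Lb := ⟨X.ιq e, ⟨⟨X.ι e, X.ι_mem_MG e⟩, P.Z0_le ⟨e, me, rfl⟩, rfl⟩⟩
  have hzb : orderOf zb = 2 := by
    refine (Subgroup.orderOf_mk _ _).trans ((orderOf_injective X.ιq X.ιq_inj _).trans ?_)
    exact orderOf_eq_prime (p := 2) (by rw [pow_two]; exact Mdl.zE_sq) Mdl.zE_ne
  have heb : orderOf eb = 2 := by
    refine (Subgroup.orderOf_mk _ _).trans ((orderOf_injective X.ιq X.ιq_inj _).trans ?_)
    exact orderOf_eq_prime (p := 2) (by rw [pow_two]; exact Mdl.eE_sq) Mdl.eE_ne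
  obtain ⟨x, hx, p, hp5, hpx⟩ := five_of_fifteen (H := Lb) h60 (D := Db.subgroupOf Lb)
    (by rw [Nat.card_congr (subgroupOfEquivOfLe hDb_le).toEquiv, h15]) hzb heb
    (fun h => Mdl.eE_ne_zE (X.ιq_inj (congrArg Subtype.val h).symm))
    (Subtype.ext (show X.ιq z * X.ιq e = X.ιq e * X.ιq z by rw [← map_mul, ← map_mul, Mdl.zE_central e]))
  obtain ⟨y, hyZ, hy1, hxy⟩ : ∃ y ∈ Z0, y ≠ 1 ∧ (x : X.Mq) = X.ιq y := by
    rcases hx with rfl | rfl | rfl
    · exact ⟨z, mz, Mdl.zE_ne, rfl⟩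
    · exact ⟨e, me, Mdl.eE_ne, rfl⟩
    · exact ⟨e', me', by decide +kernel, by rw [Subgroup.coe_mul]; exact (map_mul X.ιq z e).symm⟩
  have hyi := (X.A3_class (Z0_sub y hyZ) hy1).1
  let yL : P.L := ⟨X.ι y, P.Z0_le ⟨y, hyZ, rfl⟩⟩
  obtain ⟨s, hsn, hs2⟩ := StronglyEmbedded.exists_involution_notMem hSE
  obtain ⟨d, hd, hdy⟩ := StronglyEmbedded.exists_conj_in_inter hSE hs2 hsn (s := yL) (t := zL)
    (by rw [Subgroup.orderOf_mk]; exact X.orderOf_ι hyi) (X.ι_mem_MG y) hzo hzM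
  set dq := g ⟨d, hd.1⟩
  have hdq : dq ∈ Lb := hgrange ▸ ⟨_, rfl⟩
  have hdy' : dq * X.ιq y * dq⁻¹ = X.ιq z := by
    show g ⟨d, hd.1⟩ * g ⟨yL, X.ι_mem_MG y⟩ * (g ⟨d, hd.1⟩)⁻¹ = g ⟨zL, hzM⟩
    rw [← map_inv, ← map_mul, ← map_mul]
    exact congrArg g (Subtype.ext hdy)
  have hpy : (p : X.Mq) * X.ιq y = X.ιq y * (p : X.Mq) := by
    rw [← hxy]; exact congrArg Subtype.val hpx
  obtain ⟨k, hk⟩ := hczk (dq * (p : X.Mq) * dq⁻¹) (mul_mem (mul_mem hdq p.2) (inv_mem hdq)) (by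
    rw [← hdy']
    calc dq * (p : X.Mq) * dq⁻¹ * (dq * X.ιq y * dq⁻¹) = dq * ((p : X.Mq) * X.ιq y) * dq⁻¹ := by group
      _ = dq * (X.ιq y * (p : X.Mq)) * dq⁻¹ := by rw [hpy]
      _ = _ := by group)
  have hd5 := orderOf_dvd_of_pow_eq_one hk
  rw [Basic.orderOf_conj, Subgroup.orderOf_coe, hp5] at hd5
  exact absurd ((Nat.prime_five).dvd_of_dvd_pow hd5) (by norm_num)

end Quarter

/-- The centraliser of `w0` lies in the normaliser. -/
theorem HJ_le : X.HJ ≤ X.MG := by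
  rcases X.mq_two with ⟨N, hN, h1, h2, h3⟩ | hM
  · exact X.HJ_le_of_not_fused (X.not_fused_of_normal hN h1 h2 h3)
  · by_cases h : ∀ k ∈ X.HJ, k * X.ι z * k⁻¹ ≠ X.ι e
    · exact X.HJ_le_of_not_fused h
    · push Not at h
      obtain ⟨k, hk, hke⟩ := h
      obtain ⟨P⟩ := X.exists_quarter hk hke
      intro x hx
      obtain ⟨l, hl, m, -, rfl⟩ := P.cover x hx
      exact mul_mem (P.L_le hM hl) (X.ι_mem_MG m)

end Ctx

end Cfsg.Agent.M12Sylow
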