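import Cfsg.Agent.Lib.M12Sylow.Cent

/-!
The quotient of the half of `C(z)` by its core and `⟨z⟩` is elementary abelian of order 16 extended by
a fixed-point-free group of order three.
-/

set_option autoImplicit false
set_option linter.unusedSectionVars false

namespace Cfsg.Agent.M12Sylow

open Cfsg.Agent.G2Type
open Subgroup
open Cfsg.Agent.Involutions

universe w

variable {G : Type w} [Group G] [Finite G]

namespace Ctx

variable (X : Ctx G)

/-- `O(C(z))⟨z⟩`. -/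
abbrev R : Subgroup G := X.U ⊔ zpowers (X.ι z)

theorem mem_R {x : G} : x ∈ X.R ↔ x ∈ X.U ∨ x * X.ι z ∈ X.U := by
  have hz2 : X.ι z * X.ι z = 1 := by rw [← map_mul, show (z : M) * z = 1 from Mdl.zE_sq, map_one]
  have hzn : zpowers (X.ι z) ≤ normalizer (X.U : Set G) := zpowers_le.2 (X.C_le_norm_U (X.ι_mem_C z))
  have hinv : (X.ι z)⁻¹ = X.ι z := inv_eq_of_mul_eq_one_right hz2
  constructor
  · intro h
    rw [← SetLike.mem_coe, coe_mul_of_right_le_normalizer_left _ _ hzn, Set.mem_mul] at h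
    obtain ⟨a, ha, s, hs, rfl⟩ := h
    obtain ⟨k, hk⟩ := mem_zpowers_iff.1 hs
    rw [← hk]
    rcases Int.even_or_odd' k with ⟨j, rfl | rfl⟩
    · left; rw [zpow_mul, zpow_two, hz2, one_zpow, mul_one]; exact ha
    · right; rw [zpow_add, zpow_mul, zpow_two, hz2, one_zpow, one_mul, zpow_one, mul_assoc, hz2, mul_one]
      exact ha
  · rintro (h | h)
    · exact (le_sup_left : X.U ≤ X.R) h
    · have := mul_mem ((le_sup_left : X.U ≤ X.R) h) ((le_sup_right : zpowers (X.ι z) ≤ X.R) (mem_zpowers _))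
      rwa [mul_assoc, hz2, mul_one x] at this

theorem z_mem_R : X.ι z ∈ X.R := (le_sup_right : zpowers (X.ι z) ≤ X.R) (mem_zpowers _)

theorem R_le : X.R ≤ X.C := sup_le X.U_le (zpowers_le.2 (X.ι_mem_C z))

theorem conj_mem_R {c x : G} (hc : c ∈ X.C) (hx : x ∈ X.R) : c * x * c⁻¹ ∈ X.R := by
  rcases X.mem_R.1 hx with h | h
  · exact (le_sup_left : X.U ≤ X.R) (X.conj_mem_U hc h)
  · refine X.mem_R.2 (Or.inr ?_)
    have := X.conj_mem_U hc h
    rwa [show c * (x * X.ι z) * c⁻¹ = c * x * c⁻¹ * (c * X.ι z * c⁻¹) by group, X.conj_z hc] at this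

theorem ι_mem_R {m : M} (h : X.ι m ∈ X.R) : m = 1 ∨ m = z := by
  rcases X.mem_R.1 h with h | h
  · exact Or.inl (X.ι_eq_one_of_mem X.U_odd h)
  · rw [← map_mul] at h
    refine Or.inr ?_
    have e1 := X.ι_eq_one_of_mem X.U_odd h
    rw [eq_inv_of_mul_eq_one_left e1]
    exact inv_eq_of_mul_eq_one_right Mdl.zE_sq

theorem R_normal (H : Subgroup G) (hH : H ≤ X.C) : (X.R.subgroupOf H).Normal :=
  ⟨fun x hx g => X.conj_mem_R (hH g.2) hx⟩

/-- Some element of the half moves a conjugate of `e`, not congruent to it, to `e`. -/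
theorem exists_mover (P : X.Half) : ∃ g ∈ P.H, ∃ x : M, x ∈ Q ∧ g * X.ι x * g⁻¹ = X.ι e ∧
    (x = w1 ∨ x = e' * w1) := by
  obtain ⟨f, hf, hfe, -⟩ := X.move_to_e (x := w1) (c := u) (d := e) X.hw1 (mem_cent.2 (by decide +kernel))
    (mem_cent.2 (by decide +kernel)) (by decide +kernel) (by decide +kernel)
  rcases P.cover f hf with h | h
  · exact ⟨f, h, w1, M12Sylow.mem_Q.2 (by decide +kernel), hfe, Or.inl rfl⟩
  · refine ⟨f * X.ι w2, h, e' * w1, M12Sylow.mem_Q.2 (by decide +kernel), ?_, Or.inr rfl⟩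
    rw [show f * X.ι w2 * X.ι (e' * w1) * (f * X.ι w2)⁻¹ =
      f * (X.ι w2 * X.ι (e' * w1) * (X.ι w2)⁻¹) * f⁻¹ by group, ← map_inv, ← map_mul, ← map_mul,
      show (w2 : M) * (e' * w1) * w2⁻¹ = w1 by decide +kernel, hfe]

section

variable (P : X.Half)

local instance : (X.R.subgroupOf P.H).Normal := X.R_normal P.H P.le

/-- The quotient. -/
abbrev Yq : Type w := ↥P.H ⧸ X.R.subgroupOf P.H

/-- The projection. -/
abbrev π : ↥P.H →* X.Yq P := QuotientGroup.mk' (X.R.subgroupOf P.H)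

/-- The image of an element of `Q`. -/
def πQ : ↥Q →* X.Yq P :=
  (X.π P).comp ((X.ι.comp Q.subtype).codRestrict P.H fun q => P.Q_le ⟨q, q.2, rfl⟩)

theorem π_eq_one {x : ↥P.H} : X.π P x = 1 ↔ (x : G) ∈ X.R := by
  rw [QuotientGroup.mk'_apply, QuotientGroup.eq_one_iff]; rfl

theorem π_eq {x y : ↥P.H} : X.π P x = X.π P y ↔ (x : G)⁻¹ * y ∈ X.R := by
  rw [QuotientGroup.mk'_apply, QuotientGroup.mk'_apply, QuotientGroup.eq]; rfl

theorem πQ_eq_one {q : ↥Q} : X.πQ P q = 1 ↔ (q : M) = 1 ∨ (q : M) = z := by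
  rw [πQ, MonoidHom.comp_apply, π_eq_one]
  show X.ι q ∈ X.R ↔ _
  exact ⟨X.ι_mem_R, by rintro (h | h) <;> rw [h]; exacts [map_one X.ι ▸ one_mem _, X.z_mem_R]⟩

theorem πQ_eq {p q : ↥Q} : X.πQ P p = X.πQ P q ↔ eqz (p : M) q = true := by
  rw [← inv_mul_eq_one, ← map_inv, ← map_mul, πQ_eq_one, eqz_iff]
  show (p : M)⁻¹ * q = 1 ∨ (p : M)⁻¹ * q = z ↔ _
  rw [inv_mul_eq_one, inv_mul_eq_iff_eq_mul]
  constructor
  · rintro (h | h)
    · exact Or.inl h
    · refine Or.inr ?_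
      rw [h, ← mul_assoc, show (z : M) * (p : M) = (p : M) * z from Mdl.zE_central _, mul_assoc,
        show (z : M) * z = 1 from Mdl.zE_sq, mul_one (p : M)]
  · rintro (h | h)
    · exact Or.inl h
    · refine Or.inr ?_
      rw [h, show (z : M) * (q : M) = (q : M) * z from Mdl.zE_central _, mul_assoc,
        show (z : M) * z = 1 from Mdl.zE_sq, mul_one (q : M)]

theorem range_elementary : Cfsg.IsElementaryAbelian 2 (X.πQ P).range := by
  refine ⟨⟨⟨?_⟩⟩, ?_⟩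
  · rintro ⟨_, p, rfl⟩ ⟨_, q, rfl⟩
    apply Subtype.ext
    show X.πQ P p * X.πQ P q = X.πQ P q * X.πQ P p
    rw [← map_mul, ← map_mul, πQ_eq, eqz_iff]
    have h := all_elts q_comm (p : M)
    rw [M12Sylow.mem_Q.1 p.2] at h
    simp only [Bool.not_true, Bool.false_or] at h
    have h' := all_elts h (q : M)
    rw [M12Sylow.mem_Q.1 q.2] at h'
    simp only [Bool.not_true, Bool.false_or, Bool.or_eq_true, beq_iff_eq] at h'
    rcases h' with c | c
    · exact Or.inl (mul_inv_eq_iff_eq_mul.1 (mul_inv_eq_one.1 c))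
    · refine Or.inr ?_
      show (p : M) * q = z * ((q : M) * p)
      rw [← mul_assoc]
      exact mul_inv_eq_iff_eq_mul.1 (mul_inv_eq_iff_eq_mul.1 c)
  · rintro _ ⟨p, rfl⟩
    rw [pow_two, ← map_mul, πQ_eq_one]
    have h := all_elts q_sq (p : M)
    rw [M12Sylow.mem_Q.1 p.2] at h
    simpa using h

theorem range_card : Nat.card (X.πQ P).range = 16 := by
  have hk : Nat.card (X.πQ P).ker = 2 := by
    have mz : z ∈ Q := M12Sylow.mem_Q.2 (by decide +kernel)
    have hset : ((X.πQ P).ker : Set ↥Q) = {1, ⟨z, mz⟩} := by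
      ext q
      rw [SetLike.mem_coe, MonoidHom.mem_ker, πQ_eq_one, Set.mem_insert_iff, Set.mem_singleton_iff,
        Subtype.ext_iff, Subtype.ext_iff, OneMemClass.coe_one]
    show Nat.card ((X.πQ P).ker : Set ↥Q) = 2
    rw [hset, Nat.card_coe_set_eq, Set.ncard_pair fun h => Mdl.zE_ne (congrArg Subtype.val h).symm]
  have h := (X.πQ P).ker.card_eq_card_quotient_mul_card_subgroup
  rw [Nat.card_congr (QuotientGroup.quotientKerEquivRange _).toEquiv, hk, card_Q] at h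
  omega

/-- The Sylow subgroup of the quotient. -/
theorem exists_sylow : ∃ E : Sylow 2 (X.Yq P), (E : Subgroup (X.Yq P)) = (X.πQ P).range := by
  have hp : Fact (Nat.Prime 2) := ⟨Nat.prime_two⟩
  set QH := X.QG.subgroupOf P.H
  have hQp : IsPGroup 2 QH := (X.range_pgroup Q).comap_of_injective _ P.H.subtype_injective
  obtain ⟨T, hT⟩ := hQp.exists_le_sylow
  have e : QH = (T : Subgroup P.H) := by
    refine Subgroup.eq_of_le_of_card_ge hT ?_
    have h := P.card_le (T.2.map P.H.subtype) (map_subtype_le _)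
    rw [card_map_of_injective P.H.subtype_injective] at h
    rw [Nat.card_congr (subgroupOfEquivOfLe P.Q_le).toEquiv, X.card_map, card_Q]
    exact h
  refine ⟨T.mapSurjective (f := X.π P) (QuotientGroup.mk'_surjective _), ?_⟩
  rw [Sylow.coe_mapSurjective, ← e]
  ext y
  constructor
  · rintro ⟨x, ⟨q, hq, hqx⟩, rfl⟩
    exact ⟨⟨q, hq⟩, congrArg (X.π P) (Subtype.ext hqx)⟩
  · rintro ⟨q, rfl⟩
    exact ⟨_, ⟨q, q.2, rfl⟩, rfl⟩

theorem core_trivial : Cfsg.pPrimeCore 2 (X.Yq P) = ⊥ := by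
  have hp : Fact (Nat.Prime 2) := ⟨Nat.prime_two⟩
  set O := Cfsg.pPrimeCore 2 (X.Yq P)
  have hO : (Nat.card O).Coprime 2 := InvChar.Core.coprime_card_pPrimeCore 2
  have hOn : O.Normal := Cores.pPrimeCore_normal 2
  set K := O.comap (X.π P)
  have hKn : K.Normal := hOn.comap _
  set z' : P.H := ⟨X.ι z, P.Q_le ⟨z, M12Sylow.mem_Q.2 (by decide +kernel), rfl⟩⟩
  have hzK : z' ∈ K := by
    show X.π P z' ∈ O
    rw [(X.π_eq_one P).2 X.z_mem_R]; exact one_mem _
  -- `⟨z⟩` is a central Sylow subgroup of the preimage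
  set Z := zpowers (⟨z', hzK⟩ : K)
  have hz2 : orderOf (⟨z', hzK⟩ : K) = 2 := by
    rw [Subgroup.orderOf_mk, Subgroup.orderOf_mk]; exact X.orderOf_ι inv_z
  have hZp : IsPGroup 2 Z := IsPGroup.of_card (n := 1) (by rw [Nat.card_zpowers, hz2, pow_one])
  obtain ⟨T, hT⟩ := hZp.exists_le_sylow
  have hTle : Nat.card T ≤ 2 := by
    have hm : ∀ x : T, ((x : K) : P.H) ∈ (X.R.subgroupOf P.H) := fun x => by
      have h1 : X.π P ((x : K) : P.H) ∈ O := (x : K).2
      obtain ⟨j, hj⟩ := T.2 x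
      rw [← QuotientGroup.eq_one_iff]
      show X.π P ((x : K) : P.H) = 1
      rw [← orderOf_eq_one_iff]
      refine Nat.eq_one_of_dvd_coprimes (Nat.Coprime.pow_right j hO) ?_ ?_
      · rw [← Subgroup.orderOf_mk _ h1]; exact orderOf_dvd_natCard _
      · refine orderOf_dvd_of_pow_eq_one ?_
        rw [← map_pow]
        have := congrArg (fun y : T => ((y : K) : P.H)) hj
        simp only [Subgroup.coe_pow, Subgroup.coe_one] at this
        rw [this, map_one]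
    have hm2 : ∀ x : T, (((x : K) : P.H) : G) = 1 ∨ (((x : K) : P.H) : G) = X.ι z := fun x => by
      have hxR : (((x : K) : P.H) : G) ∈ X.R := hm x
      obtain ⟨j, hj⟩ := T.2 x
      have hx2 : (((x : K) : P.H) : G) ^ 2 ^ j = 1 := by
        have := congrArg (fun y : T => (((y : K) : P.H) : G)) hj
        simpa using this
      have hodd : ∀ y : G, y ∈ X.U → y ^ 2 ^ j = 1 → y = 1 := fun y hy h =>
        orderOf_eq_one_iff.1 (Nat.eq_one_of_dvd_coprimes
          (Nat.Coprime.pow_right j (Nat.coprime_two_right.2 X.U_odd))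
          (by rw [← Subgroup.orderOf_mk y hy]; exact orderOf_dvd_natCard _) (orderOf_dvd_of_pow_eq_one h))
      rcases X.mem_R.1 hxR with h | h
      · exact Or.inl (hodd _ h hx2)
      · refine Or.inr ?_
        have hzz : (z : M) * z = 1 := Mdl.zE_sq
        have e1 : (((x : K) : P.H) : G) * X.ι z = 1 := by
          have hc : Commute (((x : K) : P.H) : G) (X.ι z) :=
            mem_centralizer_singleton_iff.1 (P.le (((x : K) : P.H).2))
          rcases j with - | j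
          · rw [pow_zero, pow_one] at hx2
            rw [hx2, one_mul]
            rw [hx2, one_mul] at h
            exact hodd _ h (by rw [pow_zero, pow_one]; exact absurd (X.ι_eq_one_of_mem X.U_odd h) Mdl.zE_ne)
          · refine hodd _ h ?_
            rw [hc.mul_pow, hx2, one_mul, pow_succ', pow_mul, pow_two, ← map_mul, hzz, map_one, one_pow]
        rw [eq_inv_of_mul_eq_one_left e1, ← map_inv]
        exact congrArg X.ι (inv_eq_of_mul_eq_one_right hzz)
    classical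
    refine le_trans (Nat.card_le_card_of_injective
      (fun x : T => if (((x : K) : P.H) : G) = 1 then false else true) ?_) (by simp)
    intro x y h
    have hne : X.ι z ≠ 1 := Basic.ne_one (X.orderOf_ι inv_z)
    refine Subtype.ext (Subtype.ext (Subtype.ext ?_))
    rcases hm2 x with e1 | e1 <;> rcases hm2 y with e2 | e2 <;> rw [e1, e2] <;> simp [e1, e2, hne] at h
  have hTZ : (T : Subgroup K) = Z :=
    (Subgroup.eq_of_le_of_card_ge hT (by rw [Nat.card_zpowers, hz2]; exact hTle)).symm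
  have hNC : normalizer ((T : Subgroup K) : Set K) ≤ centralizer ((T : Subgroup K) : Set K) := by
    intro x _
    rw [hTZ, mem_centralizer_iff]
    rintro _ ⟨k, rfl⟩
    refine (Commute.zpow_left ?_ k).eq
    refine Subtype.ext (Subtype.ext ?_)
    exact (mem_centralizer_singleton_iff.1 (P.le ((x : K) : P.H).2)).symm
  have hcompl := MonoidHom.ker_transferSylow_isComplement' T hNC
  set N := (MonoidHom.transferSylow T hNC).ker
  have hNU : ∀ x ∈ N, (((x : K) : P.H) : G) ∈ X.U := by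
    have hNodd : (Nat.card N).Coprime 2 := Nat.coprime_comm.1 ((Nat.Prime.coprime_iff_not_dvd Nat.prime_two).2
      (MonoidHom.not_dvd_card_ker_transferSylow T hNC))
    intro x hx
    have h1 : (x : P.H) ∈ Cfsg.pPrimeCore 2 P.H := InvChar.Core.map_pPrimeCore_le_of_isSubnormal 2
      hKn.isSubnormal ⟨x, InvChar.Core.le_pPrimeCore inferInstance hNodd hx, rfl⟩
    have hHn : (P.H.subgroupOf X.C).Normal := ⟨fun y hy c => P.norm c c.2 y hy⟩
    have h2 : Subgroup.inclusion P.le (x : P.H) ∈ Cfsg.pPrimeCore 2 X.C := by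
      refine InvChar.Core.map_pPrimeCore_le_of_isSubnormal 2 hHn.isSubnormal
        ⟨(subgroupOfEquivOfLe P.le).symm (x : P.H), ?_, rfl⟩
      rw [← InvChar.Core.map_pPrimeCore_equiv 2 (subgroupOfEquivOfLe P.le).symm]
      exact ⟨_, h1, rfl⟩
    exact ⟨_, h2, rfl⟩
  refine (Subgroup.eq_bot_iff_forall _).2 fun y hy => ?_
  obtain ⟨x, rfl⟩ := QuotientGroup.mk'_surjective (X.R.subgroupOf P.H) y
  have hx : x ∈ K := hy
  have hmem : (⟨x, hx⟩ : K) ∈ N ⊔ (T : Subgroup K) := by rw [hcompl.sup_eq_top]; exact mem_top _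
  rw [mem_sup_of_normal_left] at hmem
  obtain ⟨a, ha, b, hb, hab⟩ := hmem
  refine (X.π_eq_one P).2 ?_
  have e1 : ((a : P.H) : G) * ((b : P.H) : G) = (x : G) := congrArg (fun t : K => ((t : P.H) : G)) hab
  rw [← e1]
  rw [hTZ] at hb
  obtain ⟨k, rfl⟩ := hb
  refine mul_mem ((le_sup_left : X.U ≤ X.R) (hNU a ha)) ?_
  simp only [SubgroupClass.coe_zpow]
  exact zpow_mem X.z_mem_R k

/-- Lift of a normalising element. -/
theorem lift_normalizer {y : X.Yq P} (hy : y ∈ normalizer ((X.πQ P).range : Set (X.Yq P))) :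
    ∃ q : ↥Q, ∃ n : P.H, (n : G) ∈ P.N0 ∧ X.πQ P q * y = X.π P n := by
  have hp : Fact (Nat.Prime 2) := ⟨Nat.prime_two⟩
  obtain ⟨x, rfl⟩ := QuotientGroup.mk'_surjective (X.R.subgroupOf P.H) y
  set J := X.U ⊔ X.QG with hJ
  have hJH : J ≤ P.H := sup_le P.U_le' P.Q_le
  have hzJ : X.ι z ∈ J := (le_sup_right : X.QG ≤ J) ⟨z, M12Sylow.mem_Q.2 (by decide +kernel), rfl⟩
  have hRJ : X.R ≤ J := sup_le le_sup_left (zpowers_le.2 hzJ)
  have hPJ : X.QG.map (MulAut.conj (x : G)).toMonoidHom ≤ J := by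
    rintro _ ⟨_, ⟨q, hq, rfl⟩, rfl⟩
    obtain ⟨q', hq'⟩ := (mem_normalizer_iff.1 hy _).1 (MonoidHom.mem_range.2 ⟨⟨q, hq⟩, rfl⟩ :
      X.πQ P ⟨q, hq⟩ ∈ (X.πQ P).range)
    rw [← map_inv, πQ, MonoidHom.comp_apply, MonoidHom.comp_apply] at hq'
    have hq'' := hq'
    rw [← map_mul, ← map_mul, π_eq] at hq''
    have h3 : X.ι (q' : M) ∈ J := (le_sup_right : X.QG ≤ J) ⟨q', q'.2, rfl⟩
    have h4 := mul_mem h3 (hRJ hq'')
    show (x : G) * X.ι q * (x : G)⁻¹ ∈ J
    simpa [mul_assoc] using h4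
  obtain ⟨g, hg, hgm⟩ := exists_conj_into (X.range_pgroup Q) (le_sup_right : X.QG ≤ J)
    (fun T hT hTJ _ => by rw [X.card_map, card_Q]; exact P.card_le hT (hTJ.trans hJH))
    ((X.range_pgroup Q).map _) hPJ
  have hgx : g * (x : G) ∈ normalizer (X.QG : Set G) := by
    have hle : X.QG.map (MulAut.conj (g * (x : G))).toMonoidHom ≤ X.QG := by
      rintro _ ⟨a, ha, rfl⟩
      have := hgm _ ⟨a, ha, rfl⟩
      show g * (x : G) * a * (g * (x : G))⁻¹ ∈ X.QG
      simpa [mul_assoc] using this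
    have he := Subgroup.eq_of_le_of_card_ge hle
      (le_of_eq (card_map_of_injective (MulAut.conj (g * (x : G))).injective).symm)
    refine mem_normalizer_iff.2 fun a => ⟨fun ha => hle ⟨a, ha, rfl⟩, fun ha => ?_⟩
    rw [← he] at ha
    obtain ⟨a', ha', e1⟩ := ha
    rwa [(MulAut.conj (g * (x : G))).injective e1] at ha'
  have hUn : X.QG ≤ normalizer (X.U : Set G) := X.Q_le_C.trans X.C_le_norm_U
  rw [← SetLike.mem_coe, coe_mul_of_right_le_normalizer_left _ _ hUn, Set.mem_mul] at hg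
  obtain ⟨a, ha, _, ⟨q, hq, rfl⟩, rfl⟩ := hg
  refine ⟨⟨q, hq⟩, ⟨a * X.ι q * x, mul_mem (mul_mem (P.U_le' ha) (P.Q_le ⟨q, hq, rfl⟩)) x.2⟩,
    Subgroup.mem_inf.2 ⟨mul_mem (mul_mem (P.U_le' ha) (P.Q_le ⟨q, hq, rfl⟩)) x.2, hgx⟩, ?_⟩
  rw [πQ, MonoidHom.comp_apply, ← map_mul, π_eq]
  show (X.ι q * (x : G))⁻¹ * (a * X.ι q * (x : G)) ∈ X.R
  rw [show (X.ι q * (x : G))⁻¹ * (a * X.ι q * (x : G)) =
    (X.ι q * (x : G))⁻¹ * a * (X.ι q * (x : G))⁻¹⁻¹ by group]
  exact X.conj_mem_R (inv_mem (mul_mem (X.ι_mem_C q) (P.le x.2))) ((le_sup_left : X.U ≤ X.R) ha)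

/-- The structure of the quotient. -/
theorem quot_normal : (X.πQ P).range.Normal ∧
    centralizer ((X.πQ P).range : Set (X.Yq P)) = (X.πQ P).range ∧
    ∀ y : X.Yq P, ∀ q : ↥Q, X.πQ P q ≠ 1 → y * X.πQ P q = X.πQ P q * y → y ∈ (X.πQ P).range := by
  have hp : Fact (Nat.Prime 2) := ⟨Nat.prime_two⟩
  obtain ⟨E, hE⟩ := X.exists_sylow P
  have hel : Cfsg.IsElementaryAbelian 2 (E : Subgroup (X.Yq P)) := hE ▸ X.range_elementary P
  have hcomm : ∀ a ∈ (X.πQ P).range, ∀ c ∈ (X.πQ P).range, a * c = c * a := fun a ha c hc =>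
    congrArg Subtype.val ((X.range_elementary P).1.is_comm.comm (⟨a, ha⟩ : (X.πQ P).range) ⟨c, hc⟩)
  have hfix : ∀ n ∈ normalizer ((X.πQ P).range : Set (X.Yq P)), ∀ v ∈ (X.πQ P).range, v ≠ 1 →
      n * v = v * n → ∀ w ∈ (X.πQ P).range, n * w = w * n := by
    rintro n hn _ ⟨q₀, rfl⟩ hv1 hnv _ ⟨q, rfl⟩
    obtain ⟨s, m, hm, hsm⟩ := X.lift_normalizer P hn
    have hmv : X.π P m * X.πQ P q₀ = X.πQ P q₀ * X.π P m := by
      rw [← hsm, mul_assoc, hnv, ← mul_assoc, hcomm _ ⟨s, rfl⟩ _ ⟨q₀, rfl⟩, mul_assoc]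
    obtain ⟨ψ, hψ, hin, -, -, -, -, -⟩ := X.exists_act (P.le hm.1) hm.2
    have key : ∀ x : ↥Q, X.π P m * X.πQ P x * (X.π P m)⁻¹ = X.πQ P ⟨ψ x, hin x x.2⟩ := fun x => by
      rw [πQ, MonoidHom.comp_apply, MonoidHom.comp_apply, ← map_inv, ← map_mul, ← map_mul]
      refine congrArg (X.π P) (Subtype.ext ?_)
      exact (hψ x x.2).symm
    have h0 : eqz (ψ q₀) q₀ = true := by
      have := key q₀
      rw [hmv, mul_inv_cancel_right, eq_comm, πQ_eq] at this
      exact this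
    have hq0 := fun e1 => hv1 ((X.πQ_eq_one P).2 e1)
    have h1 := X.fix_all P hm q₀.2 (fun e1 => hq0 (Or.inl e1)) (fun e1 => hq0 (Or.inr e1))
      (hψ q₀ q₀.2) h0 q.2 (hψ q q.2)
    have h2 : X.π P m * X.πQ P q * (X.π P m)⁻¹ = X.πQ P q := by
      rw [key, πQ_eq]; exact h1
    rw [mul_inv_eq_iff_eq_mul, ← hsm, mul_assoc, ← mul_assoc (X.πQ P q), ← hcomm _ ⟨s, rfl⟩ _ ⟨q, rfl⟩,
      mul_assoc (X.πQ P s), mul_left_cancel_iff] at h2
    exact h2
  obtain ⟨hn, hc⟩ := normal_of_fixed E hel (by rw [hE, X.range_card P]; norm_num) (hE ▸ hfix)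
    (X.core_trivial P) (by
      have me : e ∈ Q := M12Sylow.mem_Q.2 (by decide +kernel)
      have mu : u ∈ Q := M12Sylow.mem_Q.2 (by decide +kernel)
      have he1 : X.πQ P ⟨e, me⟩ ≠ 1 := fun h => by
        rcases (X.πQ_eq_one P).1 h with h | h
        · exact Mdl.eE_ne h
        · exact Mdl.eE_ne_zE h
      have hu1 : X.πQ P ⟨u, mu⟩ ≠ 1 := fun h => by
        rcases (X.πQ_eq_one P).1 h with h | h <;> change (u : M) = _ at h <;>
          exact absurd h (by decide +kernel)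
      refine ⟨X.πQ P ⟨e, me⟩, X.πQ P ⟨u, mu⟩, orderOf_eq_prime ((X.range_elementary P).2 _ ⟨_, rfl⟩) he1,
        orderOf_eq_prime ((X.range_elementary P).2 _ ⟨_, rfl⟩) hu1, fun h => ?_⟩
      obtain ⟨g, hg⟩ := isConj_iff.1 h
      obtain ⟨n, hn, hne⟩ := fusion_normalizer E hel (v := X.πQ P ⟨e, me⟩) (w := X.πQ P ⟨u, mu⟩) (g := g)
        (hE ▸ ⟨_, rfl⟩) (hE ▸ ⟨_, rfl⟩) hg
      rw [hE] at hn
      obtain ⟨s, m, hm, hsm⟩ := X.lift_normalizer P hn
      obtain ⟨ψ, hψ, hin, -, -, -, hii, hK⟩ := X.exists_act (P.le hm.1) hm.2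
      have key : X.π P m * X.πQ P ⟨e, me⟩ * (X.π P m)⁻¹ = X.πQ P ⟨ψ e, hin e me⟩ := by
        rw [πQ, MonoidHom.comp_apply, MonoidHom.comp_apply, ← map_inv, ← map_mul, ← map_mul]
        refine congrArg (X.π P) (Subtype.ext ?_)
        exact (hψ e me).symm
      rw [← hsm, show X.πQ P s * n * X.πQ P ⟨e, me⟩ * (X.πQ P s * n)⁻¹ =
        X.πQ P s * (n * X.πQ P ⟨e, me⟩ * n⁻¹) * (X.πQ P s)⁻¹ by group, hne,
        hcomm _ ⟨s, rfl⟩ _ ⟨⟨u, mu⟩, rfl⟩, mul_inv_cancel_right, πQ_eq, eqz_iff] at key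
      have hKe : X.K (ψ e) := (hK e me).2 X.K_e
      rcases key with k | k
      · exact X.not_K_u ((show u = ψ e from k) ▸ hKe)
      · have hi := hii e me inv_e
        have e2 : ψ e = z * u := by
          rw [show u = z * ψ e from k, ← mul_assoc, show (z : M) * z = 1 from Mdl.zE_sq, one_mul]
        rw [X.K_iff hi, e2, show typ (z * u) = 2 by decide +kernel] at hKe
        simp at hKe)
  rw [hE] at hn hc
  refine ⟨hn, hc, fun y q hq h => ?_⟩
  rw [← hc, mem_centralizer_iff]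
  intro w hw
  exact (hfix y (by rw [normalizer_eq_top_iff.2 hn]; trivial) _ ⟨q, rfl⟩ hq h w hw).symm

end

end Ctx

end Cfsg.Agent.M12Sylow
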