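import Cfsg.Agent.Lib.M12Sylow.CentZQuot

/-!
# The centraliser of the central involution modulo its odd core

`C(z) = O(C(z)) N(Q)`, `C(Q)` lies in `⟨z⟩ O(C(z))`, and `Q O(C(z))` is normal in `C(z)`.
-/

set_option autoImplicit false
set_option linter.unusedSectionVars false

namespace Cfsg.Agent.M12Sylow.CentZ

open Cfsg.Agent.G2Type Cfsg.Agent.StronglyClosedFour Subgroup

universe u

theorem char_inner : ∀ a b c d : Bool, ∃ q : Md, inQ q = true ∧
    q * cb * q⁻¹ = cb * (bif a then cz else 1) ∧ q * ce * q⁻¹ = ce * (bif b then cz else 1) ∧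
    q * c1 * q⁻¹ = c1 * (bif c then cz else 1) ∧ q * cu * q⁻¹ = cu * (bif d then cz else 1) := by
  decide +kernel

variable {G : Type u} [Group G] [Finite G]

theorem mem_normalizer_sup {A B : Subgroup G} {g : G} (hA : g ∈ normalizer (A : Set G))
    (hB : g ∈ normalizer (B : Set G)) : g ∈ normalizer ((A ⊔ B : Subgroup G) : Set G) := by
  refine mem_normalizer_fintype fun x hx => ?_
  have hle : A ⊔ B ≤ (A ⊔ B).comap (MulAut.conj g).toMonoidHom := sup_le
    (fun a ha => mem_sup_left ((mem_normalizer_iff.1 hA a).1 ha))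
    (fun b hb => mem_sup_right ((mem_normalizer_iff.1 hB b).1 hb))
  exact hle hx

namespace Data

variable (D : Data G)

/-- The odd core of `C(z)`. -/
def U : Subgroup G := core D.C

theorem U_le : D.U ≤ D.C := core_le _

theorem U_odd : Odd (Nat.card D.U) := core_odd _

theorem C_le_normalizer_U : D.C ≤ normalizer (D.U : Set G) := le_normalizer_core _

/-- `C(z) = O(C(z)) N(Q)`. -/
theorem split : ∀ k ∈ D.C, ∃ o ∈ D.U, ∃ n ∈ D.C ⊓ normalizer (D.Qg : Set G), k = o * n := by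
  obtain ⟨K, hKC, hKn, -, hiff, hodd, hout⟩ := D.exists_K
  have hQK : D.Qg ≤ K := by rintro _ ⟨q, hq, rfl⟩; exact (hiff q).2 hq
  have hcU : core K ≤ D.U := core_le_core hKC (hKn.trans (normalizer_le_normalizer_core K))
  intro k hk
  by_cases hkK : k ∈ K
  · obtain ⟨o, ho, n, hn, e⟩ := D.split_K hKC hQK hodd k hkK
    exact ⟨o, hcU ho, n, ⟨hKC hn.1, hn.2⟩, e⟩
  · obtain ⟨o, ho, n, hn, e⟩ := D.split_K hKC hQK hodd _ (hout k hk hkK)
    have hc2 : D.ι c2 ∈ normalizer (D.Qg : Set G) :=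
      D.normQ_iff.1 fun q hq => ⟨_, Q_conj _ q hq, mp_ι c2 q⟩
    refine ⟨o, hcU ho, n * (D.ι c2)⁻¹, mem_inf.2 ⟨mul_mem (hKC hn.1) (inv_mem (D.ι_mem_C _)),
      mul_mem (mem_inf.1 hn).2 (inv_mem hc2)⟩, ?_⟩
    · rw [← mul_assoc, ← e, mul_inv_cancel_right]

/-- Elements of `C(z)` moving every element of `Q` inside its coset lie in `Q` times `C(Q)`. -/
theorem exists_inner {g : G} (hg : D.Triv g) :
    ∃ q, inQ q = true ∧ (D.ι q)⁻¹ * g ∈ centralizer (D.Qg : Set G) := by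
  have gen : ∀ x, inQ x = true → ∃ b : Bool, D.Mp g x (x * (bif b then cz else 1)) := by
    intro x hx
    obtain ⟨x', h, hm⟩ := hg x hx
    rcases h with rfl | rfl
    · exact ⟨false, by simpa using hm⟩
    · exact ⟨true, hm⟩
  obtain ⟨a, ha⟩ := gen cb (by decide +kernel)
  obtain ⟨b, hb⟩ := gen ce (by decide +kernel)
  obtain ⟨c, hc⟩ := gen c1 (by decide +kernel)
  obtain ⟨d, hd⟩ := gen cu (by decide +kernel)
  obtain ⟨q, hq, qa, qb, qc, qd⟩ := char_inner a b c d
  have fix : ∀ x y : Md, D.Mp g x y → q * x * q⁻¹ = y → D.Mp ((D.ι q)⁻¹ * g) x x := by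
    intro x y h e
    have h' := mp_ι (D := D) q x
    rw [e] at h'
    exact mp_comp h (mp_inv h')
  refine ⟨q, hq, mem_centralizer_iff.2 ?_⟩
  rintro _ ⟨x, hx, rfl⟩
  obtain ⟨i, j, k, l, m, rfl⟩ := Q_gens x hx
  have hb1 : ∀ (t : Bool) (w : Md), D.Mp ((D.ι q)⁻¹ * g) w w →
      D.Mp ((D.ι q)⁻¹ * g) (bif t then w else 1) (bif t then w else 1) := fun t w hw => by
    cases t <;> [exact mp_one _; exact hw]
  have fa := fix _ _ ha qa
  exact (mul_inv_eq_iff_eq_mul.1 (mp_mul (mp_mul (mp_mul (mp_mul (hb1 i _ fa) (hb1 j _ (mp_mul fa fa)))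
    (hb1 k _ (fix _ _ hb qb))) (hb1 l _ (fix _ _ hc qc))) (hb1 m _ (fix _ _ hd qd)))).symm

/-- `C(Q)` in `C(z)` is `⟨z⟩` times a part of the odd core. -/
theorem centQ_le : D.C ⊓ centralizer (D.Qg : Set G) ≤ D.U ⊔ zpowers (D.ι cz) := by
  haveI : Fact (Nat.Prime 2) := ⟨Nat.prime_two⟩
  set Y := D.C ⊓ centralizer (D.Qg : Set G) with hY
  have hzY : zpowers (D.ι cz) ≤ Y := zpowers_le.2 ⟨D.ι_mem_C _, mem_centralizer_iff.2 (by
    rintro _ ⟨x, -, rfl⟩
    rw [← map_mul, ← map_mul, z_central])⟩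
  obtain ⟨K, hKC, hKn, -, hiff, hodd, -⟩ := D.exists_K
  have hQK : D.Qg ≤ K := by rintro _ ⟨q, hq, rfl⟩; exact (hiff q).2 hq
  have hz2 : Nat.card (zpowers (D.ι cz)) = 2 := by
    rw [Nat.card_zpowers, orderOf_injective D.ι D.inj, Involutions.Basic.orderOf_two_iff]
    decide +kernel
  have hYodd : Odd ((zpowers (D.ι cz)).relIndex Y) := by
    obtain ⟨P⟩ : Nonempty (Sylow 2 Y) := inferInstance
    set PG := (P : Subgroup Y).map Y.subtype with hPG
    have hPY : PG ≤ Y := map_subtype_le _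
    have hPn : PG ≤ normalizer (D.Qg : Set G) :=
      hPY.trans (inf_le_right.trans (centralizer_le_normalizer _))
    obtain ⟨c, hc, hcB⟩ := exists_conj_into (K := D.C) (T := (D.S : Subgroup G))
      (IsPGroup.to_sup_of_normal_left' (D.isPGroup_map Qs) (P.2.map Y.subtype) hPn)
      (sup_le D.Qg_le_C (hPY.trans inf_le_left)) D.odd_S_C
    have hcn : ∀ q, inQ q = true → ∃ q', inQ q' = true ∧ D.Mp c⁻¹ q q' := by
      intro q hq
      have h := hcB (D.ι q) (mem_sup_left ⟨q, hq, rfl⟩)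
      rw [← D.range] at h
      obtain ⟨q', hq'⟩ := h
      refine ⟨q', (hiff q').1 ?_, by rw [Mp, inv_inv, hq']⟩
      rw [hq']
      have := (mem_normalizer_iff.1 (hKn (inv_mem hc)) (D.ι q)).1 ((hiff q).2 hq)
      rwa [inv_inv] at this
    have hcN : c ∈ normalizer (D.Qg : Set G) := by
      have := inv_mem ((D.normQ_iff (g := c⁻¹)).1 hcn)
      rwa [inv_inv] at this
    have hle : PG ≤ zpowers (D.ι cz) := by
      intro x hx
      have hxC := (mem_inf.1 (hPY hx)).2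
      have h := hcB x (mem_sup_right hx)
      rw [← D.range] at h
      obtain ⟨x', hx'⟩ := h
      have hcomm : ∀ q, inQ q = true → x' * q = q * x' := by
        intro q hq
        obtain ⟨y, hy, hye⟩ := (mem_normalizer_iff.1 hcN (D.ι q)).1 ⟨q, hq, rfl⟩
        have hcx := mem_centralizer_iff.1 hxC _ ⟨y, hy, rfl⟩
        rw [hye] at hcx
        apply D.inj
        rw [map_mul, map_mul, hx']
        calc c⁻¹ * x * c * D.ι q = c⁻¹ * (x * (c * D.ι q * c⁻¹)) * c := by group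
          _ = c⁻¹ * (c * D.ι q * c⁻¹ * x) * c := by rw [hcx]
          _ = _ := by group
      have hxe : x = c * D.ι x' * c⁻¹ := by rw [hx']; group
      rcases cent_gens x' (hcomm _ (by decide +kernel)) (hcomm _ (by decide +kernel))
        (hcomm _ (by decide +kernel)) (hcomm _ (by decide +kernel)) with rfl | rfl
      · rw [hxe, map_one, mul_one, mul_inv_cancel]; exact one_mem _
      · rw [hxe, show c * D.ι cz * c⁻¹ = D.ι cz from D.mem_C.1 hc]; exact mem_zpowers _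
    have hP : (P : Subgroup Y) ≤ (zpowers (D.ι cz)).subgroupOf Y := fun y hy =>
      mem_subgroupOf.2 (hle (mem_map_of_mem Y.subtype hy))
    have h := P.not_dvd_index
    rw [← Nat.not_even_iff_odd]
    exact fun he => h ((even_iff_two_dvd.1 he).trans (index_dvd_of_le hP))
  intro y hy
  obtain ⟨o, ho, a, ha, rfl⟩ := burnside (IsPGroup.of_card (n := 1) (by rw [hz2, pow_one])) hzY hYodd
    (fun m hm _ a ha => by
      obtain ⟨i, rfl⟩ := mem_zpowers_iff.1 ha
      have h : Commute m (D.ι cz) := mul_inv_eq_iff_eq_mul.1 (D.mem_C.1 (mem_inf.1 hm).1)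
      exact (h.zpow_right i).eq) y hy
  refine mul_mem (mem_sup_left ?_) (mem_sup_right ha)
  have hWC : core Y ⊔ D.U ≤ D.C := sup_le ((core_le Y).trans inf_le_left) D.U_le
  have hn : D.C ≤ normalizer ((core Y ⊔ D.U : Subgroup G) : Set G) := by
    intro k hk
    obtain ⟨o', ho', n, hn, rfl⟩ := D.split k hk
    refine mul_mem (Subgroup.le_normalizer (mem_sup_right ho')) ?_
    have hnY : n ∈ normalizer (Y : Set G) := by
      refine mem_normalizer_fintype fun x hx => ?_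
      obtain ⟨hxC, hxQ⟩ := mem_inf.1 hx
      refine mem_inf.2 ⟨mul_mem (mul_mem hn.1 hxC) (inv_mem hn.1), mem_centralizer_iff.2 fun q hq => ?_⟩
      have h := mem_centralizer_iff.1 hxQ _ ((mem_normalizer_iff''.1 hn.2 q).1 hq)
      calc q * (n * x * n⁻¹) = n * (n⁻¹ * q * n * x) * n⁻¹ := by group
        _ = n * (x * (n⁻¹ * q * n)) * n⁻¹ := by rw [h]
        _ = n * x * n⁻¹ * q := by group
    exact mem_normalizer_sup (normalizer_le_normalizer_core Y hnY) (D.C_le_normalizer_U hn.1)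
  exact le_core hWC hn (odd_sup
    (((core_le Y).trans inf_le_left).trans D.C_le_normalizer_U) (core_odd _) D.U_odd)
    (mem_sup_left ho)

/-- `Q O(C(z))` is normal in `C(z)`. -/
theorem C_le_normalizer_QU : D.C ≤ normalizer ((D.Qg ⊔ D.U : Subgroup G) : Set G) := by
  intro k hk
  obtain ⟨o, ho, n, hn, rfl⟩ := D.split k hk
  exact mul_mem (Subgroup.le_normalizer (mem_sup_right ho))
    (mem_normalizer_sup hn.2 (D.C_le_normalizer_U hn.1))

/-- Elements of `C(z)` moving every element of `Q` inside its coset lie in `Q O(C(z))`. -/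
theorem mem_QU_of_triv {g : G} (hC : g ∈ D.C) (hg : D.Triv g) : g ∈ D.Qg ⊔ D.U := by
  obtain ⟨q, hq, h⟩ := D.exists_inner hg
  have hzQ : zpowers (D.ι cz) ≤ D.Qg ⊔ D.U :=
    zpowers_le.2 (mem_sup_left ⟨cz, mem_Qs.2 (by decide +kernel), rfl⟩)
  have h' := sup_le le_sup_right hzQ (D.centQ_le (mem_inf.2 ⟨mul_mem (inv_mem (D.ι_mem_C q)) hC, h⟩))
  have := mul_mem (mem_sup_left ⟨q, hq, rfl⟩ : D.ι q ∈ D.Qg ⊔ D.U) h'
  rwa [mul_inv_cancel_left] at this

end Data

end Cfsg.Agent.M12Sylow.CentZ
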