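import Cfsg.Agent.Lib.M12Sylow.CentZKernel

/-!
# Elements of `C(z)` normalising `Q`

An element of the subgroup of index 2 normalising `Q` and fixing a point of `Q / ⟨z⟩` fixes all of it.
-/

set_option autoImplicit false
set_option linter.unusedSectionVars false

namespace Cfsg.Agent.M12Sylow.CentZ

open Cfsg.Agent.G2Type Cfsg.Agent.StronglyClosedFour Subgroup

/-- The three points. -/
def rep : Fin 3 → Md := ![ce, c1, ⟨2, 1, true, true⟩]

theorem rep_ok : ∀ i : Fin 3, inE (rep i) = true ∧ rep i ≠ 1 ∧ rep i ≠ cz ∧ cls (rep i) = i := by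
  decide +kernel

theorem perm_sq : ∀ (σ : Fin 3 → Fin 3) (a : Fin 3), Function.Injective σ → σ a = a →
    ∀ c, σ (σ c) = c := by decide +kernel

theorem div_Q : ∀ q q' : Md, inQ q = true → inQ q' = true → inQ (q⁻¹ * q') = true := by decide +kernel

theorem E_inQ : ∀ x : Md, inE x = true → inQ x = true := by decide +kernel

theorem mul_cz_eq : ∀ x : Md, x * cz * cz = x := by decide +kernel

theorem cls_mul_cz : ∀ x : Md, inE x = true → inE (x * cz) = true := by decide +kernel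

theorem commute_E : ∀ q d t : Md, inQ q = true → inQ d = true → inE t = true →
    (q * t = t * q ↔ (q * d) * t = t * (q * d)) → (d * t = t * d) := by
  intro q d t hq hd ht h
  have key : ∀ x t : Md, inQ x = true → inE t = true → x * t = t * x ∨ x * t = t * x * cz := by
    decide +kernel
  rcases key q t hq ht with h1 | h1
  · exact mul_left_cancel (a := q) (by
      rw [← mul_assoc, (h.1 h1), ← mul_assoc t, ← h1, mul_assoc])
  · rcases key d t hd ht with h2 | h2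
    · exact h2
    · exfalso
      have h3 : (q * d) * t = t * (q * d) := by
        rw [mul_assoc, h2, ← mul_assoc, ← mul_assoc, h1]
        have e := mul_cz_eq (t * q * d)
        rw [mul_assoc (t * q) cz d, z_central, ← mul_assoc, e, mul_assoc]
      rw [h.2 h3] at h1
      exact absurd (mul_eq_left.1 h1.symm) (by decide +kernel)

variable {G : Type*} [Group G] [Finite G]

namespace Data

variable (D : Data G)

/-- `g` normalises `Q`. -/
def NormQ (g : G) : Prop := ∀ q, inQ q = true → ∃ q', inQ q' = true ∧ D.Mp g q q'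

/-- `g` moves every element of `Q` inside its coset of `⟨z⟩`. -/
def Triv (g : G) : Prop :=
  ∀ q, inQ q = true → ∃ q', (q' = q ∨ q' = q * cz) ∧ D.Mp g q q'

theorem normQ_iff {g : G} : D.NormQ g ↔ g ∈ normalizer (D.Qg : Set G) := by
  constructor
  · intro h
    refine mem_normalizer_fintype fun y hy => ?_
    obtain ⟨q, hq, rfl⟩ := hy
    obtain ⟨q', hq', hm⟩ := h q hq
    exact ⟨q', hq', hm.symm⟩
  · intro h q hq
    obtain ⟨q', hq', hm⟩ := (mem_normalizer_iff.1 h (D.ι q)).1 ⟨q, hq, rfl⟩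
    exact ⟨q', hq', hm.symm⟩

/-- Elements fixing `z` and moving each `q` inside `q ⟨z⟩`. -/
def trivSubgroup : Subgroup G where
  carrier := {g | D.Triv g ∧ D.Mp g cz cz}
  one_mem' := ⟨fun q _ => ⟨q, Or.inl rfl, by simp [Mp]⟩, by simp [Mp]⟩
  mul_mem' := by
    intro a b ⟨ha, haz⟩ ⟨hb, hbz⟩
    refine ⟨fun q hq => ?_, mp_comp hbz haz⟩
    obtain ⟨q1, h1, hm1⟩ := hb q hq
    obtain ⟨q2, h2, hm2⟩ := ha q hq
    rcases h1 with e | e <;> rw [e] at hm1
    · exact ⟨q2, h2, mp_comp hm1 hm2⟩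
    · refine ⟨q2 * cz, ?_, mp_comp hm1 (mp_mul hm2 haz)⟩
      rcases h2 with rfl | rfl
      · exact Or.inr rfl
      · exact Or.inl (mul_cz_eq q)
  inv_mem' := by
    intro a ⟨ha, haz⟩
    refine ⟨fun q hq => ?_, mp_inv haz⟩
    obtain ⟨q1, h1, hm1⟩ := ha q hq
    rcases h1 with e | e <;> rw [e] at hm1
    · exact ⟨q, Or.inl rfl, mp_inv hm1⟩
    · refine ⟨q * cz, Or.inr rfl, ?_⟩
      have := mp_inv (mp_mul hm1 haz)
      rwa [mul_cz_eq] at this

theorem mem_triv {g : G} : g ∈ D.trivSubgroup ↔ D.Triv g ∧ D.Mp g cz cz := Iff.rfl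

/-- Images of the points of `E / ⟨z⟩`. -/
theorem image_E {g : G} (hg : D.NormQ g) (hz : D.Mp g cz cz) {x : Md} (hx : inE x = true)
    (hx1 : x ≠ 1) (hxz : x ≠ cz) :
    ∃ y, inE y = true ∧ y ≠ 1 ∧ y ≠ cz ∧ D.Mp g x y := by
  obtain ⟨y, hy, hm⟩ := hg x (E_inQ x hx)
  have hxZ : isZ x = true := (((E_iff x).1 hx).resolve_left hx1).2
  refine ⟨y, (E_iff y).2 (Or.inr ⟨hy, ?_⟩), fun e => hx1 ((mp_one_iff hm).2 e), fun e => ?_, hm⟩
  · rw [D.mp_isZ hm (isZ_sq x hxZ).1, hxZ]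
  · subst e; exact hxz (mp_left hm hz)

/-- An element of odd order fixing a point of `E / ⟨z⟩` centralises `Q`. -/
theorem odd_centralizes {g : G} (ho : Odd (orderOf g)) (hz : D.Mp g cz cz) (hg : D.NormQ g) {t : Md}
    (ht : inE t = true) (ht1 : t ≠ 1) (htz : t ≠ cz)
    (hfix : ∃ t', (t' = t ∨ t' = t * cz) ∧ D.Mp g t t') :
    ∀ q, inQ q = true → D.Mp g q q := by
  choose φ hφE hφ1 hφz hφ using fun i : Fin 3 =>
    D.image_E hg hz (rep_ok i).1 (rep_ok i).2.1 (rep_ok i).2.2.1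
  let σ : Fin 3 → Fin 3 := fun i => cls (φ i)
  have hσ : ∀ x, inE x = true → x ≠ 1 → x ≠ cz → ∀ y, D.Mp g x y → cls y = σ (cls x) := by
    intro x hx h1 hxz y hm
    obtain ⟨hr, hr1, hrz, hrc⟩ := rep_ok (cls x)
    have hy : y = φ (cls x) ∨ y = φ (cls x) * cz := by
      rcases (cls_eq _ x hr hr1 hrz hx h1 hxz).1 hrc with e | e
      · refine Or.inl (mp_eq hm ?_)
        show g * D.ι x * g⁻¹ = _
        rw [congrArg D.ι e]
        exact hφ _
      · refine Or.inr (mp_eq hm ?_)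
        show g * D.ι x * g⁻¹ = _
        rw [congrArg D.ι e]
        exact mp_mul (hφ _) hz
    obtain ⟨y', hy', hy1, hyz, hm'⟩ := D.image_E hg hz hx h1 hxz
    obtain rfl := mp_eq hm hm'
    exact ((cls_eq _ y (hφE _) (hφ1 _) (hφz _) hy' hy1 hyz).2 hy).symm
  have hinj : Function.Injective σ := by
    intro i j hij
    have h := (cls_eq _ _ (hφE i) (hφ1 i) (hφz i) (hφE j) (hφ1 j) (hφz j)).1 hij
    rw [← (rep_ok i).2.2.2, ← (rep_ok j).2.2.2]
    obtain ⟨hi, hi1, hiz, -⟩ := rep_ok i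
    obtain ⟨hj, hj1, hjz, -⟩ := rep_ok j
    refine (cls_eq _ _ hi hi1 hiz hj hj1 hjz).2 ?_
    rcases h with e | e
    · exact Or.inl (mp_left (hφ j) (e ▸ hφ i))
    · exact Or.inr (mp_left (hφ j) (e ▸ mp_mul (hφ i) hz))
  obtain ⟨t', ht', hmt⟩ := hfix
  have hσt : σ (cls t) = cls t := by
    obtain ⟨t'', hE', h1', hz', hm'⟩ := D.image_E hg hz ht ht1 htz
    obtain rfl := mp_eq hmt hm'
    rw [← hσ t ht ht1 htz _ hmt]
    exact ((cls_eq t t' ht ht1 htz hE' h1' hz').2 ht').symm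
  have ho2 : Odd (orderOf (g * g)) := by
    rw [← pow_two, Nat.Coprime.orderOf_pow (ho.coprime_two_right)]; exact ho
  have hgg : ∀ x, inE x = true → x ≠ 1 → x ≠ cz → D.Mp (g * g) x x := by
    intro x hx h1 hxz
    obtain ⟨y, hyE, hy1, hyz, hm⟩ := D.image_E hg hz hx h1 hxz
    obtain ⟨w, hwE, hw1, hwz, hm'⟩ := D.image_E hg hz hyE hy1 hyz
    have hc : cls x = cls w := by
      rw [hσ y hyE hy1 hyz w hm', hσ x hx h1 hxz y hm]
      exact (perm_sq σ _ hinj hσt _).symm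
    rcases (cls_eq x w hx h1 hxz hwE hw1 hwz).1 hc with rfl | rfl
    · exact mp_comp hm hm'
    · exact D.odd_fix ho2 (mp_comp hm hm') (mp_comp hz hz) (by decide +kernel)
  have hpow : ∀ x, D.Mp (g * g) x x → D.Mp g x x := by
    intro x hx
    have h : ∀ n : ℕ, D.Mp ((g * g) ^ n) x x := fun n => by
      induction n with
      | zero => simp [Mp]
      | succ n ih => rw [pow_succ]; exact mp_comp hx ih
    obtain ⟨r, hr⟩ := ho
    have := h (r + 1)
    rwa [← pow_two, ← pow_mul, show 2 * (r + 1) = orderOf g + 1 by omega, pow_succ,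
      pow_orderOf_eq_one, one_mul] at this
  have he : D.Mp g ce ce := hpow _ (hgg _ (by decide +kernel) (by decide +kernel) (by decide +kernel))
  have h1 : D.Mp g c1 c1 := hpow _ (hgg _ (by decide +kernel) (by decide +kernel) (by decide +kernel))
  have hEfix : ∀ x, inE x = true → D.Mp g x x := by
    intro x hx
    by_cases hx1 : x = 1
    · subst hx1; exact mp_one g
    by_cases hxz : x = cz
    · subst hxz; exact hz
    exact hpow _ (hgg x hx hx1 hxz)
  intro q hq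
  obtain ⟨q', hq', hm⟩ := hg q hq
  have hd : inQ (q⁻¹ * q') = true := div_Q q q' hq hq'
  have hcomm : ∀ x, inE x = true → D.Mp g x x → (q⁻¹ * q') * x = x * (q⁻¹ * q') := by
    intro x hx hmx
    refine commute_E q _ x hq hd hx ?_
    rw [mul_inv_cancel_left]
    exact ⟨fun h => mp_commute hm hmx h, fun h => mp_commute (mp_inv hm) (mp_inv hmx) h⟩
  have hdE : inE (q⁻¹ * q') = true :=
    cent_E _ hd (hcomm ce (by decide +kernel) he) (hcomm c1 (by decide +kernel) h1)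
  have hd2 : (q⁻¹ * q') * (q⁻¹ * q') = 1 := by
    rcases (E_iff _).1 hdE with e | ⟨-, e⟩
    · rw [e]; simp
    · exact (isZ_sq _ e).1
  exact D.odd_fix ho (by rwa [mul_inv_cancel_left]) (hEfix _ hdE) hd2

/-- An element of odd order fixing a point of `Q / ⟨z⟩` centralises `Q`. -/
theorem odd_centralizes' {g : G} (ho : Odd (orderOf g)) (hz : D.Mp g cz cz) (hg : D.NormQ g) {q : Md}
    (hq : inQ q = true) (hq1 : q ≠ 1) (hqz : q ≠ cz)
    (hfix : ∃ q', (q' = q ∨ q' = q * cz) ∧ D.Mp g q q') :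
    ∀ x, inQ x = true → D.Mp g x x := by
  by_cases hqE : inE q = true
  · exact D.odd_centralizes ho hz hg hqE hq1 hqz hfix
  obtain ⟨t, htE, ht1, htz, hqt, huniq⟩ := fixed_point q hq (Bool.eq_false_iff.2 hqE)
  obtain ⟨q', hq', hm⟩ := hfix
  have hqq : D.Mp g q q := by
    rcases hq' with rfl | rfl
    · exact hm
    · exact D.odd_fix ho hm hz (by decide +kernel)
  obtain ⟨t', ht'E, ht'1, ht'z, hmt⟩ := D.image_E hg hz htE ht1 htz
  exact D.odd_centralizes ho hz hg htE ht1 htz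
    ⟨t', huniq t' ht'E ht'1 ht'z (mp_commute hqq hmt hqt), hmt⟩

/-- A 2-subgroup containing `Q` in a subgroup where `Q` has odd index is `Q`. -/
theorem le_Qg {K B : Subgroup G} (hodd : Odd (D.Qg.relIndex K)) (hB : IsPGroup 2 B) (hBK : B ≤ K)
    (hQB : D.Qg ≤ B) : B ≤ D.Qg := by
  haveI : Fact (Nat.Prime 2) := ⟨Nat.prime_two⟩
  rw [← relIndex_eq_one]
  have h1 : Odd (D.Qg.relIndex B) := by
    rw [← relIndex_mul_relIndex D.Qg B K hQB hBK] at hodd
    exact (Nat.odd_mul.1 hodd).1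
  obtain ⟨n, hn⟩ := IsPGroup.iff_card.1 hB
  have h2 : D.Qg.relIndex B ∣ 2 ^ n := hn ▸ index_dvd_card _
  obtain ⟨j, -, hj⟩ := (Nat.dvd_prime_pow Nat.prime_two).1 h2
  rw [hj] at h1
  rcases j with - | j
  · rw [hj, pow_zero]
  · rw [pow_succ, Nat.odd_mul] at h1
    exact absurd h1.2 (by decide)

/-- A 2-element normalising `Q` in a subgroup where `Q` has odd index lies in `Q`. -/
theorem two_mem_Qg {K : Subgroup G} (hQK : D.Qg ≤ K) (hodd : Odd (D.Qg.relIndex K)) {x : G}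
    (hxK : x ∈ K) (hn : x ∈ normalizer (D.Qg : Set G)) (hp : IsPGroup 2 (zpowers x)) : x ∈ D.Qg :=
  D.le_Qg hodd (IsPGroup.to_sup_of_normal_left' (D.isPGroup_map Qs) hp (zpowers_le.2 hn))
    (sup_le hQK (zpowers_le.2 hxK)) le_sup_left (mem_sup_right (mem_zpowers x))

theorem triv_of_mem {x : Md} (hx : inQ x = true) : D.Triv (D.ι x) := fun q hq => by
  refine ⟨x * q * x⁻¹, ?_, mp_ι x q⟩
  have key : ∀ x q : Md, inQ x = true → inQ q = true → x * q * x⁻¹ = q ∨ x * q * x⁻¹ = q * cz := by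
    decide +kernel
  exact key x q hx hq

/-- An element of the subgroup of index 2 normalising `Q` and fixing a point of `Q / ⟨z⟩` moves
every element inside its coset. -/
theorem triv_of_fix {K : Subgroup G} (hQK : D.Qg ≤ K) (hodd : Odd (D.Qg.relIndex K)) {g : G}
    (hgK : g ∈ K) (hz : D.Mp g cz cz) (hg : D.NormQ g) {q : Md}
    (hq : inQ q = true) (hq1 : q ≠ 1) (hqz : q ≠ cz)
    (hfix : ∃ q', (q' = q ∨ q' = q * cz) ∧ D.Mp g q q') : D.Triv g := by
  obtain ⟨k, m, hm, hk⟩ := Nat.exists_eq_two_pow_mul_odd (orderOf_pos g).ne'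
  have hn : g ∈ normalizer (D.Qg : Set G) := D.normQ_iff.1 hg
  have hzn : ∀ n : ℕ, D.Mp (g ^ n) cz cz := fun n => by
    induction n with
    | zero => simp [Mp]
    | succ n ih => rw [pow_succ]; exact mp_comp hz ih
  have h2 : g ^ m ∈ D.trivSubgroup := by
    obtain ⟨x, hx, hxe⟩ := D.two_mem_Qg hQK hodd (pow_mem hgK m) (pow_mem hn m) (by
      refine IsPGroup.iff_card.2 ⟨k, ?_⟩
      rw [Nat.card_zpowers, orderOf_pow, hk, Nat.gcd_mul_left_left, Nat.mul_div_cancel _ hm.pos])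
    refine ⟨?_, hzn m⟩
    rw [← hxe]
    exact D.triv_of_mem hx
  have hodd' : Odd (orderOf (g ^ 2 ^ k)) := by
    rw [orderOf_pow, hk, Nat.gcd_mul_right_left, Nat.mul_div_cancel_left _ (by positivity)]
    exact hm
  have hfixn : ∀ n : ℕ, ∃ q', (q' = q ∨ q' = q * cz) ∧ D.Mp (g ^ n) q q' := by
    intro n
    induction n with
    | zero => exact ⟨q, Or.inl rfl, by simp [Mp]⟩
    | succ n ih =>
      obtain ⟨q', h', hm'⟩ := ih
      obtain ⟨q'', h'', hm''⟩ := hfix
      rw [pow_succ']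
      rcases h' with rfl | rfl
      · exact ⟨q'', h'', mp_comp hm' hm''⟩
      · refine ⟨q'' * cz, ?_, mp_comp hm' (mp_mul hm'' hz)⟩
        rcases h'' with rfl | rfl
        · exact Or.inr rfl
        · exact Or.inl (mul_cz_eq q)
  have h1 : g ^ 2 ^ k ∈ D.trivSubgroup := ⟨fun x hx => ⟨x, Or.inl rfl,
    D.odd_centralizes' hodd' (hzn _) (D.normQ_iff.2 (pow_mem hn _)) hq hq1 hqz (hfixn _) x hx⟩,
    hzn _⟩
  have hb := Nat.gcd_eq_gcd_ab m (2 ^ k)
  rw [show Nat.gcd m (2 ^ k) = 1 from Nat.Coprime.pow_right k hm.coprime_two_right] at hb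
  have hg' : g = (g ^ m) ^ Nat.gcdA m (2 ^ k) * (g ^ 2 ^ k) ^ Nat.gcdB m (2 ^ k) := by
    rw [← zpow_natCast g m, ← zpow_natCast g (2 ^ k), ← zpow_mul, ← zpow_mul, ← zpow_add, ← hb,
      Nat.cast_one, zpow_one]
  exact (D.mem_triv.1 (hg' ▸ mul_mem (zpow_mem h2 _) (zpow_mem h1 _))).1

end Data

end Cfsg.Agent.M12Sylow.CentZ
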