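import Cfsg.Agent.Lib.G2Type.Classes

/-!
# The Sylow 2-subgroup of `M₁₂` as `Mdl 4`: facts for the centraliser of the central involution

`F = ⟨z, e⟩`, `M2 = C(e)`, `E = F⟨w1⟩` and `Q = O₂(C(z))`, which is given by an even first coordinate.
-/

set_option autoImplicit false
set_option synthInstance.maxSize 1000
set_option synthInstance.maxHeartbeats 100000

namespace Cfsg.Agent.M12Sylow.CentZ

open Cfsg.Agent.G2Type

abbrev Md : Type := Mdl 4

instance decEqMd : DecidableEq Md := fun a b =>
  decidable_of_iff (a.p = b.p ∧ a.q = b.q ∧ a.i = b.i ∧ a.j = b.j)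
    ⟨fun h => Mdl.ext h.1 h.2.1 h.2.2.1 h.2.2.2, fun h => h ▸ ⟨rfl, rfl, rfl, rfl⟩⟩

instance fintypeMd : Fintype Md := Fintype.ofEquiv _ (Mdl.equivProd (N := 4)).symm

/-- `z`. -/
abbrev cz : Md := ⟨0, 2, false, false⟩
/-- `e`. -/
abbrev ce : Md := ⟨2, 0, false, false⟩
/-- `e z`. -/
abbrev cez : Md := ⟨2, 2, false, false⟩
/-- `u`. -/
abbrev cu : Md := ⟨0, 0, true, false⟩
/-- `v`. -/
abbrev cv : Md := ⟨0, 0, false, true⟩
/-- `w0 = u v`. -/
abbrev c0 : Md := ⟨0, 0, true, true⟩
/-- `w1`. -/
abbrev c1 : Md := ⟨0, 1, true, true⟩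
/-- `w2`. -/
abbrev c2 : Md := ⟨1, 0, true, true⟩
/-- An element of order 4 with square `z`. -/
abbrev cb : Md := ⟨0, 1, false, false⟩

/-- Evenness of a coordinate. -/
def ev (a : ZMod 4) : Bool := a == 0 || a == 2
/-- `F`. -/
def inF (x : Md) : Bool := !x.i && !x.j && ev x.p && ev x.q
/-- `M2`. -/
def inM (x : Md) : Bool := x.i == x.j
/-- `E`. -/
def inE (x : Md) : Bool := inF x || (x.i && x.j && ev x.p && !ev x.q)
/-- `Q`. -/
def inQ (x : Md) : Bool := ev x.p
/-- The involutions fused to `z`. -/
def isZ (x : Md) : Bool :=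
  x * x == 1 && x != 1 && x.i == x.j && !(x.i && ev x.p && ev x.q)

theorem rep_isZ : isZ cz = true ∧ isZ ce = true ∧ isZ c1 = true ∧ isZ c2 = true ∧
    isZ cu = false ∧ isZ cv = false ∧ isZ c0 = false := by decide +kernel

theorem isZ_conj : ∀ g x : Md, isZ (g * x * g⁻¹) = isZ x := by decide +kernel

theorem z_central : ∀ x : Md, cz * x = x * cz := by decide +kernel

theorem center_inv : ∀ x : Md, x * x = 1 → x ≠ 1 → (∀ y, x * y = y * x) → x = cz := by decide +kernel

theorem sq_inF : ∀ x : Md, (x * x) * (x * x) = 1 → inF (x * x) = true := by decide +kernel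

theorem inM_iff : ∀ x : Md, x * ce = ce * x ↔ inM x = true := by decide +kernel

theorem F_cases : ∀ x : Md, inF x = true → x = 1 ∨ x = cz ∨ x = ce ∨ x = cez := by decide +kernel

theorem cent_ez : ∀ x : Md, x * cez = cez * x ↔ inM x = true := by decide +kernel

theorem M_F : ∀ x : Md, inM x = true → x * ce = ce * x ∧ x * cz = cz * x := by decide +kernel

/-- The centraliser of an involution of class `z` outside `F` has derived group inside `⟨z⟩`. -/
theorem cent_comm : ∀ t : Md, isZ t = true → inF t = false → ∀ x : Md, x * t = t * x →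
    ∀ y : Md, y * t = t * y → x * y * x⁻¹ * y⁻¹ = 1 ∨ x * y * x⁻¹ * y⁻¹ = cz := by decide +kernel

/-- An element outside `F`, of class `z` in `M2`, times one of class `u`, has square in `F - 1`,
which fixes its class. -/
theorem sq_class : ∀ x : Md, x * x = 1 → inM x = true → inF x = false → isZ x = false →
    ∀ y : Md, isZ y = true → inM y = true → inF y = false → x * y * (x * y) = cz → inE y = true := by
  decide +kernel

theorem sq_class_E : ∀ x : Md, x * x = 1 → inM x = true → inF x = false → isZ x = false →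
    ∀ y : Md, inE y = true → inF y = false → x * y * (x * y) = cz := by decide +kernel

/-- The transvection in `M2` on one of the three conjugates of `E`. -/
theorem transvection : ∀ y : Md, isZ y = true → inM y = true → inF y = false →
    ∃ x : Md, inM x = true ∧ x * y * x⁻¹ = y * cz := by decide +kernel

theorem w2_class : ∀ y : Md, isZ y = true → inM y = true → inF y = false → inE y = false →
    ∃ g : Md, g * y * g⁻¹ = c2 := by decide +kernel

theorem cent_in_E : ∀ y : Md, isZ y = true → inM y = true → inF y = false → ∀ x : Md, inM x = true →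
    x * y = y * x → inF x = true ∨ inF (y * x) = true := by decide +kernel

theorem E_bits : ∀ x : Md, inE x = true → ∃ i j k : Bool,
    x = (bif i then cz else 1) * (bif j then ce else 1) * (bif k then c1 else 1) := by decide +kernel

theorem E_mul : ∀ x y : Md, inE x = true → inE y = true → inE (x * y) = true := by decide +kernel
theorem F_mul : ∀ x y : Md, inF x = true → inF y = true → inF (x * y) = true := by decide +kernel
theorem M_mul : ∀ x y : Md, inM x = true → inM y = true → inM (x * y) = true := by decide +kernel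
theorem Q_mul : ∀ x y : Md, inQ x = true → inQ y = true → inQ (x * y) = true := by decide +kernel

/-- `E` is `1` and the involutions of class `z` in `Q`. -/
theorem E_iff : ∀ x : Md, inE x = true ↔ (x = 1 ∨ (inQ x = true ∧ isZ x = true)) := by decide +kernel

theorem E_conj : ∀ g x : Md, inE x = true → inE (g * x * g⁻¹) = true := by decide +kernel
theorem Q_conj : ∀ g x : Md, inQ x = true → inQ (g * x * g⁻¹) = true := by decide +kernel

/-- The centraliser of `E` in `Q` is `E`. -/
theorem cent_E : ∀ x : Md, inQ x = true → x * ce = ce * x → x * c1 = c1 * x → inE x = true := by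
  decide +kernel

theorem Q_gens : ∀ x : Md, inQ x = true → ∃ i j k l m : Bool, x = (bif i then cb else 1) *
    (bif j then cb * cb else 1) * (bif k then ce else 1) * (bif l then c1 else 1) *
      (bif m then cu else 1) := by decide +kernel

/-- The three points of `E / ⟨z⟩`. -/
def cls (x : Md) : Fin 3 := if !x.i then 0 else if x.p = 0 then 1 else 2

theorem cls_eq : ∀ x y : Md, inE x = true → x ≠ 1 → x ≠ cz → inE y = true → y ≠ 1 → y ≠ cz →
    (cls x = cls y ↔ (y = x ∨ y = x * cz)) := by decide +kernel

/-- An element of `Q` outside `E` fixes exactly one point. -/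
theorem fixed_point : ∀ q : Md, inQ q = true → inE q = false →
    ∃ t : Md, inE t = true ∧ t ≠ 1 ∧ t ≠ cz ∧ q * t = t * q ∧
      ∀ s : Md, inE s = true → s ≠ 1 → s ≠ cz → q * s = s * q → (s = t ∨ s = t * cz) := by
  decide +kernel

theorem Q_comm : ∀ x y : Md, inQ x = true → inQ y = true →
    x * y * x⁻¹ * y⁻¹ = 1 ∨ x * y * x⁻¹ * y⁻¹ = cz := by decide +kernel

theorem Q_sq : ∀ x : Md, inQ x = true → x * x = 1 ∨ x * x = cz := by decide +kernel

theorem Q_center : ∀ x : Md, inQ x = true → (∀ y, inQ y = true → x * y = y * x) → x = 1 ∨ x = cz := by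
  decide +kernel

/-- An element acting trivially on the three points lies in `Q`. -/
theorem points_fixed : ∀ x : Md, (x * c1 * x⁻¹ = c1 ∨ x * c1 * x⁻¹ = c1 * cz) → inQ x = true := by
  decide +kernel

end Cfsg.Agent.M12Sylow.CentZ
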