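import Cfsg.Agent.Lib.M12Sylow.CentZFacts
import Cfsg.Agent.Lib.G2Type.Fusion
import Cfsg.Agent.Lib.StronglyClosedFour.Basic

/-!
# Fusion at the central involution for a Sylow 2-subgroup of type `M₁₂`

With `z, e, w1, w2` in one class and `u, v, w0` outside it: in `C(z)` the involution `w1` is fused
to `e` by an element normalising `E`, and `w2` is not fused to `e`.
-/

set_option autoImplicit false

namespace Cfsg.Agent.M12Sylow.CentZ

open Cfsg.Agent.G2Type Cfsg.Agent.StronglyClosedFour Subgroup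

variable {G : Type*} [Group G] [Finite G]

/-- A subgroup of the model from a predicate closed under multiplication. -/
def mkSub (p : Md → Bool) (h1 : p 1 = true) (hm : ∀ x y, p x = true → p y = true → p (x * y) = true) :
    Subgroup Md where
  carrier := {x | p x = true}
  one_mem' := h1
  mul_mem' := fun {x y} hx hy => hm x y hx hy
  inv_mem' := fun {x} hx => by
    have hp : ∀ n : ℕ, p (x ^ n) = true := by
      intro n
      induction n with
      | zero => rw [pow_zero]; exact h1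
      | succ n ih => rw [pow_succ]; exact hm _ _ ih hx
    have : x⁻¹ = x ^ (orderOf x - 1) := by
      refine inv_eq_of_mul_eq_one_right ?_
      rw [← pow_succ', Nat.sub_add_cancel (orderOf_pos _), pow_orderOf_eq_one]
    show p x⁻¹ = true
    rw [this]
    exact hp _

def Fs : Subgroup Md := mkSub inF rfl F_mul
def Ms : Subgroup Md := mkSub inM rfl M_mul
def Es : Subgroup Md := mkSub inE rfl E_mul
def Qs : Subgroup Md := mkSub inQ rfl Q_mul

theorem mem_Fs {x : Md} : x ∈ Fs ↔ inF x = true := Iff.rfl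
theorem mem_Ms {x : Md} : x ∈ Ms ↔ inM x = true := Iff.rfl
theorem mem_Es {x : Md} : x ∈ Es ↔ inE x = true := Iff.rfl
theorem mem_Qs {x : Md} : x ∈ Qs ↔ inQ x = true := Iff.rfl

/-- A Sylow 2-subgroup of type `M₁₂` with `z, e, w1, w2` fused and `u, v, w0` outside that class. -/
structure Data (G : Type*) [Group G] where
  ι : Md →* G
  S : Sylow 2 G
  range : ι.range = (S : Subgroup G)
  inj : Function.Injective ι
  ze : IsConj (ι cz) (ι ce)
  z1 : IsConj (ι cz) (ι c1)
  z2 : IsConj (ι cz) (ι c2)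
  nu : ¬ IsConj (ι cz) (ι cu)
  nv : ¬ IsConj (ι cz) (ι cv)
  n0 : ¬ IsConj (ι cz) (ι c0)

namespace Data

variable (D : Data G)

/-- `g` maps `x` to `y`. -/
def Mp (g : G) (x y : Md) : Prop := g * D.ι x * g⁻¹ = D.ι y

variable {D}

theorem mp_one (g : G) : D.Mp g 1 1 := by simp [Mp]

theorem mp_mul {g : G} {x y x' y' : Md} (h : D.Mp g x x') (h' : D.Mp g y y') :
    D.Mp g (x * y) (x' * y') := by
  rw [Mp, map_mul, map_mul, ← h, ← h']; group

theorem mp_comp {g h : G} {x y w : Md} (h1 : D.Mp g x y) (h2 : D.Mp h y w) :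
    D.Mp (h * g) x w := by
  rw [Mp, ← h2, ← h1]; group

theorem mp_inv {g : G} {x y : Md} (h : D.Mp g x y) : D.Mp g⁻¹ y x := by
  rw [Mp, ← h]; group

theorem mp_ι (s x : Md) : D.Mp (D.ι s) x (s * x * s⁻¹) := by
  rw [Mp, map_mul, map_mul, map_inv]

theorem mp_eq {g : G} {x y y' : Md} (h : D.Mp g x y) (h' : D.Mp g x y') : y = y' :=
  D.inj (h.symm.trans h')

theorem mp_one_iff {g : G} {x y : Md} (h : D.Mp g x y) : x = 1 ↔ y = 1 := by
  refine ⟨fun e => ?_, fun e => D.inj ?_⟩
  · subst e; exact mp_eq h (mp_one g)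
  · rw [Mp, e, map_one, conj_eq_one_iff] at h
    rw [h, map_one]

theorem mp_left {g : G} {x x' y : Md} (h : D.Mp g x y) (h' : D.Mp g x' y) : x = x' :=
  mp_eq (mp_inv h) (mp_inv h')

theorem mp_involution {g : G} {x y : Md} (h : D.Mp g x y) (h2 : x * x = 1) : y * y = 1 :=
  mp_eq (mp_mul h h) (by rw [h2]; exact mp_one g)

theorem mp_commute {g : G} {x y x' y' : Md} (h : D.Mp g x x') (h' : D.Mp g y y')
    (hc : x * y = y * x) : x' * y' = y' * x' :=
  mp_eq (mp_mul h h') (by rw [hc]; exact mp_mul h' h)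

variable (D)

theorem isZ_iff {x : Md} (hx : x * x = 1) (hx1 : x ≠ 1) :
    IsConj (D.ι cz) (D.ι x) ↔ isZ x = true := by
  have key : ∀ r : Md, IsConj x r → (IsConj (D.ι cz) (D.ι r) ↔ isZ r = true) →
      (IsConj (D.ι cz) (D.ι x) ↔ isZ x = true) := by
    intro r hr h
    obtain ⟨g, hg⟩ := isConj_iff.1 hr
    have h1 : isZ r = isZ x := by rw [← hg, isZ_conj]
    have h2 : IsConj (D.ι x) (D.ι r) := D.ι.map_isConj hr
    rw [← h1, ← h]
    exact ⟨fun h3 => h3.trans h2, fun h3 => h3.trans h2.symm⟩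
  obtain ⟨r1, r2, r3, r4, r5, r6, r7⟩ := rep_isZ
  rcases G2Type.Mdl.involution_cases (k := 1) hx hx1 with h | h | h | h | h | h | h
  · exact key cz h (iff_of_true (IsConj.refl _) r1)
  · exact key ce h (iff_of_true D.ze r2)
  · exact key cu h (iff_of_false D.nu (by rw [r5]; decide))
  · exact key cv h (iff_of_false D.nv (by rw [r6]; decide))
  · exact key c0 h (iff_of_false D.n0 (by rw [r7]; decide))
  · exact key c1 h (iff_of_true D.z1 r3)
  · exact key c2 h (iff_of_true D.z2 r4)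

theorem mp_isZ {g : G} {x y : Md} (h : D.Mp g x y) (hx : x * x = 1) : isZ y = isZ x := by
  rcases eq_or_ne x 1 with rfl | hx1
  · rw [(mp_one_iff h).1 rfl]
  have hy1 : y ≠ 1 := fun e => hx1 ((mp_one_iff h).2 e)
  have hc : IsConj (D.ι x) (D.ι y) := isConj_iff.2 ⟨g, h⟩
  rw [Bool.eq_iff_iff, ← D.isZ_iff hx hx1, ← D.isZ_iff (mp_involution h hx) hy1]
  exact ⟨fun h3 => h3.trans hc.symm, fun h3 => h3.trans hc⟩

/-- A conjugate of `z` is moved onto it, its centraliser in `S` staying in `S`. -/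
theorem shift {w : Md} (h : IsConj (D.ι cz) (D.ι w)) :
    ∃ (g : G) (φ : Md → Md), D.Mp g w cz ∧ ∀ a, a * w = w * a → D.Mp g a (φ a) := by
  obtain ⟨g, φ, h1, h2⟩ := G2Type.Fusion.to_z (k := 1) D.ι D.S D.range (w := w) h.symm
  exact ⟨g, φ, h1, h2⟩

/-- `γ` normalises `M2` and permutes `z, e z, e`. -/
theorem exists_gamma : ∃ γ : G, D.Mp γ ce cz ∧ D.Mp γ cz cez ∧ D.Mp γ cez ce ∧
    ∀ x, inM x = true → ∃ y, inM y = true ∧ D.Mp γ x y := by
  obtain ⟨g, φ, hg, hφ⟩ := D.shift D.ze
  have hz := hφ cz (z_central ce)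
  have hF : inF (φ cz) = true := by
    have h1 : D.Mp g cb (φ cb) := hφ cb (by decide +kernel)
    have h2 : cb * cb = cz := by decide +kernel
    have h3 : φ cb * φ cb = φ cz := mp_eq (h2 ▸ mp_mul h1 h1) hz
    rw [← h3]
    refine sq_inF _ ?_
    rw [h3]
    exact mp_involution hz (by decide +kernel)
  have hne1 : φ cz ≠ 1 := fun e => absurd ((mp_one_iff hz).2 e) (by decide +kernel)
  have hnez : φ cz ≠ cz := fun e => absurd (mp_left (e ▸ hz) hg) (by decide +kernel)
  have hM : ∀ x, inM x = true → inM (φ x) = true := by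
    intro x hx
    obtain ⟨hxe, hxz⟩ := M_F x hx
    have hc := mp_commute (hφ x hxe) hz hxz
    rcases F_cases _ hF with e | e | e | e <;> rw [e] at hc
    · exact absurd e hne1
    · exact absurd e hnez
    · exact (inM_iff _).1 hc
    · exact (cent_ez _).1 hc
  have hezM : cez = ce * cz := by decide +kernel
  rcases F_cases _ hF with e | e | e | e
  · exact absurd e hne1
  · exact absurd e hnez
  · rw [e] at hz
    have hv : D.Mp (D.ι cv) ce cez := by
      have := mp_ι (D := D) cv ce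
      rwa [show cv * ce * cv⁻¹ = cez by decide +kernel] at this
    have hv' : D.Mp (D.ι cv) cz cz := by
      have := mp_ι (D := D) cv cz
      rwa [show cv * cz * cv⁻¹ = cz by decide +kernel] at this
    refine ⟨D.ι cv * g, mp_comp hg hv', mp_comp hz hv, ?_, fun x hx => ?_⟩
    · rw [hezM]
      have := mp_mul (mp_comp hg hv') (mp_comp hz hv)
      rwa [show cz * cez = ce by decide +kernel] at this
    · refine ⟨_, ?_, mp_comp (hφ x (M_F x hx).1) (mp_ι cv _)⟩
      have h4 : ∀ y : Md, inM y = true → inM (cv * y * cv⁻¹) = true := by decide +kernel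
      exact h4 _ (hM x hx)
  · rw [e] at hz
    refine ⟨g, hg, hz, ?_, fun x hx => ⟨_, hM x hx, hφ x (M_F x hx).1⟩⟩
    rw [hezM]
    have := mp_mul hg hz
    rwa [show cz * cez = ce by decide +kernel] at this

/-- The centraliser of `F`. -/
def CF : Subgroup G := centralizer ({D.ι cz, D.ι ce} : Set G)

theorem mem_CF {x : G} : x ∈ D.CF ↔ D.Mp x cz cz ∧ D.Mp x ce ce := by
  rw [CF, mem_centralizer_iff]
  simp only [Set.mem_insert_iff, Set.mem_singleton_iff, forall_eq_or_imp, forall_eq, Mp,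
    mul_inv_eq_iff_eq_mul]
  exact ⟨fun h => ⟨h.1.symm, h.2.symm⟩, fun h => ⟨h.1.symm, h.2.symm⟩⟩

theorem M_le_CF : Ms.map D.ι ≤ D.CF := by
  rintro _ ⟨x, hx, rfl⟩
  obtain ⟨h1, h2⟩ := M_F x hx
  refine D.mem_CF.2 ⟨?_, ?_⟩
  · have := mp_ι (D := D) x cz
    rwa [h2, mul_inv_cancel_right] at this
  · have := mp_ι (D := D) x ce
    rwa [h1, mul_inv_cancel_right] at this

theorem range_card : Nat.card (D.S : Subgroup G) = 64 := by
  rw [← D.range, ← Nat.card_congr (MonoidHom.ofInjective D.inj).toEquiv, Mdl.card_eq]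
  norm_num

theorem isPGroup_map (H : Subgroup Md) : IsPGroup 2 (H.map D.ι) :=
  D.S.2.to_le (D.range ▸ map_le_range _ _)

theorem card_Ms : Nat.card Ms = 32 := by
  have : Fintype.card {x : Md // inM x = true} = 32 := by decide +kernel
  rw [← this, ← Nat.card_eq_fintype_card]
  rfl

/-- `M2` is a Sylow 2-subgroup of the centraliser of `F`. -/
theorem odd_M_CF : Odd ((Ms.map D.ι).relIndex D.CF) := by
  haveI : Fact (Nat.Prime 2) := ⟨Nat.prime_two⟩
  by_contra hev
  rw [Nat.not_odd_iff_even] at hev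
  obtain ⟨P⟩ : Nonempty (Sylow 2 D.CF) := inferInstance
  have hP2 : IsPGroup 2 ((P : Subgroup D.CF).map D.CF.subtype) := P.2.map _
  obtain ⟨T, hT⟩ := hP2.exists_le_sylow
  obtain ⟨t, ht⟩ := MulAction.exists_smul_eq G T D.S
  have hTc : Nat.card (T : Subgroup G) = 64 := by
    rw [← D.range_card, T.card_eq_multiplicity, D.S.card_eq_multiplicity]
  have hM : Nat.card (Ms.map D.ι) = 32 := by
    rw [card_map_of_injective D.inj, card_Ms]
  have h64 : 64 ∣ Nat.card D.CF := by
    have h := relIndex_mul_relIndex ⊥ (Ms.map D.ι) D.CF bot_le D.M_le_CF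
    rw [relIndex_bot_left, relIndex_bot_left, hM] at h
    obtain ⟨r, hr⟩ := hev
    exact ⟨r, by rw [← h, hr]; ring⟩
  have hPc : 64 ≤ Nat.card ((P : Subgroup D.CF).map D.CF.subtype) := by
    rw [card_map_of_injective D.CF.subtype_injective]
    refine Nat.le_of_dvd Nat.card_pos ?_
    exact P.pow_dvd_card_of_pow_dvd_card (n := 6) h64
  have hTle : (T : Subgroup G) ≤ D.CF := by
    rw [← Subgroup.eq_of_le_of_card_ge hT (hTc ▸ hPc)]
    exact map_subtype_le _
  have key : ∀ f : Md, D.ι f ∈ D.CF → inF f = true → f ≠ 1 → (∀ x ∈ D.CF, D.Mp x f f) →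
      t * D.ι f * t⁻¹ = D.ι cz := by
    intro f _ hfF hf1 hcent
    have hfM : D.ι f ∈ (T : Subgroup G) := by
      have hmax := T.3 (Q := (T : Subgroup G) ⊔ zpowers (D.ι f)) (IsPGroup.to_sup_of_normal_right'
        T.2 (D.S.2.to_le (zpowers_le.2 (D.range ▸ ⟨f, rfl⟩))) (fun x hx => ?_)) le_sup_left
      · rw [← hmax]; exact mem_sup_right (mem_zpowers _)
      · have h := hcent x (hTle hx)
        refine mem_normalizer_iff.2 fun y => ?_
        have hc : Commute x (D.ι f) := mul_inv_eq_iff_eq_mul.1 h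
        constructor
        · intro hy
          obtain ⟨n, rfl⟩ := mem_zpowers_iff.1 hy
          rw [(hc.zpow_right n).eq, mul_inv_cancel_right]
          exact mem_zpowers_iff.2 ⟨n, rfl⟩
        · intro hy
          obtain ⟨n, hn⟩ := mem_zpowers_iff.1 hy
          refine mem_zpowers_iff.2 ⟨n, ?_⟩
          have h5 : x⁻¹ * D.ι f ^ n * x = D.ι f ^ n := by
            rw [mul_assoc, ← (hc.zpow_right n).eq, inv_mul_cancel_left]
          rw [← h5, hn]; group
    have hm : t * D.ι f * t⁻¹ ∈ (D.S : Subgroup G) := by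
      rw [← ht]
      exact smul_mem_pointwise_smul _ _ _ hfM
    rw [← D.range] at hm
    obtain ⟨y, hy⟩ := hm
    have hF2 : f * f = 1 := by
      rcases F_cases f hfF with e | e | e | e <;> subst e <;> decide +kernel
    have hmp : D.Mp t f y := hy.symm
    have hy' : y = cz := by
      refine center_inv y (mp_involution hmp hF2) (fun e => hf1 ((mp_one_iff hmp).2 e)) fun x => ?_
      have hx : D.ι x ∈ (D.S : Subgroup G) := D.range ▸ ⟨x, rfl⟩
      rw [← ht] at hx
      obtain ⟨x', hx', hxe⟩ := mem_smul_pointwise_iff_exists _ _ _ |>.1 hx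
      have h1 : Commute x' (D.ι f) := mul_inv_eq_iff_eq_mul.1 (hcent x' (hTle hx'))
      apply D.inj
      rw [map_mul, map_mul, hy, ← hxe]
      exact (h1.symm.map (MulAut.conj t)).eq
    rw [← hy, hy']
  have hz : D.ι cz ∈ D.CF := D.M_le_CF ⟨cz, mem_Ms.2 (by decide +kernel), rfl⟩
  have he : D.ι ce ∈ D.CF := D.M_le_CF ⟨ce, mem_Ms.2 (by decide +kernel), rfl⟩
  have h1 := key cz hz (by decide +kernel) (by decide +kernel) fun x hx => (D.mem_CF.1 hx).1
  have h2 := key ce he (by decide +kernel) (by decide +kernel) fun x hx => (D.mem_CF.1 hx).2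
  have := D.inj (mul_left_cancel (mul_right_cancel (h1.trans h2.symm)))
  exact absurd this (by decide +kernel)

/-- An involution centralising `F` is moved into `M2` by an element centralising `F`. -/
theorem into_M {x : G} (hx : x ∈ D.CF) (h2 : x * x = 1) :
    ∃ c ∈ D.CF, ∃ y, inM y = true ∧ c⁻¹ * x * c = D.ι y := by
  obtain ⟨c, hc, h⟩ := exists_conj_into_involution h2 hx D.odd_M_CF
  obtain ⟨y, hy, hye⟩ := h
  exact ⟨c, hc, y, hy, hye.symm⟩

theorem F_preimage {n : G} (hF : ∀ x, inF x = true → ∃ y, inF y = true ∧ D.Mp n x y) {w : Md}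
    (hw : inF w = true) : ∃ a, inF a = true ∧ D.Mp n a w := by
  choose φ hφF hφ using hF
  have hinj : Function.Injective fun a : {a : Md // inF a = true} =>
      (⟨φ a a.2, hφF a a.2⟩ : {a : Md // inF a = true}) := by
    intro a b hab
    have h := hφ b b.2
    rw [← show φ a a.2 = φ b b.2 from congrArg Subtype.val hab] at h
    exact Subtype.ext (mp_left (hφ a a.2) h)
  obtain ⟨a, ha⟩ := (Finite.injective_iff_surjective.1 hinj) ⟨w, hw⟩
  have h := hφ a a.2
  rw [show φ a a.2 = w from congrArg Subtype.val ha] at h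
  exact ⟨a, a.2, h⟩

/-- An element normalising `E` and `F` fixes `z`. -/
theorem fix_z {n : G} (hE : ∀ x, inE x = true → ∃ y, inE y = true ∧ D.Mp n x y)
    (hF : ∀ x, inF x = true → ∃ y, inF y = true ∧ D.Mp n x y) : D.Mp n cz cz := by
  -- adjust by `C(F) ∩ N(E)`
  let H : Subgroup G := D.CF ⊓ normalizer (Es.map D.ι : Set G)
  have hMH : Ms.map D.ι ≤ H := by
    refine le_inf D.M_le_CF ?_
    rintro _ ⟨m, -, rfl⟩
    refine mem_normalizer_fintype fun y hy => ?_
    obtain ⟨x, hx, rfl⟩ := hy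
    exact ⟨m * x * m⁻¹, E_conj m x hx, (mp_ι m x).symm⟩
  have hodd : Odd ((Ms.map D.ι).relIndex H) := by
    have h := D.odd_M_CF
    rw [← relIndex_mul_relIndex _ H _ hMH inf_le_left] at h
    exact (Nat.odd_mul.1 h).1
  have hnE : n ∈ normalizer (Es.map D.ι : Set G) := by
    refine mem_normalizer_fintype fun y hy => ?_
    obtain ⟨x, hx, rfl⟩ := hy
    obtain ⟨y', hy', h⟩ := hE x hx
    exact ⟨y', hy', h.symm⟩
  have hnCF : ∀ x ∈ D.CF, n * x * n⁻¹ ∈ D.CF := by
    intro x hx
    obtain ⟨hxz, hxe⟩ := D.mem_CF.1 hx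
    have hfix : ∀ f, inF f = true → D.Mp x f f := by
      intro f hf
      rcases F_cases f hf with rfl | rfl | rfl | rfl
      · exact mp_one _
      · exact hxz
      · exact hxe
      · have := mp_mul hxe hxz
        rwa [show ce * cz = cez by decide +kernel] at this
    have hconj : ∀ f, inF f = true → D.Mp (n * x * n⁻¹) f f := by
      intro f hf
      obtain ⟨a, ha, hna⟩ := D.F_preimage hF hf
      have h := mp_comp (mp_comp (mp_inv hna) (hfix a ha)) hna
      rwa [← mul_assoc] at h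
    exact D.mem_CF.2 ⟨hconj cz (by decide +kernel), hconj ce (by decide +kernel)⟩
  have hB : (Ms.map D.ι).map (MulAut.conj n).toMonoidHom ≤ H := by
    rintro _ ⟨x, hx, rfl⟩
    exact ⟨hnCF x (D.M_le_CF hx),
      (normalizer (Es.map D.ι : Set G)).mul_mem ((normalizer (Es.map D.ι : Set G)).mul_mem hnE (hMH hx).2) ((normalizer (Es.map D.ι : Set G)).inv_mem hnE)⟩
  obtain ⟨k, hk, hkB⟩ := exists_conj_into ((D.isPGroup_map Ms).map _) hB hodd
  have hkF := D.mem_CF.1 hk.1
  have hkE : ∀ x, inE x = true → ∃ y, inE y = true ∧ D.Mp k⁻¹ x y := by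
    intro x hx
    obtain ⟨y, hy, h⟩ := (mem_normalizer_iff.1 (inv_mem hk.2) (D.ι x)).1 ⟨x, hx, rfl⟩
    exact ⟨y, hy, h.symm⟩
  have hmM : ∀ x, inM x = true → ∃ y, inM y = true ∧ D.Mp (k⁻¹ * n) x y := by
    intro x hx
    obtain ⟨y, hy, h⟩ := hkB _ ⟨_, ⟨x, hx, rfl⟩, rfl⟩
    refine ⟨y, hy, ?_⟩
    rw [Mp, h]
    simp [mul_assoc]
  obtain ⟨zn, hznF, hzn⟩ := hF cz (by decide +kernel)
  have hzn' : D.Mp (k⁻¹ * n) cz zn := by
    refine mp_comp hzn ?_
    have hzk : D.Mp k zn zn := by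
      rcases F_cases _ hznF with rfl | rfl | rfl | rfl
      · exact mp_one _
      · exact hkF.1
      · exact hkF.2
      · have := mp_mul hkF.2 hkF.1
        rwa [show ce * cz = cez by decide +kernel] at this
    exact mp_inv hzk
  obtain ⟨x', hx'M, hx'⟩ := hmM c0 (by decide +kernel)
  obtain ⟨y₀, hy₀, hy⟩ := hE c1 (by decide +kernel)
  obtain ⟨y', hy'E, hy'⟩ := hkE y₀ hy₀
  have hy'' : D.Mp (k⁻¹ * n) c1 y' := mp_comp hy hy'
  have hFout : ∀ w w' : Md, D.Mp (k⁻¹ * n) w w' → inF w' = true → inF w = true := by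
    intro w w' hw hw'
    obtain ⟨a, ha, h⟩ := D.F_preimage hF hw'
    have hka : D.Mp k⁻¹ w' w' := by
      rcases F_cases _ hw' with rfl | rfl | rfl | rfl
      · exact mp_one _
      · exact mp_inv hkF.1
      · exact mp_inv hkF.2
      · have := mp_inv (mp_mul hkF.2 hkF.1)
        rwa [show ce * cz = cez by decide +kernel] at this
    rw [mp_left hw (mp_comp h hka)]
    exact ha
  have hx'2 := mp_involution hx' (by decide +kernel)
  have hsq := sq_class_E x' hx'2 hx'M
    (Bool.eq_false_iff.2 fun h => absurd (hFout _ _ hx' h) (by decide +kernel))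
    (by rw [D.mp_isZ hx' (by decide +kernel)]; exact rep_isZ.2.2.2.2.2.2) y' hy'E
    (Bool.eq_false_iff.2 fun h => absurd (hFout _ _ hy'' h) (by decide +kernel))
  have hm := mp_mul (mp_mul hx' hy'') (mp_mul hx' hy'')
  rw [show c0 * c1 * (c0 * c1) = cz by decide +kernel, hsq] at hm
  have := mp_eq hzn' hm
  subst this
  exact hzn

end Data

end Cfsg.Agent.M12Sylow.CentZ
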