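import Cfsg.Agent.Lib.M12Sylow.CentZSwap

/-!
# The subgroup of index 2 of `C(z)` and the action of its normaliser of `Q`
-/

set_option autoImplicit false
set_option linter.unusedSectionVars false

namespace Cfsg.Agent.M12Sylow.CentZ

open Cfsg.Agent.G2Type Cfsg.Agent.StronglyClosedFour Subgroup

variable {G : Type*} [Group G] [Finite G]

theorem sq_cb : ∃ w : Md, w * w = cb := by decide +kernel

theorem flip_class : ∀ y : Md, inE y = true → inF y = false →
    ∃ s : Md, (s = cu ∨ s = cv) ∧ s * y * s⁻¹ = y ∧ s * ce * s⁻¹ = cez := by decide +kernel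

theorem y_c1 : ∀ y : Md, inE y = true → inF y = false → inF (c1 * y) = true := by decide +kernel

theorem sub_c2 : ∀ x : Md, inQ x = false → inQ (x * c2) = true := by decide +kernel

theorem cent_gens : ∀ x : Md, x * cu = cu * x → x * ce = ce * x → x * cb = cb * x →
    x * c1 = c1 * x → x = 1 ∨ x = cz := by decide +kernel

theorem class_rep : ∀ q : Md, inE q = true → inF q = false → ∃ s : Md, s * q * s⁻¹ = c1 := by
  decide +kernel

theorem isZ_sq : ∀ x : Md, isZ x = true → x * x = 1 ∧ x ≠ 1 := by decide +kernel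

namespace Data

variable (D : Data G)

/-- The centraliser of `z`. -/
def C : Subgroup G := centralizer ({D.ι cz} : Set G)

theorem mem_C {x : G} : x ∈ D.C ↔ D.Mp x cz cz := by
  rw [C, mem_centralizer_singleton_iff, Mp, mul_inv_eq_iff_eq_mul]

theorem S_le_C : (D.S : Subgroup G) ≤ D.C := by
  rw [← D.range]
  rintro _ ⟨x, rfl⟩
  rw [mem_C]
  have := mp_ι (D := D) x cz
  rwa [← z_central x, mul_inv_cancel_right] at this

theorem ι_mem_C (x : Md) : D.ι x ∈ D.C := D.S_le_C (D.range ▸ ⟨x, rfl⟩)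

theorem odd_S_C : Odd ((D.S : Subgroup G).relIndex D.C) := by
  haveI : Fact (Nat.Prime 2) := ⟨Nat.prime_two⟩
  have h : ¬ 2 ∣ (D.S : Subgroup G).index := D.S.not_dvd_index
  rw [← relIndex_mul_index D.S_le_C] at h
  rw [← Nat.not_even_iff_odd]
  exact fun he => h ((even_iff_two_dvd.1 he).mul_right _)

/-- An involution of class `z` in `Q` other than `z` is fused to `e` in `C(z)`. -/
theorem to_e {q : Md} (hq : inE q = true) (h1 : q ≠ 1) (hz : q ≠ cz) :
    ∃ k : G, D.Mp k cz cz ∧ D.Mp k q ce := by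
  by_cases hF : inF q = true
  · rcases F_cases q hF with rfl | rfl | rfl | rfl
    · exact absurd rfl h1
    · exact absurd rfl hz
    · exact ⟨1, by simp [Mp], by simp [Mp]⟩
    · refine ⟨D.ι cv, ?_, ?_⟩
      · have := mp_ι (D := D) cv cz
        rwa [show cv * cz * cv⁻¹ = cz by decide +kernel] at this
      · have := mp_ι (D := D) cv cez
        rwa [show cv * cez * cv⁻¹ = ce by decide +kernel] at this
  · obtain ⟨s, hs⟩ := class_rep q hq (Bool.eq_false_iff.2 hF)
    obtain ⟨h, hhz, hhw, -⟩ := D.exists_h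
    refine ⟨h * D.ι s, mp_comp ((D.mem_C).1 (D.ι_mem_C s)) hhz, mp_comp ?_ hhw⟩
    have := mp_ι (D := D) s q
    rwa [hs] at this

/-- The Sylow subgroup of the subgroup of index 2. -/
def Qg : Subgroup G := Qs.map D.ι

theorem Qg_le_C : D.Qg ≤ D.C := by rintro _ ⟨x, -, rfl⟩; exact D.ι_mem_C x

/-- `C(z)` has a subgroup of index 2 meeting `S` in `Q`. -/
theorem exists_K : ∃ K : Subgroup G, K ≤ D.C ∧ D.C ≤ normalizer (K : Set G) ∧ K.relIndex D.C = 2 ∧
    (∀ x : Md, D.ι x ∈ K ↔ inQ x = true) ∧ Odd (D.Qg.relIndex K) ∧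
    ∀ k ∈ D.C, k ∉ K → k * D.ι c2 ∈ K := by
  have hrelS : D.Qg.relIndex (D.S : Subgroup G) = 2 := by
    rw [← D.range, Qg, MonoidHom.range_eq_map, relIndex_map_map_of_injective _ _ D.inj,
      relIndex_top_right]
    have h := Qs.card_mul_index
    have hc : Nat.card Qs = 32 := by
      have : Fintype.card {x : Md // inQ x = true} = 32 := by decide +kernel
      rw [← this, ← Nat.card_eq_fintype_card]; rfl
    rw [hc, Mdl.card_eq] at h
    omega
  have hQS : D.Qg ≤ (D.S : Subgroup G) := D.range ▸ map_le_range _ _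
  obtain ⟨K, hKC, hKn, hK2, htK, hmul⟩ := thompson (K := D.C) (T := (D.S : Subgroup G)) (M := D.Qg)
    D.S_le_C D.odd_S_C hQS hrelS (t := D.ι c2)
    (by rw [orderOf_injective D.ι D.inj, Involutions.Basic.orderOf_two_iff]; decide +kernel)
    (D.ι_mem_C _) (by
      intro g hg hgM
      obtain ⟨q, hq, hgq⟩ := hgM
      have hm : D.Mp g c2 q := hgq.symm
      have hqZ : isZ q = true := by rw [D.mp_isZ hm (by decide +kernel)]; exact rep_isZ.2.2.2.1
      have hqE : inE q = true := (E_iff q).2 (Or.inr ⟨hq, hqZ⟩)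
      have hqz : q ≠ cz := fun e => absurd (mp_left (e ▸ hm) (D.mem_C.1 hg)) (by decide +kernel)
      obtain ⟨k, hk, hkq⟩ := D.to_e hqE (isZ_sq q hqZ).2 hqz
      exact D.not_w2_e (mp_comp (D.mem_C.1 hg) hk) (mp_comp hm hkq))
  have P : ∀ x y : Md, D.ι (x * y) ∈ K ↔ (D.ι x ∈ K ↔ D.ι y ∈ K) := fun x y => by
    rw [map_mul]; exact hmul _ (D.ι_mem_C x) _ (D.ι_mem_C y)
  have hsq : ∀ w : Md, D.ι (w * w) ∈ K := fun w => (P w w).2 Iff.rfl
  have hconj : ∀ h ∈ D.C, ∀ x y : Md, D.Mp h x y → D.ι x ∈ K → D.ι y ∈ K := by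
    intro h hh x y hm hx
    rw [← show h * D.ι x * h⁻¹ = D.ι y from hm]
    exact (mem_normalizer_iff.1 (hKn hh) _).1 hx
  have hb : D.ι cb ∈ K := by obtain ⟨w, hw⟩ := sq_cb; exact hw ▸ hsq w
  have he : D.ι ce ∈ K := by
    have := hsq (⟨1, 0, false, false⟩ : Md)
    rwa [show (⟨1, 0, false, false⟩ : Md) * ⟨1, 0, false, false⟩ = ce by decide +kernel] at this
  obtain ⟨h, hz, ha, y, hyE, hyF, hy⟩ := D.exists_h
  have hhC : h ∈ D.C := D.mem_C.2 hz
  have h1 : D.ι c1 ∈ K := hconj h⁻¹ (inv_mem hhC) ce c1 (mp_inv ha) he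
  have hbb : D.ι (cb * cb) ∈ K := (P _ _).2 (iff_of_true hb hb)
  have hF : ∀ f, inF f = true → D.ι f ∈ K := by
    intro f hf
    rcases F_cases f hf with rfl | rfl | rfl | rfl
    · rw [map_one]; exact one_mem _
    · have := hbb; rwa [show cb * cb = cz by decide +kernel] at this
    · exact he
    · have := (P ce (cb * cb)).2 (iff_of_true he hbb)
      rwa [show ce * (cb * cb) = cez by decide +kernel] at this
  -- elements of `C(z)` centralising `E` lie in `K`
  have hcent : ∀ x ∈ D.C, D.Mp x ce ce → D.Mp x c1 c1 → x ∈ K := by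
    intro x hx hxe hx1
    obtain ⟨k, m, hm, hk⟩ := Nat.exists_eq_two_pow_mul_odd (orderOf_pos x).ne'
    set x2 := x ^ m with hx2
    have hx2p : IsPGroup 2 (zpowers x2) := by
      refine IsPGroup.iff_card.2 ⟨k, ?_⟩
      rw [Nat.card_zpowers, hx2, orderOf_pow, hk, Nat.gcd_mul_left_left,
        Nat.mul_div_cancel _ hm.pos]
    have hxCE : x ∈ centralizer (Es.map D.ι : Set G) := by
      rw [mem_centralizer_iff]
      rintro _ ⟨s, hs, rfl⟩
      have hxz := D.mem_C.1 hx
      obtain ⟨i, j, l, rfl⟩ := E_bits s hs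
      have hb1 : ∀ (b : Bool) (c : Md), D.Mp x c c → D.Mp x (bif b then c else 1) (bif b then c else 1) :=
        fun b c hc => by cases b <;> [exact mp_one x; exact hc]
      have h := mp_mul (mp_mul (hb1 i _ hxz) (hb1 j _ hxe)) (hb1 l _ hx1)
      exact (mul_inv_eq_iff_eq_mul.1 h).symm
    set B := Es.map D.ι ⊔ zpowers x2 with hB
    have hBp : IsPGroup 2 B := IsPGroup.to_sup_of_normal_left' (D.isPGroup_map Es) hx2p
      (zpowers_le.2 (centralizer_le_normalizer _ (pow_mem hxCE m)))
    have hBCF : B ≤ D.CF := by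
      refine sup_le ?_ (zpowers_le.2 (pow_mem (D.mem_CF.2 ⟨D.mem_C.1 hx, hxe⟩) m))
      rintro _ ⟨s, hs, rfl⟩
      have hsM : inM s = true := by
        have key : ∀ s : Md, inE s = true → inM s = true := by decide +kernel
        exact key s hs
      exact D.M_le_CF ⟨s, hsM, rfl⟩
    obtain ⟨c, hc, hcB⟩ := exists_conj_into hBp hBCF D.odd_M_CF
    obtain ⟨w, hw, hwe⟩ := hcB _ (mem_sup_left ⟨c1, mem_Es.2 (by decide +kernel), rfl⟩)
    obtain ⟨x', hx', hxe'⟩ := hcB _ (mem_sup_right (mem_zpowers x2))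
    have hcw : D.Mp c w c1 := by rw [Mp, hwe]; group
    have hcx : c * D.ι x' * c⁻¹ = x2 := by rw [hxe']; group
    have hfix : ∀ f, inF f = true → D.Mp c f f := by
      intro f hf
      obtain ⟨hcz, hce⟩ := D.mem_CF.1 hc
      rcases F_cases f hf with rfl | rfl | rfl | rfl
      exacts [mp_one c, hcz, hce, by
        have := mp_mul hce hcz
        rwa [show ce * cz = cez by decide +kernel] at this]
    have hwF : inF w = false := by
      rw [Bool.eq_false_iff]
      intro hwf
      have := mp_eq hcw (hfix w hwf)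
      subst this
      exact absurd hwf (by decide +kernel)
    have hcomm : x' * w = w * x' := by
      apply D.inj
      have h : Commute x (D.ι c1) := mul_inv_eq_iff_eq_mul.1 hx1
      have h' := (h.pow_left m).map (MulAut.conj c⁻¹)
      rw [map_mul, map_mul, hxe', hwe]
      simpa [MulAut.conj_apply, Commute, SemiconjBy] using h'.eq
    have hx2K : x2 ∈ K := by
      rcases cent_in_E w (by rw [← D.mp_isZ hcw (mp_involution (mp_inv hcw) (by decide +kernel))]
                             exact rep_isZ.2.2.1) hw hwF x' hx' hcomm with h | h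
      · rw [← hcx, hfix x' h]
        exact hF _ h
      · have h' := mp_mul hcw (hfix _ h)
        rw [← mul_assoc, show w * w = 1 from mp_involution (mp_inv hcw) (by decide +kernel),
          one_mul] at h'
        rw [← hcx, h']
        exact (P _ _).2 (iff_of_true h1 (hF _ h))
    obtain ⟨r, hr⟩ := hm
    have hpow : ∀ n : ℕ, (x ^ (2 * n) ∈ K) := by
      intro n
      rw [two_mul, pow_add]
      exact (hmul _ (pow_mem hx n) _ (pow_mem hx n)).2 Iff.rfl
    have := hx2K
    rw [hx2, hr, pow_succ, hmul _ (pow_mem hx _) _ hx] at this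
    exact this.1 (hpow r)
  -- `u` and `v`
  obtain ⟨s, hs, hsy, hse⟩ := flip_class y hyE hyF
  have hX : h * D.ι cb * h⁻¹ ∈ K := (mem_normalizer_iff.1 (hKn hhC) _).1 hb
  set X := h * D.ι cb * h⁻¹ with hXd
  have hXC : X ∈ D.C := mul_mem (mul_mem hhC (D.ι_mem_C _)) (inv_mem hhC)
  have Xy : D.Mp X y y := by
    have := mp_ι (D := D) cb ce
    rw [show cb * ce * cb⁻¹ = ce by decide +kernel] at this
    rw [hXd, mul_assoc]
    exact mp_comp (mp_comp (mp_inv hy) this) hy
  have Xe : D.Mp X ce cez := by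
    have := mp_ι (D := D) cb c1
    rw [show cb * c1 * cb⁻¹ = c1 * cz by decide +kernel] at this
    have h' := mp_comp (mp_comp (mp_inv ha) this) (mp_mul ha hz)
    rw [show ce * cz = cez by decide +kernel] at h'
    rw [hXd, mul_assoc]
    exact h'
  set x := (D.ι s)⁻¹ * X with hxd
  have hxC : x ∈ D.C := mul_mem (inv_mem (D.ι_mem_C _)) hXC
  have se : D.Mp (D.ι s) ce cez := by
    have := mp_ι (D := D) s ce
    rwa [hse] at this
  have sy : D.Mp (D.ι s) y y := by
    have := mp_ι (D := D) s y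
    rwa [hsy] at this
  have xe : D.Mp x ce ce := mp_comp Xe (mp_inv se)
  have xy : D.Mp x y y := mp_comp Xy (mp_inv sy)
  have x1 : D.Mp x c1 c1 := by
    have hf := y_c1 y hyE hyF
    have hfx : D.Mp x (c1 * y) (c1 * y) := by
      rcases F_cases _ hf with e | e | e | e <;> rw [e]
      · exact mp_one x
      · exact D.mem_C.1 hxC
      · exact xe
      · have := mp_mul xe (D.mem_C.1 hxC)
        rwa [show ce * cz = cez by decide +kernel] at this
    have hy2 : y * y = 1 := (isZ_sq y (((E_iff y).1 hyE).resolve_left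
      (fun e => by subst e; exact absurd hyF (by decide +kernel))).2).1
    have := mp_mul hfx xy
    rwa [mul_assoc, hy2, mul_one] at this
  have hsK : D.ι s ∈ K := by
    have hxK := hcent x hxC xe x1
    have : D.ι s = X * x⁻¹ := by rw [hxd]; group
    rw [this]
    exact mul_mem hX (inv_mem hxK)
  have h0 : D.ι c0 ∈ K := by
    have := (P (cb * cb * cb) c1).2 (iff_of_true ((P _ _).2 (iff_of_true hbb hb)) h1)
    rwa [show cb * cb * cb * c1 = c0 by decide +kernel] at this
  have hu : D.ι cu ∈ K := by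
    rcases hs with rfl | rfl
    · exact hsK
    · have := (P c0 cv).2 (iff_of_true h0 hsK)
      rwa [show c0 * cv = cu by decide +kernel] at this
  have hQK : ∀ q : Md, inQ q = true → D.ι q ∈ K := by
    intro q hq
    obtain ⟨i, j, k, l, m, rfl⟩ := Q_gens q hq
    have hb1 : ∀ (b : Bool) (c : Md), D.ι c ∈ K → D.ι (bif b then c else 1) ∈ K := fun b c hc => by
      cases b <;> simp [hc]
    simp only [map_mul]
    exact mul_mem (mul_mem (mul_mem (mul_mem (hb1 i _ hb) (hb1 j _ hbb)) (hb1 k _ he)) (hb1 l _ h1))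
      (hb1 m _ hu)
  have hiff : ∀ x : Md, D.ι x ∈ K ↔ inQ x = true := by
    intro x
    refine ⟨fun hx => ?_, hQK x⟩
    by_contra hn
    rw [Bool.not_eq_true] at hn
    exact htK (((P x c2).1 (hQK _ (sub_c2 x hn))).1 hx)
  have hQgK : D.Qg ≤ K := by rintro _ ⟨q, hq, rfl⟩; exact hQK q hq
  refine ⟨K, hKC, hKn, hK2, hiff, ?_, fun k hk hkK => ?_⟩
  · have e1 := relIndex_mul_relIndex D.Qg K D.C hQgK hKC
    have e2 := relIndex_mul_relIndex D.Qg (D.S : Subgroup G) D.C hQS D.S_le_C
    rw [hK2] at e1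
    rw [hrelS] at e2
    obtain ⟨r, hr⟩ := D.odd_S_C
    exact ⟨r, by rw [hr] at e2; omega⟩
  · exact (hmul _ hk _ (D.ι_mem_C _)).2 (iff_of_false hkK htK)

theorem mp_pow_mul {g : G} {q d : Md} (h : D.Mp g q (q * d)) (hd : D.Mp g d d) (n : ℕ) :
    D.Mp (g ^ n) q (q * d ^ n) := by
  induction n with
  | zero => simp [Mp]
  | succ n ih =>
    have hdn : ∀ k : ℕ, D.Mp g (d ^ k) (d ^ k) := fun k => by
      induction k with
      | zero => simp only [pow_zero]; exact mp_one g
      | succ k ihk => rw [pow_succ]; exact mp_mul ihk hd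
    have := mp_comp ih (mp_mul h (hdn n))
    rw [pow_succ', pow_succ', ← mul_assoc]
    exact this

/-- An element of odd order cannot move `q` to `q d` for an involution `d` fixed by it. -/
theorem odd_fix {g : G} (ho : Odd (orderOf g)) {q d : Md} (h : D.Mp g q (q * d)) (hd : D.Mp g d d)
    (hd2 : d * d = 1) : D.Mp g q q := by
  have h1 := D.mp_pow_mul h hd (orderOf g)
  rw [pow_orderOf_eq_one] at h1
  obtain ⟨r, hr⟩ := ho
  have h2 : d ^ orderOf g = d := by rw [hr, pow_succ, pow_mul, pow_two, hd2, one_pow, one_mul]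
  rw [h2] at h1
  have h3 : q * d = q := (mp_eq (show D.Mp 1 q q by simp [Mp]) h1).symm
  rwa [h3] at h

end Data

end Cfsg.Agent.M12Sylow.CentZ
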