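import Cfsg.Agent.Lib.M12Sylow.CentZAuto
import Cfsg.Agent.Lib.StronglyClosedFour.General

/-!
# The subgroup of index 2 modulo `z`

`Q / ⟨z⟩` is an abelian Sylow 2-subgroup with 2-nilpotent involution centralisers and two classes,
so with the odd core it generates a normal subgroup.
-/

set_option autoImplicit false
set_option linter.unusedSectionVars false
set_option linter.style.haveILetI false

namespace Cfsg.Agent.M12Sylow.CentZ

open Cfsg.Agent.G2Type Cfsg.Agent.StronglyClosedFour Subgroup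

universe u

variable {G : Type u} [Group G] [Finite G]

theorem reps_ok : ∀ a b : Bool × Bool × Bool,
    ((bif a.1 then cb else 1) * (bif a.2.1 then ce else 1) * (bif a.2.2 then c1 else 1))⁻¹ *
      ((bif b.1 then cb else 1) * (bif b.2.1 then ce else 1) * (bif b.2.2 then c1 else 1)) ∈
        ([1, cz] : List Md) → a = b := by decide +kernel

theorem reps_inQ : ∀ a : Bool × Bool × Bool,
    inQ ((bif a.1 then cb else 1) * (bif a.2.1 then ce else 1) * (bif a.2.2 then c1 else 1)) = true := by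
  decide +kernel

theorem classes_uz : isZ (cu * cz) = false ∧ (cu * cz) * (cu * cz) = 1 := by decide +kernel

namespace Data

variable (D : Data G)

/-- Every element of the subgroup of index 2 is a product of an element of the odd core and one
normalising `Q`. -/
theorem split_K {K : Subgroup G} (hKC : K ≤ D.C) (hQK : D.Qg ≤ K) (hodd : Odd (D.Qg.relIndex K)) :
    ∀ k ∈ K, ∃ o ∈ core K, ∃ n ∈ K ⊓ normalizer (D.Qg : Set G), k = o * n := by
  classical
  haveI : Fact (Nat.Prime 2) := ⟨Nat.prime_two⟩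
  have hzK : D.ι cz ∈ K := hQK ⟨cz, mem_Qs.2 (by decide +kernel), rfl⟩
  let zK : K := ⟨D.ι cz, hzK⟩
  have hzc : ∀ x : K, x * zK = zK * x := fun x => Subtype.ext (by
    have h := D.mem_C.1 (hKC x.2)
    exact mul_inv_eq_iff_eq_mul.1 h)
  haveI hZn : (zpowers zK).Normal := ⟨fun a ha g => by
    obtain ⟨n, rfl⟩ := mem_zpowers_iff.1 ha
    rw [((Commute.zpow_right (hzc g) n)).eq, mul_inv_cancel_right]
    exact zpow_mem (mem_zpowers _) n⟩
  have hzc2 : ∀ x : K, x ∈ zpowers zK ↔ (x : G) = 1 ∨ (x : G) = D.ι cz := by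
    have hz2 : zK ^ 2 = 1 := Subtype.ext (by
      show D.ι cz ^ 2 = 1
      rw [← map_pow, show cz ^ 2 = 1 by decide +kernel, map_one])
    intro x
    constructor
    · intro hx
      obtain ⟨n, rfl⟩ := mem_zpowers_iff.1 hx
      rcases Int.even_or_odd n with ⟨r, rfl⟩ | ⟨r, rfl⟩
      · left
        rw [← two_mul, zpow_mul, show zK ^ (2 : ℤ) = 1 by rw [zpow_ofNat]; exact hz2, one_zpow]; rfl
      · right
        rw [zpow_add, zpow_mul, show zK ^ (2 : ℤ) = 1 by rw [zpow_ofNat]; exact hz2, one_zpow, one_mul, zpow_one]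
    · rintro (h | h)
      · rw [show x = 1 from Subtype.ext h]; exact one_mem _
      · rw [show x = zK from Subtype.ext h]; exact mem_zpowers _
  let π : K →* K ⧸ zpowers zK := QuotientGroup.mk' _
  let QK : Subgroup K := D.Qg.subgroupOf K
  set A : Subgroup (K ⧸ zpowers zK) := QK.map π with hA
  have hker : π.ker ≤ QK := by
    rw [QuotientGroup.ker_mk', zpowers_le]
    exact mem_subgroupOf.2 ⟨cz, mem_Qs.2 (by decide +kernel), rfl⟩
  have hcomapA : A.comap π = QK := comap_map_eq_self hker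
  have hπsurj : Function.Surjective π := QuotientGroup.mk'_surjective _
  have hAidx : Odd A.index := by
    rw [← index_comap_of_surjective _ hπsurj, hcomapA]; exact hodd
  have hQKel : ∀ x : Md, ∀ hx : inQ x = true, (⟨D.ι x, hQK ⟨x, hx, rfl⟩⟩ : K) ∈ QK :=
    fun x hx => mem_subgroupOf.2 ⟨x, hx, rfl⟩
  have hAmem : ∀ a ∈ A, ∃ x, ∃ hx : inQ x = true, π ⟨D.ι x, hQK ⟨x, hx, rfl⟩⟩ = a := by
    rintro a ⟨⟨y, hyK⟩, hy, rfl⟩
    obtain ⟨x, hx, rfl⟩ := mem_subgroupOf.1 hy
    exact ⟨x, hx, rfl⟩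
  have hπeq : ∀ a b : K, π a = π b ↔ ((b : G) = a ∨ (b : G) = a * D.ι cz) := by
    intro a b
    show (a : K ⧸ zpowers zK) = (b : K ⧸ zpowers zK) ↔ _
    rw [QuotientGroup.eq, hzc2]
    simp only [coe_mul, coe_inv, inv_mul_eq_iff_eq_mul, mul_one]
  have hsq : ∀ a ∈ A, a * a = 1 := by
    intro a ha
    obtain ⟨x, hx, rfl⟩ := hAmem a ha
    rw [← map_mul, ← map_one π]
    refine ((hπeq _ _).2 ?_).symm
    simp only [coe_mul, OneMemClass.coe_one, one_mul]
    rcases Q_sq x hx with h | h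
    · exact Or.inl (by rw [← map_mul, h, map_one])
    · exact Or.inr (by rw [← map_mul, h])
  have hcomm : ∀ a ∈ A, ∀ b ∈ A, a * b = b * a := by
    intro a ha b hb
    have hab := hsq _ (mul_mem ha hb)
    calc a * b = (a * b)⁻¹ := (inv_eq_of_mul_eq_one_left hab).symm
      _ = b * a := by
        rw [mul_inv_rev, inv_eq_of_mul_eq_one_left (hsq a ha), inv_eq_of_mul_eq_one_left (hsq b hb)]
  have hAp : IsPGroup 2 A := fun a => ⟨1, Subtype.ext (by
    show (a : K ⧸ zpowers zK) ^ 2 ^ 1 = 1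
    rw [pow_one, pow_two, hsq _ a.2])⟩
  have h8 : 8 ≤ Nat.card A := by
    let f : Bool × Bool × Bool → A := fun a =>
      ⟨π ⟨D.ι _, hQK ⟨_, reps_inQ a, rfl⟩⟩, mem_map_of_mem π (hQKel _ (reps_inQ a))⟩
    have hf : Function.Injective f := by
      intro a b h
      refine reps_ok a b ?_
      have h' := (hπeq _ _).1 (congrArg Subtype.val h)
      simp only [List.mem_cons, List.not_mem_nil, or_false, inv_mul_eq_iff_eq_mul, mul_one]
      rcases h' with e | e
      · exact Or.inl (D.inj e)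
      · exact Or.inr (D.inj (e.trans (map_mul D.ι _ _).symm))
    have := Nat.card_le_card_of_injective f hf
    simpa [Nat.card_eq_fintype_card] using this
  -- elements normalising `A`
  have hnormA : ∀ g : K, π g ∈ normalizer (A : Set (K ⧸ zpowers zK)) →
      (g : G) ∈ normalizer (D.Qg : Set G) := by
    intro g hg
    refine mem_normalizer_fintype fun y hy => ?_
    obtain ⟨x, hx, rfl⟩ := hy
    have h := (mem_normalizer_iff.1 hg (π ⟨D.ι x, hQK ⟨x, hx, rfl⟩⟩)).1
      (mem_map_of_mem π (hQKel x hx))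
    rw [← map_inv, ← map_mul, ← map_mul, ← mem_comap, hcomapA] at h
    exact mem_subgroupOf.1 h
  have hCA : Odd (A.relIndex (centralizer (A : Set (K ⧸ zpowers zK)))) := by
    have hle : A ≤ centralizer (A : Set (K ⧸ zpowers zK)) := fun a ha =>
      mem_centralizer_iff.2 fun b hb => hcomm b hb a ha
    rw [← relIndex_mul_index hle] at hAidx
    exact (Nat.odd_mul.1 hAidx).1
  have hclosed : ∀ g : K ⧸ zpowers zK, ∀ u ∈ A,
      g * u * g⁻¹ ∈ normalizer (A : Set (K ⧸ zpowers zK)) → g * u * g⁻¹ ∈ A := by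
    intro g u hu hn
    obtain ⟨x, hxg⟩ := hπsurj (g * u * g⁻¹)
    rw [← hxg] at hn
    have hx2 : π x * π x = 1 := by
      rw [hxg, show g * u * g⁻¹ * (g * u * g⁻¹) = g * (u * u) * g⁻¹ by group, hsq u hu]; group
    have hx4 : (x : G) ^ 2 ^ 2 = 1 := by
      rw [← map_mul, ← map_one π, eq_comm, hπeq] at hx2
      simp only [coe_mul, OneMemClass.coe_one, one_mul] at hx2
      rw [show (x : G) ^ 2 ^ 2 = ((x : G) * x) * ((x : G) * x) by rw [← pow_two, ← pow_two, ← pow_mul]; norm_num]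
      rcases hx2 with e | e <;> rw [e]
      · rw [mul_one]
      · rw [← map_mul, show cz * cz = 1 by decide +kernel, map_one]
    obtain ⟨j, -, hj⟩ := (Nat.dvd_prime_pow Nat.prime_two).1 (orderOf_dvd_of_pow_eq_one hx4)
    have hxQ := D.two_mem_Qg hQK hodd x.2 (hnormA x hn)
      (IsPGroup.iff_card.2 ⟨j, by rw [Nat.card_zpowers, hj]⟩)
    rw [← hxg]
    exact mem_map_of_mem π (mem_subgroupOf.2 hxQ)
  have hgood : ∀ u ∈ A, u ≠ 1 → ∀ k ∈ centralizer ({u} : Set (K ⧸ zpowers zK)),
      ∃ o ∈ core (centralizer ({u} : Set (K ⧸ zpowers zK))),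
        ∃ n ∈ normalizer (A : Set (K ⧸ zpowers zK)), k = o * n := by
    intro u hu hu1 k hk
    have hAC : A ≤ centralizer ({u} : Set (K ⧸ zpowers zK)) := fun a ha =>
      mem_centralizer_singleton_iff.2 (hcomm a ha u hu)
    have hoC : Odd (A.relIndex (centralizer ({u} : Set (K ⧸ zpowers zK)))) := by
      rw [← relIndex_mul_index hAC] at hAidx
      exact (Nat.odd_mul.1 hAidx).1
    obtain ⟨o, ho, a, ha, rfl⟩ := burnside hAp hAC hoC (by
      intro n hnC hnN b hb
      obtain ⟨g, rfl⟩ := hπsurj n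
      obtain ⟨q, hq, hqe⟩ := hAmem u hu
      obtain ⟨y, hy, hye⟩ := hAmem b hb
      have hgN := hnormA g hnN
      have hgz : D.Mp (g : G) cz cz := D.mem_C.1 (hKC g.2)
      obtain ⟨q', hq', hm⟩ := D.normQ_iff.2 hgN q hq
      have hcq := mem_centralizer_singleton_iff.1 hnC
      rw [← hqe, ← map_mul, ← map_mul, hπeq] at hcq
      simp only [coe_mul] at hcq
      have hfix : q' = q ∨ q' = q * cz := by
        have e1 : (g : G) * D.ι q = D.ι q' * g := mul_inv_eq_iff_eq_mul.1 hm
        rw [e1] at hcq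
        rcases hcq with e | e
        · exact Or.inl (D.inj (mul_right_cancel e.symm))
        · have ez : D.ι q' * g * D.ι cz = D.ι (q' * cz) * g := by
            rw [map_mul, mul_assoc, mul_inv_eq_iff_eq_mul.1 hgz, mul_assoc]
          rw [ez] at e
          exact Or.inr (by rw [D.inj (mul_right_cancel e), mul_cz_eq])
      have hq1 : q ≠ 1 := fun e => hu1 (by
        subst e; rw [← hqe, ← map_one π, hπeq]; simp)
      have hqz : q ≠ cz := fun e => hu1 (by
        subst e; rw [← hqe, ← map_one π, eq_comm, hπeq]; simp)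
      obtain ⟨y', hy', hmy⟩ := D.triv_of_fix hQK hodd g.2 hgz (D.normQ_iff.2 hgN) hq hq1 hqz
        ⟨q', hfix, hm⟩ y hy
      rw [← hye, ← map_mul, ← map_mul, hπeq]
      simp only [coe_mul]
      have e1 : (g : G) * D.ι y = D.ι y' * g := mul_inv_eq_iff_eq_mul.1 hmy
      rcases hy' with e | e <;> rw [e] at e1
      · exact Or.inl e1.symm
      · refine Or.inr ?_
        rw [e1, map_mul, mul_assoc (D.ι y) (D.ι cz) (g : G), ← mul_inv_eq_iff_eq_mul.1 hgz,
          ← mul_assoc, mul_assoc (D.ι y * (g : G)), ← map_mul, show cz * cz = 1 by decide +kernel,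
          map_one, mul_one]) k hk
    exact ⟨o, ho, a, Subgroup.le_normalizer ha, rfl⟩
  have htwo : ∃ u ∈ A, ∃ v ∈ A, u ≠ 1 ∧ v ≠ 1 ∧ ¬ IsConj u v := by
    have he : inQ ce = true := by decide +kernel
    have hu : inQ cu = true := by decide +kernel
    have hne : ∀ x, ∀ hx : inQ x = true, x ≠ 1 → x ≠ cz → π ⟨D.ι x, hQK ⟨x, hx, rfl⟩⟩ ≠ 1 := by
      intro x hx h1 hz e
      rw [← map_one π, eq_comm, hπeq] at e
      simp only [OneMemClass.coe_one, one_mul] at e
      rcases e with e | e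
      · exact h1 (D.inj (e.trans (map_one _).symm))
      · exact hz (D.inj e)
    refine ⟨_, mem_map_of_mem π (hQKel ce he), _, mem_map_of_mem π (hQKel cu hu),
      hne ce he (by decide +kernel) (by decide +kernel), hne cu hu (by decide +kernel) (by decide +kernel), ?_⟩
    intro h
    obtain ⟨c, hc⟩ := isConj_iff.1 h
    obtain ⟨g, rfl⟩ := hπsurj c
    rw [← map_inv, ← map_mul, ← map_mul, eq_comm, hπeq] at hc
    simp only [coe_mul, coe_inv] at hc
    rcases hc with e | e
    · exact absurd (D.mp_isZ (show D.Mp g ce cu from e) (by decide +kernel)) (by decide +kernel)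
    · have : D.Mp g ce (cu * cz) := e.trans (map_mul _ _ _).symm
      exact absurd ((D.mp_isZ this (by decide +kernel)).symm.trans classes_uz.1) (by decide +kernel)
  set O := Cfsg.oddCore (K ⧸ zpowers zK) with hO
  haveI hAO : (A ⊔ O).Normal := General.main A hsq h8 hCA hclosed hgood htwo
  intro k hk
  let P : Sylow 2 (K ⧸ zpowers zK) := hAp.toSylow (by
    have := Nat.odd_iff.1 hAidx; omega)
  have hfr : normalizer (A : Set (K ⧸ zpowers zK)) ⊔ (A ⊔ O) = ⊤ :=
    Sylow.normalizer_sup_eq_top' P (show (P : Subgroup _) ≤ A ⊔ O from le_sup_left)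
  have hk' : π ⟨k, hk⟩ ∈ O ⊔ normalizer (A : Set (K ⧸ zpowers zK)) := by
    have h : π ⟨k, hk⟩ ∈ normalizer (A : Set (K ⧸ zpowers zK)) ⊔ (A ⊔ O) := by
      rw [hfr]; exact mem_top _
    refine sup_le (le_sup_right) (sup_le (Subgroup.le_normalizer.trans le_sup_right) le_sup_left) h
  obtain ⟨o', ho', n', hn', he⟩ := mem_sup_of_normal_left.1 hk'
  obtain ⟨o, rfl⟩ := hπsurj o'
  obtain ⟨n, rfl⟩ := hπsurj n'
  -- the preimage of the odd core
  set X : Subgroup G := (O.comap π).map K.subtype with hX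
  have hzX : zpowers (D.ι cz) ≤ X := zpowers_le.2 ⟨zK, by
    rw [SetLike.mem_coe, mem_comap, show π zK = 1 from (QuotientGroup.eq_one_iff _).2 (mem_zpowers _)]
    exact one_mem _, rfl⟩
  have hXK : X ≤ K := map_subtype_le _
  have hz2' : Nat.card (zpowers (D.ι cz)) = 2 := by
    rw [Nat.card_zpowers, orderOf_injective D.ι D.inj, Involutions.Basic.orderOf_two_iff]
    decide +kernel
  have hXcard : Nat.card X = 2 * Nat.card O := by
    rw [hX, card_map_of_injective K.subtype_injective, Cores.card_comap_mk', Nat.card_zpowers,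
      ← orderOf_coe, ← Nat.card_zpowers, hz2']
  have hXodd : Odd ((zpowers (D.ι cz)).relIndex X) := by
    have h := relIndex_mul_relIndex ⊥ (zpowers (D.ι cz)) X bot_le hzX
    rw [relIndex_bot_left, relIndex_bot_left, hXcard, hz2'] at h
    rw [Nat.eq_of_mul_eq_mul_left two_pos h]
    exact Cores.oddCore_odd
  obtain ⟨o₁, ho₁, a, ha, hoe⟩ := burnside (IsPGroup.of_card (n := 1) (by rw [hz2', pow_one])) hzX hXodd
    (fun m hm _ a ha => by
      obtain ⟨i, rfl⟩ := mem_zpowers_iff.1 ha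
      have h : Commute m (D.ι cz) := mul_inv_eq_iff_eq_mul.1 (D.mem_C.1 (hKC (hXK hm)))
      exact (h.zpow_right i).eq) (o : G) ⟨o, ho', rfl⟩
  have hKX : K ≤ normalizer (X : Set G) := by
    refine le_normalizer_iff.2 fun g hg x hx => ?_
    obtain ⟨x, hx', rfl⟩ := hx
    exact ⟨(⟨g, hg⟩ : K) * x * (⟨g, hg⟩ : K)⁻¹,
      (show (O.comap π).Normal from inferInstance).conj_mem x hx' _, rfl⟩
  have hco : core X ≤ core K := core_le_core hXK (hKX.trans (normalizer_le_normalizer_core X))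
  rw [← map_mul, hπeq] at he
  have hnn : (n : G) ∈ K ⊓ normalizer (D.Qg : Set G) := ⟨n.2, hnormA n hn'⟩
  have hzn : D.ι cz ∈ K ⊓ normalizer (D.Qg : Set G) :=
    ⟨hzK, Subgroup.le_normalizer ⟨cz, mem_Qs.2 (by decide +kernel), rfl⟩⟩
  have haz : a ∈ K ⊓ normalizer (D.Qg : Set G) := (zpowers_le.2 hzn) ha
  simp only [coe_mul] at he
  rcases he with e | e
  · refine ⟨o₁, hco ho₁, a * n, mul_mem haz hnn, ?_⟩
    rw [e, hoe, mul_assoc]
  · refine ⟨o₁, hco ho₁, a * n * D.ι cz, mul_mem (mul_mem haz hnn) hzn, ?_⟩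
    rw [e, hoe]; group

end Data

end Cfsg.Agent.M12Sylow.CentZ
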