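import Cfsg.Agent.Lib.M12Sylow.CentZFusion

/-!
# The element of `C(z)` moving `w1` to `e`, and the class of `w2`
-/

set_option autoImplicit false

namespace Cfsg.Agent.M12Sylow.CentZ

open Cfsg.Agent.G2Type Cfsg.Agent.StronglyClosedFour Subgroup

variable {G : Type*} [Group G] [Finite G]

namespace Data

variable (D : Data G)

/-- `w1` is fused to `e` in `C(z)`. -/
theorem exists_h0 : ∃ h : G, D.Mp h cz cz ∧ D.Mp h c1 ce := by
  obtain ⟨γ, γe, γz, γez, -⟩ := D.exists_gamma
  obtain ⟨g, φ, hg, hφ⟩ := D.shift D.z1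
  have hz := hφ cz (z_central c1)
  have hzne : φ cz ≠ cz := fun e => absurd (mp_left (e ▸ hz) hg) (by decide +kernel)
  have hz1 : φ cz ≠ 1 := fun e => absurd ((mp_one_iff hz).2 e) (by decide +kernel)
  have hF : inF (φ cz) = true := by
    by_contra hn
    rw [Bool.not_eq_true] at hn
    have hZ : isZ (φ cz) = true := by
      rw [D.mp_isZ hz (by decide +kernel)]; exact rep_isZ.1
    have he := hφ ce (by decide +kernel)
    have hu := hφ cu (by decide +kernel)
    have hcomm := mp_mul (mp_mul (mp_mul he hu) (hφ ce⁻¹ (by decide +kernel))) (hφ cu⁻¹ (by decide +kernel))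
    rw [show ce * cu * ce⁻¹ * cu⁻¹ = cz by decide +kernel] at hcomm
    have hei : φ ce⁻¹ = (φ ce)⁻¹ := eq_inv_of_mul_eq_one_left (mp_eq
      (mp_mul (hφ ce⁻¹ (by decide +kernel)) he) (by rw [inv_mul_cancel]; exact mp_one g))
    have hui : φ cu⁻¹ = (φ cu)⁻¹ := eq_inv_of_mul_eq_one_left (mp_eq
      (mp_mul (hφ cu⁻¹ (by decide +kernel)) hu) (by rw [inv_mul_cancel]; exact mp_one g))
    rw [hei, hui] at hcomm
    have e := mp_eq hz hcomm
    rcases cent_comm _ hZ hn _ (mp_commute he hz (z_central ce).symm) _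
      (mp_commute hu hz (z_central cu).symm) with h | h
    · exact hz1 (e.trans h)
    · exact hzne (e.trans h)
  have hv : D.Mp (D.ι cv) cz cz ∧ D.Mp (D.ι cv) cez ce ∧ D.Mp (D.ι cv) ce cez := by
    refine ⟨?_, ?_, ?_⟩
    · have := mp_ι (D := D) cv cz
      rwa [show cv * cz * cv⁻¹ = cz by decide +kernel] at this
    · have := mp_ι (D := D) cv cez
      rwa [show cv * cez * cv⁻¹ = ce by decide +kernel] at this
    · have := mp_ι (D := D) cv ce
      rwa [show cv * ce * cv⁻¹ = cez by decide +kernel] at this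
  rcases F_cases _ hF with e | e | e | e
  · exact absurd e hz1
  · exact absurd e hzne
  · rw [e] at hz
    exact ⟨D.ι cv * (γ * g), mp_comp (mp_comp hz γe) hv.1, mp_comp (mp_comp hg γz) hv.2.1⟩
  · rw [e] at hz
    exact ⟨D.ι cv * (γ * (D.ι cv * g)),
      mp_comp (mp_comp (mp_comp hz hv.2.1) γe) hv.1, mp_comp (mp_comp (mp_comp hg hv.1) γz) hv.2.1⟩

/-- Every `w` in `C(z)` commuting with `e` is moved into `M2` fixing `z` and `e`. -/
theorem into_M' {h : G} {w x : Md} (hz : D.Mp h cz cz) (hw : D.Mp h w ce)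
    (hwx : x * w = w * x) (hx2 : x * x = 1) :
    ∃ h' : G, D.Mp h' cz cz ∧ D.Mp h' w ce ∧ ∃ y, inM y = true ∧ D.Mp h' x y := by
  have hzx : Commute (D.ι cz) (D.ι x) := by
    rw [commute_iff_eq, ← map_mul, ← map_mul, z_central]
  have hwx' : Commute (D.ι w) (D.ι x) := by
    rw [commute_iff_eq, ← map_mul, ← map_mul, hwx]
  have hxCF : h * D.ι x * h⁻¹ ∈ D.CF := by
    refine D.mem_CF.2 ⟨?_, ?_⟩
    · show _ = D.ι cz
      rw [← show h * D.ι cz * h⁻¹ = D.ι cz from hz]
      calc h * D.ι x * h⁻¹ * (h * D.ι cz * h⁻¹) * (h * D.ι x * h⁻¹)⁻¹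
          = h * (D.ι x * D.ι cz) * (D.ι x)⁻¹ * h⁻¹ := by group
        _ = _ := by rw [← hzx.eq]; group
    · show _ = D.ι ce
      rw [← show h * D.ι w * h⁻¹ = D.ι ce from hw]
      calc h * D.ι x * h⁻¹ * (h * D.ι w * h⁻¹) * (h * D.ι x * h⁻¹)⁻¹
          = h * (D.ι x * D.ι w) * (D.ι x)⁻¹ * h⁻¹ := by group
        _ = _ := by rw [← hwx'.eq]; group
  obtain ⟨c, hc, y, hy, hcy⟩ := D.into_M hxCF (by
    calc h * D.ι x * h⁻¹ * (h * D.ι x * h⁻¹) = h * (D.ι x * D.ι x) * h⁻¹ := by group
      _ = 1 := by rw [← map_mul, hx2, map_one]; group)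
  obtain ⟨hcz, hce⟩ := D.mem_CF.1 hc
  refine ⟨c⁻¹ * h, mp_comp hz (mp_inv hcz), mp_comp hw (mp_inv hce), y, hy, ?_⟩
  rw [Mp, ← hcy]; group

/-- `w2` is not fused to `e` in `C(z)`. -/
theorem not_w2_e {h : G} (hz : D.Mp h cz cz) (hw : D.Mp h c2 ce) : False := by
  obtain ⟨h, hz, hw, y, hyM, hy⟩ := D.into_M' hz hw (x := ce) (by decide +kernel) (by decide +kernel)
  have hyZ : isZ y = true := by rw [D.mp_isZ hy (by decide +kernel)]; exact rep_isZ.2.1
  have hyF : inF y = false := by
    rw [Bool.eq_false_iff]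
    intro hF
    rcases F_cases y hF with e | e | e | e <;> subst e
    · exact absurd ((mp_one_iff hy).2 rfl) (by decide +kernel)
    · exact absurd (mp_left hy hz) (by decide +kernel)
    · exact absurd (mp_left hy hw) (by decide +kernel)
    · have := mp_mul hw hz
      rw [show ce * cz = cez by decide +kernel] at this
      exact absurd (mp_left hy this) (by decide +kernel)
  obtain ⟨x, hxM, hxy⟩ := transvection y hyZ hyM hyF
  obtain ⟨hxe, hxz⟩ := M_F x hxM
  have xz : D.Mp (D.ι x) cz cz := by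
    have := mp_ι (D := D) x cz
    rwa [hxz, mul_inv_cancel_right] at this
  have xe : D.Mp (D.ι x) ce ce := by
    have := mp_ι (D := D) x ce
    rwa [hxe, mul_inv_cancel_right] at this
  have xy : D.Mp (D.ι x) y (y * cz) := by
    have := mp_ι (D := D) x y
    rwa [hxy] at this
  obtain ⟨γ, γe, γz, γez, γM⟩ := D.exists_gamma
  set n := γ * (h⁻¹ * D.ι x * h) * γ⁻¹ with hn
  have pz : D.Mp (h⁻¹ * D.ι x * h) cz cz := by
    have := mp_comp hz (mp_comp xz (mp_inv hz))
    exact this
  have pw : D.Mp (h⁻¹ * D.ι x * h) c2 c2 := mp_comp hw (mp_comp xe (mp_inv hw))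
  have pe : D.Mp (h⁻¹ * D.ι x * h) ce (ce * cz) :=
    mp_comp hy (mp_comp xy (mp_mul (mp_inv hy) (mp_inv hz)))
  obtain ⟨a, haM, γw⟩ := γM c2 (by decide +kernel)
  have conjn : ∀ {s t s' t' : Md}, D.Mp γ s s' → D.Mp (h⁻¹ * D.ι x * h) s t → D.Mp γ t t' →
      D.Mp n s' t' := fun h1 h2 h3 => by
    rw [hn, mul_assoc]
    exact mp_comp (mp_comp (mp_inv h1) h2) h3
  have nez : D.Mp n cez cez := conjn γz pz γz
  have nz : D.Mp n cz ce := conjn γe pe (by
    rw [show ce * cz = cez by decide +kernel]; exact γez)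
  have na : D.Mp n a a := conjn γw pw γw
  have ne' : D.Mp n ce cz := by
    have := mp_mul nez nz
    rwa [show cez * cz = ce by decide +kernel, show cez * ce = cz by decide +kernel] at this
  have haZ : isZ a = true := by rw [D.mp_isZ γw (by decide +kernel)]; exact rep_isZ.2.2.2.1
  have haF : inF a = false := by
    rw [Bool.eq_false_iff]
    intro hF
    rcases F_cases a hF with e | e | e | e <;> subst e
    · exact absurd ((mp_one_iff γw).2 rfl) (by decide +kernel)
    · exact absurd (mp_left γw γe) (by decide +kernel)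
    · exact absurd (mp_left γw γez) (by decide +kernel)
    · exact absurd (mp_left γw γz) (by decide +kernel)
  -- `a` lies in `E`
  obtain ⟨b, hbM, γb⟩ := γM c0 (by decide +kernel)
  have hbF : inF b = false := by
    rw [Bool.eq_false_iff]
    intro hF
    rcases F_cases b hF with e | e | e | e <;> subst e
    · exact absurd ((mp_one_iff γb).2 rfl) (by decide +kernel)
    · exact absurd (mp_left γb γe) (by decide +kernel)
    · exact absurd (mp_left γb γez) (by decide +kernel)
    · exact absurd (mp_left γb γz) (by decide +kernel)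
  have hsq : b * a * (b * a) = cz := by
    have := mp_mul (mp_mul γb γw) (mp_mul γb γw)
    rw [show c0 * c2 * (c0 * c2) = ce by decide +kernel] at this
    exact (mp_eq γe this).symm
  have haE : inE a = true := sq_class b (mp_involution γb (by decide +kernel)) hbM hbF
    (by rw [D.mp_isZ γb (by decide +kernel)]; exact rep_isZ.2.2.2.2.2.2) a haZ haM haF hsq
  have nF : ∀ f, inF f = true → ∃ f', inF f' = true ∧ D.Mp n f f' := by
    intro f hf
    rcases F_cases f hf with rfl | rfl | rfl | rfl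
    exacts [⟨1, rfl, mp_one n⟩, ⟨ce, by decide +kernel, nz⟩, ⟨cz, by decide +kernel, ne'⟩,
      ⟨cez, by decide +kernel, nez⟩]
  have nE : ∀ s, inE s = true → ∃ t, inE t = true ∧ D.Mp n s t := by
    intro s hs
    by_cases hsF : inF s = true
    · obtain ⟨t, ht, hst⟩ := nF s hsF
      refine ⟨t, ?_, hst⟩
      rw [inE, ht, Bool.true_or]
    · have hd : inF (a * s) = true := by
        have key : ∀ a s : Md, inE a = true → inF a = false → inE s = true → inF s = false →
            inF (a * s) = true := by decide +kernel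
        exact key a s haE haF hs (Bool.eq_false_iff.2 hsF)
      obtain ⟨t, ht, hst⟩ := nF _ hd
      refine ⟨a * t, E_mul _ _ haE (by rw [inE, ht, Bool.true_or]), ?_⟩
      have ha2 : a * a = 1 := mp_involution γw (by decide +kernel)
      have := mp_mul na hst
      rwa [← mul_assoc, ha2, one_mul] at this
  have := mp_eq (D.fix_z nE nF) nz
  exact absurd this (by decide +kernel)

/-- Some element of `C(z)` normalises `E` and moves `w1` to `e`. -/
theorem exists_h : ∃ h : G, D.Mp h cz cz ∧ D.Mp h c1 ce ∧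
    ∃ y, inE y = true ∧ inF y = false ∧ D.Mp h ce y := by
  obtain ⟨h, hz, hw⟩ := D.exists_h0
  obtain ⟨h, hz, hw, y, hyM, hy⟩ := D.into_M' hz hw (x := ce) (by decide +kernel) (by decide +kernel)
  have hyZ : isZ y = true := by rw [D.mp_isZ hy (by decide +kernel)]; exact rep_isZ.2.1
  have hyF : inF y = false := by
    rw [Bool.eq_false_iff]
    intro hF
    rcases F_cases y hF with e | e | e | e <;> subst e
    · exact absurd ((mp_one_iff hy).2 rfl) (by decide +kernel)
    · exact absurd (mp_left hy hz) (by decide +kernel)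
    · exact absurd (mp_left hy hw) (by decide +kernel)
    · have := mp_mul hw hz
      rw [show ce * cz = cez by decide +kernel] at this
      exact absurd (mp_left hy this) (by decide +kernel)
  refine ⟨h, hz, hw, y, ?_, hyF, hy⟩
  by_contra hn
  obtain ⟨g, hg⟩ := w2_class y hyZ hyM hyF (Bool.not_eq_true _ ▸ hn)
  have hgz : D.Mp (D.ι g) cz cz := by
    have := mp_ι (D := D) g cz
    rwa [← z_central g, mul_inv_cancel_right] at this
  have h2 : D.Mp (D.ι g * h) ce c2 := by
    have := mp_ι (D := D) g y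
    rw [hg] at this
    exact mp_comp hy this
  exact D.not_w2_e (mp_inv (mp_comp hz hgz)) (mp_inv h2)

end Data

end Cfsg.Agent.M12Sylow.CentZ
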