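import Cfsg.Agent.Lib.M12Sylow.Model
import Cfsg.Agent.Lib.M12Central.Model

/-!
The model is isomorphic to a Sylow 2-subgroup of the Mathieu group of degree 12.
-/

set_option autoImplicit false
set_option maxRecDepth 20000

namespace Cfsg.Agent.M12Sylow

open Cfsg Cfsg.Agent.G2Type
open Cfsg.Agent.Golay.Cert Cfsg.Agent.Golay.TabList Cfsg.Agent.M12Central.Data
  Cfsg.Agent.M12Central.Facts Cfsg.Agent.M12Central.Model

/-- Table of the image of `(1, 0)`. -/
def cN : ℕ := 653830788032397719703857566644045921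
/-- Table of the image of `(0, 1)`. -/
def bN : ℕ := 941721728777583490919143048234803297
/-- Table of the image of `u`. -/
def uN : ℕ := 221511108386248923588767417837596808
/-- Table of the image of `v`. -/
def vN : ℕ := 217616992508735823014780017053020297

theorem gen_ok : (cN ∈ syl ∧ bN ∈ syl ∧ uN ∈ syl ∧ vN ∈ syl) ∧
    mulTab cN (mulTab cN (mulTab cN cN)) = idTab ∧ mulTab bN (mulTab bN (mulTab bN bN)) = idTab ∧
    mulTab cN bN = mulTab bN cN ∧ mulTab uN uN = idTab ∧ mulTab vN vN = idTab ∧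
    mulTab uN vN = mulTab vN uN ∧ mulTab cN (mulTab uN cN) = mulTab bN uN ∧
    mulTab uN bN = mulTab bN uN ∧ mulTab bN (mulTab vN cN) = mulTab cN vN ∧
    mulTab bN (mulTab vN bN) = vN ∧ mulTab bN bN ≠ idTab := by
  decide +kernel

theorem exists_hom : ∃ (ι : M →* ↥Spor.M12) (P : Sylow 2 ↥Spor.M12),
    Function.Injective ι ∧ ι.range = (P : Subgroup ↥Spor.M12) := by
  obtain ⟨P, hP⟩ := sylow_subgroup_card
  obtain ⟨⟨hc, hb, hu, hv⟩, hc4, hb4, hcb, hu2, hv2, huv, huc, hub, hvc, hvb, hbne⟩ := gen_ok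
  obtain ⟨h, hnd, -, -⟩ := syl_ok
  simp only [Bool.and_eq_true, beq_iff_eq, List.all_eq_true, closedList, List.contains_iff_mem] at h
  obtain ⟨⟨⟨hsub, hlen⟩, hclosed⟩, -⟩ := h
  have m : ∀ {x y : ℕ}, x ∈ syl → y ∈ syl → el0 (mulTab x y) = el0 x * el0 y := fun hx hy =>
    localM12.el_mul (hsub _ hx) (hsub _ hy)
  have cl : ∀ {x y : ℕ}, x ∈ syl → y ∈ syl → mulTab x y ∈ syl := fun hx hy => hclosed _ hx _ hy
  have h1 : el0 idTab = 1 := localM12.el_one
  have eu : (el0 uN)⁻¹ = el0 uN := inv_eq_of_mul_eq_one_right (by rw [← m hu hu, hu2, h1])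
  have ev' : (el0 vN)⁻¹ = el0 vN := inv_eq_of_mul_eq_one_right (by rw [← m hv hv, hv2, h1])
  have R : Mdl.Rel (4 * 1) (el0 cN) (el0 bN) (el0 uN) (el0 vN) := by
    refine ⟨?_, ?_, ?_, ?_, ?_, ?_, ?_, ?_, ?_, ?_⟩
    · show el0 cN ^ 4 = 1
      rw [show el0 cN ^ 4 = el0 cN * (el0 cN * (el0 cN * el0 cN)) by
          simp only [pow_succ, pow_zero, one_mul, mul_assoc],
        ← m hc hc, ← m hc (cl hc hc), ← m hc (cl hc (cl hc hc)), hc4, h1]
    · show el0 bN ^ 4 = 1
      rw [show el0 bN ^ 4 = el0 bN * (el0 bN * (el0 bN * el0 bN)) by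
          simp only [pow_succ, pow_zero, one_mul, mul_assoc],
        ← m hb hb, ← m hb (cl hb hb), ← m hb (cl hb (cl hb hb)), hb4, h1]
    · rw [← m hc hb, hcb, m hb hc]
    · rw [← m hu hu, hu2, h1]
    · rw [← m hv hv, hv2, h1]
    · rw [← m hu hv, huv, m hv hu]
    · rw [eu]
      have e1 := congrArg el0 huc
      rw [m hc (cl hu hc), m hu hc, m hb hu] at e1
      calc el0 uN * el0 cN * el0 uN = (el0 cN)⁻¹ * (el0 cN * (el0 uN * el0 cN)) * el0 uN := by group
        _ = (el0 cN)⁻¹ * (el0 bN * el0 uN) * el0 uN := by rw [e1]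
        _ = (el0 cN)⁻¹ * el0 bN * (el0 uN * el0 uN) := by group
        _ = _ := by rw [← m hu hu, hu2, h1, mul_one]
    · rw [eu, ← m hu hb, hub, m hb hu, mul_assoc, ← m hu hu, hu2, h1, mul_one]
    · rw [ev']
      have e1 := congrArg el0 hvc
      rw [m hb (cl hv hc), m hv hc, m hc hv] at e1
      calc el0 vN * el0 cN * el0 vN = (el0 bN)⁻¹ * (el0 bN * (el0 vN * el0 cN)) * el0 vN := by group
        _ = (el0 bN)⁻¹ * (el0 cN * el0 vN) * el0 vN := by rw [e1]
        _ = (el0 bN)⁻¹ * el0 cN * (el0 vN * el0 vN) := by group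
        _ = (el0 bN)⁻¹ * el0 cN := by rw [← m hv hv, hv2, h1, mul_one]
        _ = _ := by
          have e3 : Commute (el0 cN) (el0 bN) := by
            show el0 cN * el0 bN = el0 bN * el0 cN
            rw [← m hc hb, hcb, m hb hc]
          exact (e3.inv_right).eq.symm
    · rw [ev']
      have e1 := congrArg el0 hvb
      rw [m hb (cl hv hb), m hv hb] at e1
      calc el0 vN * el0 bN * el0 vN = (el0 bN)⁻¹ * (el0 bN * (el0 vN * el0 bN)) * el0 vN := by group
        _ = (el0 bN)⁻¹ * el0 vN * el0 vN := by rw [e1]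
        _ = _ := by rw [mul_assoc, ← m hv hv, hv2, h1, mul_one]
  refine ⟨Mdl.lift R, P, ?_, ?_⟩
  all_goals have hi : Function.Injective (Mdl.lift R) := Mdl.injective_of_zE (k := 1) (e := 0) (by
    rw [Mdl.lift_apply]
    show el0 cN ^ (0 : ZMod (4 * 1)).val * el0 bN ^ (Mdl.hh 1).val * 1 * 1 ≠ 1
    rw [ZMod.val_zero, pow_zero, one_mul, mul_one, mul_one, Mdl.val_hh]
    show el0 bN ^ 2 ≠ 1
    rw [pow_two, ← m hb hb, ← h1]
    exact fun e => hbne (el0_inj (hsub _ (cl hb hb)) (by exact elems_basic.2.2.1) e)) (pow_zero 2).symm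
  · exact hi
  · have hle : (Mdl.lift R).range ≤ (P : Subgroup ↥Spor.M12) := by
      rintro _ ⟨x, rfl⟩
      have hmem : ∀ {n : ℕ}, n ∈ syl → el0 n ∈ (P : Subgroup ↥Spor.M12) := fun hn => (hP _).2 ⟨_, hn, rfl⟩
      rw [Mdl.lift_apply]
      refine mul_mem (mul_mem (mul_mem (pow_mem (hmem hc) _) (pow_mem (hmem hb) _)) ?_) ?_
      · cases x.i
        exacts [one_mem _, hmem hu]
      · cases x.j
        exacts [one_mem _, hmem hv]
    refine Subgroup.eq_of_le_of_card_ge hle ?_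
    rw [← Nat.card_congr (MonoidHom.ofInjective hi).toEquiv]
    refine le_trans ?_ (le_of_eq (Mdl.card_eq).symm)
    have hs : ∀ g : ↥Spor.M12, g ∈ P → ∃ n : {n // n ∈ syl}, el0 n.1 = g := fun g hg => by
      obtain ⟨n, hn, e⟩ := (hP g).1 hg
      exact ⟨⟨n, hn⟩, e⟩
    choose f hf using hs
    refine (Nat.card_le_card_of_injective (fun g : ↥(P : Subgroup ↥Spor.M12) => f g.1 g.2) ?_).trans ?_
    · intro g g' e
      exact Subtype.ext (by rw [← hf g.1 g.2, ← hf g'.1 g'.2]; exact congrArg (fun n : {n // n ∈ syl} => el0 n.1) e)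
    · rw [Nat.card_eq_fintype_card]
      refine (Fintype.card_le_of_injective (fun n : {n // n ∈ syl} => (⟨syl.idxOf n.1,
        List.idxOf_lt_length_iff.2 n.2⟩ : Fin syl.length)) ?_).trans ?_
      · intro n n' e
        exact Subtype.ext ((List.idxOf_inj n.2).1 (congrArg Fin.val e))
      · rw [Fintype.card_fin, hlen]; norm_num

/-- A group whose Sylow 2-subgroup is that of the Mathieu group carries the model. -/
theorem exists_iota {G : Type*} [Group G] [Finite G] (S : Sylow 2 G) (P : Sylow 2 ↥Spor.M12)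
    (hS : Nonempty (↥(S : Subgroup G) ≃* ↥(P : Subgroup ↥Spor.M12))) :
    ∃ ι : M →* G, Function.Injective ι ∧ ι.range = (S : Subgroup G) := by
  have : Fact (Nat.Prime 2) := ⟨Nat.prime_two⟩
  obtain ⟨e⟩ := hS
  obtain ⟨ι₀, P₀, hi, hr⟩ := exists_hom
  let f : M ≃* ↥(P₀ : Subgroup ↥Spor.M12) :=
    (MonoidHom.ofInjective hi).trans (MulEquiv.subgroupCongr hr)
  let g : M ≃* ↥(S : Subgroup G) := (f.trans (Sylow.equiv P₀ P)).trans e.symm
  refine ⟨(S : Subgroup G).subtype.comp g.toMonoidHom, ?_, ?_⟩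
  · exact Subtype.coe_injective.comp g.injective
  · rw [MonoidHom.range_comp, MonoidHom.range_eq_top.2 g.surjective, ← MonoidHom.range_eq_map,
      Subgroup.range_subtype]

end Cfsg.Agent.M12Sylow
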