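import Cfsg.Agent.Lib.M12Sylow.Setup

/-!
Exactly one of `w0`, `w1` is fused to `z`; the embedding is normalised so that it is `w1`.
-/

set_option autoImplicit false
set_option linter.unusedSectionVars false

namespace Cfsg.Agent.M12Sylow

open Cfsg.Agent.G2Type
open Subgroup
open Cfsg.Agent.Involutions

universe w

variable {G : Type w} [Group G] [Finite G]

namespace Pre

variable (X : Pre G)

/-- The centraliser of `z` and `e`. -/
abbrev C0 : Subgroup G := X.C ⊓ centralizer ({X.ι e} : Set G)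

theorem map_max_le : max0.map X.ι ≤ X.C0 := by
  rintro _ ⟨a, ha, rfl⟩
  refine ⟨X.ι_mem_C a, X.commute_of_mem_cent (mem_cent.2 ?_)⟩
  have h := all_elts cent_reps a
  simp only [Bool.and_eq_true, beq_iff_eq] at h
  rw [mem_max0.1 ha] at h
  exact beq_iff_eq.1 h.2

theorem card_le_C0 {R : Subgroup G} (hR : IsPGroup 2 R) (hR0 : R ≤ X.C0) : Nat.card R ≤ 32 := by
  have hei : isInv e = true := typ_reps.2.2.2.2.2.2.2.2.2.1
  have hR' := isPGroup_sup_zpowers hR (n := 1)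
    (by rw [pow_one, pow_two, ← map_mul, (isInv_iff.1 hei).1, map_one]) (hR0.trans inf_le_right)
  have hle : R ⊔ zpowers (X.ι e) ≤ X.C := sup_le (hR0.trans inf_le_left) (zpowers_le.2 (X.ι_mem_C e))
  obtain ⟨c, hc, hcm⟩ := X.into_SC hR' hle
  obtain ⟨y, hy⟩ := hcm _ ((le_sup_right : zpowers (X.ι e) ≤ _) (mem_zpowers _))
  have hyi : isInv y = true := X.isInv_of_orderOf (by rw [hy, Basic.orderOf_conj, X.orderOf_ι hei])
  have hle' : Nat.card R ≤ Nat.card (cent y) := by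
    rw [← X.card_map]
    have hm : ∀ a : R, c * (a : G) * c⁻¹ ∈ (cent y).map X.ι := fun a => by
      obtain ⟨m, hm⟩ := hcm a ((le_sup_left : R ≤ _) a.2)
      refine ⟨m, mem_cent.2 (X.inj ?_), hm⟩
      rw [map_mul, map_mul, hm, hy]
      have h := mem_centralizer_singleton_iff.1 (hR0 a.2).2
      calc c * (a : G) * c⁻¹ * (c * X.ι e * c⁻¹) = c * ((a : G) * X.ι e) * c⁻¹ := by group
        _ = c * (X.ι e * (a : G)) * c⁻¹ := by rw [h]
        _ = _ := by group
    refine Nat.card_le_card_of_injective (fun a => (⟨_, hm a⟩ : (cent y).map X.ι)) fun a d h => ?_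
    exact Subtype.ext (mul_left_cancel (mul_right_cancel (congrArg Subtype.val h)))
  refine hle'.trans ?_
  rw [card_cent_inv hyi]
  have t0 : (typ y == 0) = false := beq_eq_false_iff_ne.2 fun e0 => by
    have e1 := (typ_spec hyi).2.2.1 e0
    subst e1
    have h := mem_centralizer_singleton_iff.1 hc
    rw [← mul_inv_eq_iff_eq_mul] at h
    have : X.ι e = X.ι z := (MulAut.conj c).injective (hy.symm.trans h.symm)
    exact Mdl.eE_ne_zE (X.inj this)
  rw [t0]
  cases typ y == 1 <;> cases typ y == 6 <;> simp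

/-- Conjugation into `C(e)` of the model inside the centraliser of `z` and `e`. -/
theorem into_max {P : Subgroup G} (hP : IsPGroup 2 P) (hP0 : P ≤ X.C0) :
    ∃ c ∈ X.C0, ∀ a ∈ P, ∃ m ∈ max0, X.ι m = c * a * c⁻¹ := by
  obtain ⟨g, hg, h⟩ := exists_conj_into (X.range_pgroup max0) X.map_max_le
    (fun R hR hR0 _ => by rw [X.card_map, card_max0]; exact X.card_le_C0 hR hR0) hP hP0
  exact ⟨g, hg, fun a ha => by
    obtain ⟨m, hm, e1⟩ := h a ha
    exact ⟨m, hm, e1⟩⟩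

/-- A fused involution with `z` a commutator in its centraliser goes to `z`, taking `z` to `e`. -/
theorem move_to_z {x : M} (hK : X.K x) {c d : M} (hc : c ∈ cent x) (hd : d ∈ cent x)
    (hz : z = c * d * c⁻¹ * d⁻¹) (hxz : x ≠ z) :
    ∃ g : G, g * X.ι x * g⁻¹ = X.ι z ∧ g * X.ι z * g⁻¹ = X.ι e ∧
      ∀ a ∈ cent x, ∃ m, X.ι m = g * X.ι a * g⁻¹ := by
  obtain ⟨g, φ, hg, hφ⟩ := Fusion.to_z X.ι X.S X.range_eq hK
  obtain ⟨ψ, hψ, hmul, hinv, -, hii, -⟩ := X.exists_psi (H := cent x) (g := g)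
    fun a ha => ⟨φ a, (hφ a (mem_cent.1 ha)).symm⟩
  have hzx : z ∈ cent x := mem_cent.2 (Mdl.zE_central x)
  have hev : ψ z = ψ c * ψ d * (ψ c)⁻¹ * (ψ d)⁻¹ := by
    rw [hz, hmul _ (mul_mem (mul_mem hc hd) (inv_mem hc)) _ (inv_mem hd),
      hmul _ (mul_mem hc hd) _ (inv_mem hc), hmul _ hc _ hd, hinv _ hc, hinv _ hd]
  have hzi : isInv z = true := typ_reps.2.2.2.2.2.2.2.2.1
  obtain ⟨h2, h1⟩ := isInv_iff.1 (hii z hzx hzi)
  have hce := Mdl.commutator_even (ψ c) (ψ d)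
  rw [← hev] at hce
  rcases Mdl.abelian_involution hce.1 hce.2.1 h2 h1 with e1 | e1
  · exfalso
    have := hψ z hzx
    rw [e1] at this
    exact hxz (X.inj ((MulAut.conj g).injective (hg.trans this)))
  · obtain ⟨s, hs⟩ := isConj_iff.1 e1
    refine ⟨X.ι s * g, ?_, ?_, fun a ha => ⟨s * ψ a * s⁻¹, ?_⟩⟩
    · rw [show X.ι s * g * X.ι x * (X.ι s * g)⁻¹ = X.ι s * (g * X.ι x * g⁻¹) * (X.ι s)⁻¹ by group, hg,
        mul_inv_eq_iff_eq_mul, ← map_mul, ← map_mul, Mdl.zE_central s]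
    · rw [show X.ι s * g * X.ι z * (X.ι s * g)⁻¹ = X.ι s * (g * X.ι z * g⁻¹) * (X.ι s)⁻¹ by group,
        ← hψ z hzx, ← map_inv, ← map_mul, ← map_mul, hs]
    · rw [map_mul, map_mul, hψ a ha, map_inv]; group

theorem cent_e_eq : cent e = max0 := by
  ext a
  have h := all_elts cent_reps a
  simp only [Bool.and_eq_true, beq_iff_eq] at h
  rw [mem_cent, mem_max0, ← h.2, beq_iff_eq]

theorem cent_w2_eq : cent w2 = E1 := by
  ext a
  have h := all_elts cent_reps a
  simp only [Bool.and_eq_true, beq_iff_eq] at h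
  rw [mem_cent, mem_E1, ← h.1, beq_iff_eq]

/-- An element interchanging `z` and `e` and carrying `C(e)` into the Sylow subgroup. -/
theorem exists_swap : ∃ g : G, g * X.ι e * g⁻¹ = X.ι z ∧ g * X.ι z * g⁻¹ = X.ι e ∧
    ∀ a ∈ max0, ∃ m, X.ι m = g * X.ι a * g⁻¹ := by
  have hf := cent_e_eq
  obtain ⟨g, h1, h2, h3⟩ := X.move_to_z (c := b) (d := w0) X.K_e (mem_cent.2 (by decide +kernel))
    (mem_cent.2 (by decide +kernel)) (by decide +kernel) Mdl.eE_ne_zE
  exact ⟨g, h1, h2, fun a ha => h3 a (by rw [hf]; exact ha)⟩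

/-- A fused `w` goes to `e` under an element centralising `z`. -/
theorem move_to_e {x : M} (hK : X.K x) {c d : M} (hc : c ∈ cent x) (hd : d ∈ cent x)
    (hz : z = c * d * c⁻¹ * d⁻¹) (hxz : x ≠ z) :
    ∃ f ∈ X.C, f * X.ι x * f⁻¹ = X.ι e ∧ ∀ a ∈ cent x, ∃ m ∈ max0, X.ι m = f * X.ι a * f⁻¹ := by
  obtain ⟨g₁, a1, a2, -⟩ := X.move_to_z hK hc hd hz hxz
  obtain ⟨g₂, b1, b2, -⟩ := X.exists_swap
  set f := g₂ * g₁ with hf
  have fz : f * X.ι z * f⁻¹ = X.ι z := by
    rw [hf, show g₂ * g₁ * X.ι z * (g₂ * g₁)⁻¹ = g₂ * (g₁ * X.ι z * g₁⁻¹) * g₂⁻¹ by group, a2, b1]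
  have fx : f * X.ι x * f⁻¹ = X.ι e := by
    rw [hf, show g₂ * g₁ * X.ι x * (g₂ * g₁)⁻¹ = g₂ * (g₁ * X.ι x * g₁⁻¹) * g₂⁻¹ by group, a1, b2]
  have hfC : f ∈ X.C := mem_centralizer_singleton_iff.2 (mul_inv_eq_iff_eq_mul.1 fz)
  obtain ⟨c', hc', h⟩ := X.into_max (P := ((cent x).map X.ι).map (MulAut.conj f).toMonoidHom)
    ((X.range_pgroup _).map _) (by
      rintro _ ⟨_, ⟨a, ha, rfl⟩, rfl⟩
      show f * X.ι a * f⁻¹ ∈ X.C0
      refine Subgroup.mem_inf.2 ⟨mul_mem (mul_mem hfC (X.ι_mem_C a)) (inv_mem hfC), ?_⟩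
      rw [mem_centralizer_singleton_iff, ← fx]
      calc f * X.ι a * f⁻¹ * (f * X.ι x * f⁻¹) = f * X.ι (a * x) * f⁻¹ := by rw [map_mul]; group
        _ = f * X.ι (x * a) * f⁻¹ := by rw [mem_cent.1 ha]
        _ = _ := by rw [map_mul]; group)
  refine ⟨c' * f, mul_mem hc'.1 hfC, ?_, fun a ha => ?_⟩
  · rw [show c' * f * X.ι x * (c' * f)⁻¹ = c' * (f * X.ι x * f⁻¹) * c'⁻¹ by group, fx, mul_inv_eq_iff_eq_mul]
    exact mem_centralizer_singleton_iff.1 hc'.2
  · obtain ⟨m, hm, e1⟩ := h _ ⟨_, ⟨a, ha, rfl⟩, rfl⟩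
    refine ⟨m, hm, ?_⟩
    rw [e1]
    show c' * (f * X.ι a * f⁻¹) * c'⁻¹ = _
    group

/-- `w2` is fused to `w0` or to `w1` by an element interchanging `z` and `e`. -/
theorem swap_w2 {g : G} (h1 : g * X.ι e * g⁻¹ = X.ι z) (h2 : g * X.ι z * g⁻¹ = X.ι e)
    (h3 : ∀ a ∈ max0, ∃ m, X.ι m = g * X.ι a * g⁻¹) :
    ∃ y, (y = w0 ∨ y = w1) ∧ ∃ m, isInv m = true ∧ typ m = 6 ∧ X.ι m = g * X.ι y * g⁻¹ := by
  obtain ⟨ψ, hψ, hmul, hinv, hone, hii, -⟩ := X.exists_psi h3
  have ha : a ∈ max0 := mem_max0.2 (by decide +kernel)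
  have hb : b ∈ max0 := mem_max0.2 (by decide +kernel)
  have hw : w0 ∈ max0 := mem_max0.2 (by decide +kernel)
  have hee : e ∈ max0 := mem_max0.2 (by decide +kernel)
  have hzz : z ∈ max0 := mem_max0.2 (by decide +kernel)
  have ea : ψ e = z := X.inj ((hψ e hee).trans h1)
  have ez : ψ z = e := X.inj ((hψ z hzz).trans h2)
  have hwi : isInv w0 = true := typ_reps.2.2.2.2.2.2.2.2.2.2.2.2.2.1
  have p1 : a * a = e := by decide +kernel
  have p2 : b * b = z := by decide +kernel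
  have p3 : a * b = b * a := by decide +kernel
  have p4 : w0 * a * w0 = a⁻¹ := by decide +kernel
  have p5 : w0 * b * w0 = b⁻¹ := by decide +kernel
  have p6 : w0 * w0 = 1 := by decide +kernel
  have p7 : b * w0 = w1 := by decide +kernel
  have h := all_elts max_swap (ψ a)
  rw [show (ψ a * ψ a == z) = true from beq_iff_eq.2 (by rw [← hmul _ ha _ ha, p1, ea]), Bool.not_true,
    Bool.false_or] at h
  have h' := all_elts h (ψ b)
  rw [show (ψ b * ψ b == e) = true from beq_iff_eq.2 (by rw [← hmul _ hb _ hb, p2, ez]), Bool.not_true,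
    Bool.false_or] at h'
  have h'' := all_elts h' (ψ w0)
  have hrel : relMax (ψ a) (ψ b) (ψ w0) = true := by
    simp only [relMax, Bool.and_eq_true, beq_iff_eq, Bool.not_eq_true', beq_eq_false_iff_ne]
    refine ⟨⟨⟨⟨?_, ?_⟩, (isInv_iff.1 (hii _ hw hwi)).2⟩, ?_⟩, ?_⟩
    · rw [← hmul _ ha _ hb, ← hmul _ hb _ ha, p3]
    · exact (isInv_iff.1 (hii _ hw hwi)).1
    · rw [← hmul _ hw _ ha, ← hmul _ (mul_mem hw ha) _ hw, p4, hinv _ ha]
    · rw [← hmul _ hw _ hb, ← hmul _ (mul_mem hw hb) _ hw, p5, hinv _ hb]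
  rw [hrel] at h''
  simp only [Bool.not_true, Bool.false_or, Bool.or_eq_true, beq_iff_eq] at h''
  rcases h'' with t | t
  · exact ⟨w0, Or.inl rfl, ψ w0, hii _ hw hwi, t, hψ _ hw⟩
  · have hw1 : w1 ∈ max0 := mem_max0.2 (by decide +kernel)
    rw [← hmul _ hb _ hw, p7] at t
    exact ⟨w1, Or.inr rfl, ψ w1, hii _ hw1 typ_reps.2.2.2.2.2.2.2.2.2.2.2.2.2.2.1, t, hψ _ hw1⟩

theorem K_w2_iff {y m : M} {g : G} (hm : isInv m = true) (t : typ m = 6) (e1 : X.ι m = g * X.ι y * g⁻¹) :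
    X.K w2 ↔ X.K y := by
  have h1 : IsConj (X.ι y) (X.ι w2) := by
    have h := X.isConj_rep hm
    rw [t] at h
    exact IsConj.trans (isConj_iff.2 ⟨g, e1.symm⟩) h
  exact ⟨fun h => h1.trans h, fun h => h1.symm.trans h⟩

theorem not_both_not : ¬ (¬ X.K w0 ∧ ¬ X.K w1) := by
  rintro ⟨h0, h1⟩
  have hu := X.not_K_u
  have hv := X.not_K_v
  have hui : isInv u = true := typ_reps.2.2.2.2.2.2.2.2.2.2.2.1
  have hwi : isInv w0 = true := typ_reps.2.2.2.2.2.2.2.2.2.2.2.2.2.1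
  obtain ⟨c, hc, hcx, hmove⟩ := X.conj_C_of_not_K hwi hui (Or.inr (Or.inr (typ_reps.2.2.2.2.1)))
    (Or.inl typ_reps.2.2.1) h0 hu
  have hee : e ∈ cent w0 := mem_cent.2 (by decide +kernel)
  obtain ⟨m, hm, hme⟩ := hmove e hee
  have hei : isInv e = true := typ_reps.2.2.2.2.2.2.2.2.2.1
  have hmi : isInv m = true := X.isInv_of_orderOf (by rw [hme, Basic.orderOf_conj, X.orderOf_ι hei])
  have hmK : X.K m := IsConj.trans (IsConj.symm (isConj_iff.2 ⟨c, hme.symm⟩ : IsConj (X.ι e) (X.ι m))) X.K_e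
  have h := all_elts cent_u m
  rw [show (isInv m && m * u == u * m) = true by simp [hmi, mem_cent.1 hm]] at h
  simp only [Bool.not_true, Bool.false_or, Bool.or_eq_true, beq_iff_eq] at h
  have key : ∀ t, typ m = t → rep t = u ∨ rep t = v ∨ rep t = w0 ∨ rep t = w1 → False := by
    intro t ht hr
    have hK := (X.K_iff_rep hmi).1 hmK
    rw [ht] at hK
    rcases hr with r | r | r | r <;> rw [r] at hK
    exacts [hu hK, hv hK, h0 hK, h1 hK]
  rcases h with (((h | h) | h) | h) | h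
  · subst h
    have h2 := mem_centralizer_singleton_iff.1 hc
    rw [← mul_inv_eq_iff_eq_mul] at h2
    exact Mdl.eE_ne_zE (X.inj ((MulAut.conj c).injective (hme.symm.trans h2.symm)))
  · exact key 2 h (Or.inl rfl)
  · exact key 3 h (Or.inr (Or.inl rfl))
  · exact key 4 h (Or.inr (Or.inr (Or.inl rfl)))
  · exact key 5 h (Or.inr (Or.inr (Or.inr rfl)))

theorem not_both : ¬ (X.K w0 ∧ X.K w1) := by
  rintro ⟨h0, h1⟩
  obtain ⟨g, g1, g2, g3⟩ := X.exists_swap
  obtain ⟨y, hy, m, hm, t, e1⟩ := X.swap_w2 g1 g2 g3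
  have h2 : X.K w2 := (X.K_w2_iff hm t e1).2 (by rcases hy with rfl | rfl; exacts [h0, h1])
  obtain ⟨f, hf, hfx, hmove⟩ := X.move_to_e (x := w0) (c := u) (d := e) h0 (mem_cent.2 (by decide +kernel))
    (mem_cent.2 (by decide +kernel)) (by decide +kernel) (by decide +kernel)
  obtain ⟨m', hm', e2⟩ := hmove u (mem_cent.2 (by decide +kernel))
  have hui : isInv u = true := typ_reps.2.2.2.2.2.2.2.2.2.2.2.1
  have hmi : isInv m' = true := X.isInv_of_orderOf (by rw [e2, Basic.orderOf_conj, X.orderOf_ι hui])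
  have hmK : ¬ X.K m' := fun h => X.not_K_u (IsConj.trans (isConj_iff.2 ⟨f, e2.symm⟩) h)
  apply hmK
  rw [X.K_iff_rep hmi]
  have hmax : (elts.all fun x => !(isInv x && inMax x) ||
      (typ x == 0 || typ x == 1 || typ x == 4 || typ x == 5 || typ x == 6)) = true := by decide +kernel
  have h := all_elts hmax m'
  rw [show (isInv m' && inMax m') = true by simp [hmi, mem_max0.1 hm']] at h
  simp only [Bool.not_true, Bool.false_or, Bool.or_eq_true, beq_iff_eq] at h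
  rcases h with (((h | h) | h) | h) | h <;> rw [h]
  exacts [X.K_z, X.K_e, h0, h1, h2]

end Pre

/-- The normalised setting. -/
structure Ctx (G : Type w) [Group G] [Finite G] extends Pre G where
  hw1 : IsConj (ι w1) (ι z)
  hw0 : ¬ IsConj (ι w0) (ι z)

theorem exists_aut : ∃ α : M →* M, Function.Injective α ∧ α u = u ∧ α z = z ∧
    IsConj (α w0) w1 ∧ IsConj (α w1) w0 := by
  have R : Mdl.Rel (4 * 1) a b u (⟨0, 1, false, true⟩ : M) := by constructor <;> decide +kernel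
  have v1 : Mdl.liftFun a b u (⟨0, 1, false, true⟩ : M) u = u := by decide +kernel
  have v2 : Mdl.liftFun a b u (⟨0, 1, false, true⟩ : M) z = z := by decide +kernel
  refine ⟨Mdl.lift R, Mdl.injective_of_zE (k := 1) (e := 0) ?_ (pow_zero 2).symm, v1, v2,
    isConj_iff.2 ⟨1, by rw [Mdl.lift_apply]; decide +kernel⟩,
    isConj_iff.2 ⟨⟨0, 1, false, false⟩, by rw [Mdl.lift_apply]; decide +kernel⟩⟩
  rw [Mdl.lift_apply, v2]
  exact Mdl.zE_ne

/-- Every setting can be normalised. -/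
theorem exists_ctx (X : Pre G) : Nonempty (Ctx G) := by
  by_cases h1 : X.K w1
  · exact ⟨{ X with hw1 := h1, hw0 := fun h0 => X.not_both ⟨h0, h1⟩ }⟩
  · have h0 : X.K w0 := by
      by_contra h0
      exact X.not_both_not ⟨h0, h1⟩
    obtain ⟨α, hα, au, az, c0, c1⟩ := exists_aut
    have hsurj : Function.Surjective α := Finite.surjective_of_injective hα
    exact ⟨{ ι := X.ι.comp α
             inj := X.inj.comp hα
             S := X.S
             range_eq := by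
               rw [← X.range_eq, MonoidHom.range_comp, MonoidHom.range_eq_top.2 hsurj,
                 ← MonoidHom.range_eq_map]
             simple := X.simple
             huz := by simpa [au, az] using X.huz
             hw1 := by
               show IsConj (X.ι (α w1)) (X.ι (α z))
               rw [az]; exact (X.ι.map_isConj c1).trans h0
             hw0 := by
               show ¬ IsConj (X.ι (α w0)) (X.ι (α z))
               rw [az]; exact fun h => h1 ((X.ι.map_isConj c0).symm.trans h) }⟩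

end Cfsg.Agent.M12Sylow
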