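import Cfsg.Agent.Lib.M12Sylow.CentL
import Cfsg.Agent.Lib.M12Sylow.Iso

/-!
A simple group with two classes of involutions and a Sylow 2-subgroup of type `M12` is `M12`.
-/

set_option autoImplicit false
set_option linter.unusedSectionVars false

namespace Cfsg.Agent.M12Sylow

open Cfsg.Agent.G2Type
open Subgroup
open Cfsg.Agent.Involutions

universe w

variable {G : Type w} [Group G] [Finite G]

namespace Ctx

variable (X : Ctx G)

/-- Noncentral involutions lie in the normaliser. -/
theorem mem_MG_of_not_K {y : G} (hy : orderOf y = 2) (h : ¬ IsConj y (X.ι z)) : y ∈ X.MG := by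
  obtain ⟨i, hi, hzi, hiy⟩ := exists_middle (X.orderOf_ι inv_z) hy (fun h' => h h'.symm)
  have hiM : i ∈ X.MG := X.C_le_MG (mem_centralizer_singleton_iff.2 hzi.symm.eq)
  by_cases hK : IsConj i (X.ι z)
  · exact X.cent_le_MG hiM hK (mem_centralizer_singleton_iff.2 hiy.symm.eq)
  obtain ⟨m, hm, x, hx, e1⟩ := X.into_S_MG hiM hi
  have hKx : ¬ X.K x := fun h' => hK ((isConj_iff.2 ⟨m, e1.symm⟩ : IsConj i (X.ι x)).trans h')
  obtain ⟨m', hm', e2⟩ := X.tob hx hKx
  have e3 : m' * m * i * (m' * m)⁻¹ = X.ι w0 := by rw [← e2, e1]; group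
  have hyH : m' * m * y * (m' * m)⁻¹ ∈ X.HJ := by
    refine mem_centralizer_singleton_iff.2 ?_
    rw [← e3]
    calc m' * m * y * (m' * m)⁻¹ * (m' * m * i * (m' * m)⁻¹) = m' * m * (y * i) * (m' * m)⁻¹ := by group
      _ = m' * m * (i * y) * (m' * m)⁻¹ := by rw [hiy.eq]
      _ = _ := by group
  have hn : m' * m ∈ X.MG := mul_mem hm' hm
  have := mul_mem (mul_mem (inv_mem hn) (X.HJ_le hyH)) hn
  simpa [mul_assoc] using this

/-- The normaliser is the whole group. -/
theorem MG_top : X.MG = ⊤ := by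
  have : IsSimpleGroup G := X.simple
  have hle : normalClosure ({X.ι u} : Set G) ≤ X.MG := by
    refine (closure_le X.MG).2 fun y hy => ?_
    obtain ⟨a, ha, hay⟩ := Group.mem_conjugatesOfSet_iff.1 hy
    rw [Set.mem_singleton_iff] at ha
    subst ha
    obtain ⟨g, rfl⟩ := isConj_iff.1 hay
    exact X.mem_MG_of_not_K (by rw [Basic.orderOf_conj]; exact X.orderOf_ι inv_u)
      fun h => X.huz ((isConj_iff.2 ⟨g, rfl⟩ : IsConj (X.ι u) (g * X.ι u * g⁻¹)).trans h)
  rcases (normalClosure_normal (s := ({X.ι u} : Set G))).eq_bot_or_eq_top with h | h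
  · exfalso
    have hu : X.ι u ∈ (⊥ : Subgroup G) := h ▸ subset_normalClosure (Set.mem_singleton _)
    have := X.orderOf_ι inv_u
    rw [mem_bot.1 hu, orderOf_one] at this
    omega
  · exact top_le_iff.1 (h ▸ hle)

theorem W_bot : X.W = ⊥ := by
  have : IsSimpleGroup G := X.simple
  have hn : X.W.Normal := normalizer_eq_top_iff.1 X.MG_top
  rcases hn.eq_bot_or_eq_top with h | h
  · exact h
  · exfalso
    have hd : 2 ∣ Nat.card X.W := by
      rw [h, card_top, ← X.orderOf_ι inv_z]; exact orderOf_dvd_natCard _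
    exact Nat.not_even_iff_odd.2 X.W_odd (even_iff_two_dvd.2 hd)

/-- The group is its own quotient. -/
theorem exists_equiv : Nonempty (G ≃* X.Mq) := by
  have hb : Function.Bijective (fun g : G => X.pr ⟨g, by rw [X.MG_top]; exact mem_top g⟩) := by
    constructor
    · intro g h e1
      have hm := (X.pr_eq).1 e1
      rw [X.W_bot, mem_bot] at hm
      exact inv_mul_eq_one.1 hm
    · intro q
      obtain ⟨y, rfl⟩ := QuotientGroup.mk'_surjective (X.W.subgroupOf X.MG) q
      exact ⟨y, congrArg X.pr (Subtype.ext rfl)⟩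
  exact ⟨MulEquiv.ofBijective
    (MonoidHom.mk' (fun g : G => X.pr ⟨g, by rw [X.MG_top]; exact mem_top g⟩)
      fun a b => by rw [← map_mul]; rfl) hb⟩

include X in
theorem isoM12 : Cfsg.Spor.IsoM12 G := by
  have : IsSimpleGroup G := X.simple
  obtain ⟨e⟩ := X.exists_equiv
  rcases X.mq_two with ⟨N, hN, -, -, h8⟩ | h
  · exfalso
    have hc : Nat.card (N.comap e.toMonoidHom) = 8 := by
      rw [← h8, ← card_map_of_injective (f := e.toMonoidHom) e.injective,
        map_comap_eq_self_of_surjective e.surjective]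
    have h64 : 64 ∣ Nat.card G := by
      rw [← X.card_range]; exact card_subgroup_dvd_card _
    rcases (hN.comap e.toMonoidHom).eq_bot_or_eq_top with h | h
    · rw [h, card_bot] at hc; omega
    · rw [h, card_top] at hc; rw [hc] at h64; omega
  · obtain ⟨f⟩ := h
    exact ⟨e.trans f⟩

end Ctx

/-- The group is `M12` when its Sylow subgroup is the model and it has two classes of involutions. -/
theorem isoM12_of_iota (hG : IsSimpleGroup G) (ι : M →* G) (hι : Function.Injective ι) (S : Sylow 2 G)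
    (hS : ι.range = (S : Subgroup G)) (h2 : ∃ x y : G, orderOf x = 2 ∧ orderOf y = 2 ∧ ¬ IsConj x y) :
    Cfsg.Spor.IsoM12 G := by
  have : Fact (Nat.Prime 2) := ⟨Nat.prime_two⟩
  by_cases huz : IsConj (ι u) (ι z)
  · exfalso
    obtain ⟨x, y, hx, hy, hne⟩ := h2
    suffices hall : ∀ x : G, orderOf x = 2 → IsConj x (ι z) from hne ((hall x hx).trans (hall y hy).symm)
    intro x hx
    have hP : IsPGroup 2 ↥(zpowers x) := IsPGroup.of_card (n := 1) (by rw [Nat.card_zpowers, hx, pow_one])
    obtain ⟨R, hR⟩ := hP.exists_le_sylow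
    obtain ⟨g, hg⟩ := MulAction.exists_smul_eq G R S
    have hmem : g * x * g⁻¹ ∈ (S : Subgroup G) := by
      rw [← hg]; exact Subgroup.smul_mem_pointwise_smul x (MulAut.conj g) _ (hR (mem_zpowers x))
    rw [← hS] at hmem
    obtain ⟨a, ha⟩ := hmem
    have ho : orderOf (ι a) = 2 := by rw [ha, Basic.orderOf_conj, hx]
    obtain ⟨s1, s2⟩ := Fusion.sq_of_orderOf ho
    have hc : IsConj x (ι a) := isConj_iff.2 ⟨g, ha.symm⟩
    rcases Fusion.two_classes ι S hS hι hG (show a ≠ 1 from fun e1 => s2 (by rw [e1, map_one]))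
        (hι (by rw [map_mul, map_one]; exact s1)) with h | h
    · exact hc.trans h
    · exact (hc.trans h).trans huz
  · obtain ⟨X⟩ := exists_ctx ({ ι := ι, inj := hι, S := S, range_eq := hS, simple := hG, huz := huz } : Pre G)
    exact X.isoM12

end Cfsg.Agent.M12Sylow
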