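import Cfsg.Agent.Lib.G2Type.Classes

/-!
Facts about the group of order 64 isomorphic to a Sylow 2-subgroup of the Mathieu group of degree 12,
checked by evaluation: classes of involutions, centralisers, and automorphisms of three subgroups.
-/

set_option autoImplicit false
set_option maxRecDepth 30000

namespace Cfsg.Agent.M12Sylow

open Cfsg.Agent.G2Type

/-- The group of order 64. -/
abbrev M := Mdl (4 * 1)

instance : DecidableEq M := fun a b =>
  decidable_of_iff (a.p = b.p ∧ a.q = b.q ∧ a.i = b.i ∧ a.j = b.j) (by simp [Mdl.ext_iff])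

/-- All elements. -/
def elts : List M :=
  ([0, 1, 2, 3] : List (ZMod (4 * 1))).flatMap fun p =>
    ([0, 1, 2, 3] : List (ZMod (4 * 1))).flatMap fun q =>
      [⟨p, q, false, false⟩, ⟨p, q, true, false⟩, ⟨p, q, false, true⟩, ⟨p, q, true, true⟩]

theorem mem_elts (x : M) : x ∈ elts := by
  obtain ⟨p, q, i, j⟩ := x
  have h : ∀ p q : ZMod (4 * 1), ∀ i j : Bool, (⟨p, q, i, j⟩ : M) ∈ elts := by
    intro p q i j
    have hp : p = 0 ∨ p = 1 ∨ p = 2 ∨ p = 3 := by revert p; decide
    have hq : q = 0 ∨ q = 1 ∨ q = 2 ∨ q = 3 := by revert q; decide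
    rcases hp with rfl | rfl | rfl | rfl <;> rcases hq with rfl | rfl | rfl | rfl <;>
      cases i <;> cases j <;> decide +kernel
  exact h p q i j

theorem all_elts {P : M → Bool} (h : elts.all P = true) (x : M) : P x = true :=
  List.all_eq_true.1 h x (mem_elts x)

theorem elts_nodup : elts.Nodup ∧ elts.length = 64 := by decide +kernel

theorem card_pred (S : Set M) (p : M → Bool) (h : ∀ x, x ∈ S ↔ p x = true) :
    Nat.card S = (elts.filter p).length := by
  classical
  have e : S = ((elts.filter p).toFinset : Set M) := by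
    ext x
    simp [h, mem_elts]
  rw [e, SetLike.coe_sort_coe, Nat.card_eq_fintype_card, Fintype.card_coe,
    List.toFinset_card_of_nodup (elts_nodup.1.filter _)]

/-- An involution. -/
def isInv (x : M) : Bool := x * x == 1 && !(x == 1)

theorem isInv_iff {x : M} : isInv x = true ↔ x * x = 1 ∧ x ≠ 1 := by simp [isInv]

/-- `z`. -/
abbrev z : M := Mdl.zE 1
/-- `e`. -/
abbrev e : M := Mdl.eE 1
/-- `e'`. -/
abbrev e' : M := z * e
/-- `(1, 0)`. -/
def a : M := ⟨1, 0, false, false⟩
/-- `(0, 1)`. -/
def b : M := ⟨0, 1, false, false⟩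
/-- `u`. -/
abbrev u : M := Mdl.uE 1
/-- `v`. -/
abbrev v : M := Mdl.vE 1
/-- `uv`. -/
abbrev w0 : M := Mdl.w0 1
/-- `uv (0, 1)`. -/
abbrev w1 : M := Mdl.w1 1
/-- `uv (1, 0)`. -/
abbrev w2 : M := Mdl.w2 1

/-- Even residue. -/
def ev (x : ZMod (4 * 1)) : Bool := x == 0 || x == 2

/-- The seven classes of involutions. -/
def typ (x : M) : ℕ :=
  match x.i, x.j with
  | false, false => bif x.p == 0 then 0 else 1
  | true, false => 2
  | false, true => 3
  | true, true => bif !(ev x.p) then 6 else bif ev x.q then 4 else 5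

/-- Representatives of the classes. -/
def rep : ℕ → M
  | 0 => z
  | 1 => e
  | 2 => u
  | 3 => v
  | 4 => w0
  | 5 => w1
  | _ => w2

theorem typ_reps : typ z = 0 ∧ typ e = 1 ∧ typ u = 2 ∧ typ v = 3 ∧ typ w0 = 4 ∧ typ w1 = 5 ∧ typ w2 = 6 ∧
    typ e' = 1 ∧ isInv z ∧ isInv e ∧ isInv e' ∧ isInv u ∧ isInv v ∧ isInv w0 ∧ isInv w1 ∧ isInv w2 := by
  decide +kernel

theorem classes_ok : (elts.all fun x => !isInv x ||
    ((elts.any fun g => g * x * g⁻¹ == rep (typ x)) && decide (typ x ≤ 6) &&
      (!(typ x == 0) || x == z) && (!(typ x == 1) || x == e || x == e'))) = true := by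
  decide +kernel

theorem typ_spec {x : M} (h : isInv x = true) :
    IsConj x (rep (typ x)) ∧ typ x ≤ 6 ∧ (typ x = 0 → x = z) ∧ (typ x = 1 → x = e ∨ x = e') := by
  have h' := all_elts classes_ok x
  rw [h] at h'
  simp only [Bool.not_true, Bool.false_or, Bool.and_eq_true, List.any_eq_true, beq_iff_eq,
    decide_eq_true_eq, Bool.or_eq_true, Bool.not_eq_true', beq_eq_false_iff_ne] at h'
  obtain ⟨⟨⟨⟨g, -, hg⟩, h6⟩, h0⟩, h1⟩ := h'
  exact ⟨isConj_iff.2 ⟨g, hg⟩, h6, fun e0 => h0.resolve_left fun hn => hn e0,
    fun e1 => by rcases h1 with (h1 | h1) | h1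
                 · exact absurd e1 h1
                 · exact Or.inl h1
                 · exact Or.inr h1⟩

/-- A subgroup from a predicate. -/
def ofPred (p : M → Bool) (h : (p 1 && elts.all fun x => !p x || (p x⁻¹ &&
    elts.all fun y => !p y || p (x * y))) = true) : Subgroup M where
  carrier := {x | p x = true}
  one_mem' := (Bool.and_eq_true _ _ ▸ h).1
  inv_mem' {x} (hx : p x = true) := by
    have h' := all_elts ((Bool.and_eq_true _ _ ▸ h).2) x
    simp only [hx, Bool.not_true, Bool.false_or, Bool.and_eq_true] at h'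
    exact h'.1
  mul_mem' {x y} (hx : p x = true) (hy : p y = true) := by
    have h' := all_elts ((Bool.and_eq_true _ _ ▸ h).2) x
    simp only [hx, Bool.not_true, Bool.false_or, Bool.and_eq_true] at h'
    have h'' := all_elts h'.2 y
    simp only [hy, Bool.not_true, Bool.false_or] at h''
    exact h''

/-- In `C(e)`. -/
def inMax (x : M) : Bool := x.i == x.j
/-- In `⟨z, e⟩`. -/
def inZ0 (x : M) : Bool := !x.i && !x.j && ev x.p && ev x.q
/-- In `C(w2)`. -/
def inE1 (x : M) : Bool := inZ0 x || (x.i && x.j && !(ev x.p) && ev x.q)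
/-- In the conjugate of `C(w2)` by `u`. -/
def inE2 (x : M) : Bool := inZ0 x || (x.i && x.j && !(ev x.p) && !(ev x.q))
/-- In the normal eight-group at `w0`. -/
def inE0 (x : M) : Bool := inZ0 x || (x.i && x.j && ev x.p && ev x.q)
/-- In the normal eight-group at `w1`. -/
def inA3 (x : M) : Bool := inZ0 x || (x.i && x.j && ev x.p && !(ev x.q))
/-- In the extraspecial subgroup. -/
def inQ (x : M) : Bool := ev x.p

/-- `C(e)`. -/
def max0 : Subgroup M := ofPred inMax (by decide +kernel)
/-- `⟨z, e⟩`. -/
def Z0 : Subgroup M := ofPred inZ0 (by decide +kernel)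
/-- `C(w2)`. -/
def E1 : Subgroup M := ofPred inE1 (by decide +kernel)
/-- Its conjugate. -/
def E2 : Subgroup M := ofPred inE2 (by decide +kernel)
/-- The normal eight-group whose involutions are fused to `z`. -/
def A3 : Subgroup M := ofPred inA3 (by decide +kernel)
/-- The extraspecial subgroup of order 32. -/
def Q : Subgroup M := ofPred inQ (by decide +kernel)

theorem mem_max0 {x : M} : x ∈ max0 ↔ inMax x = true := Iff.rfl
theorem mem_Z0 {x : M} : x ∈ Z0 ↔ inZ0 x = true := Iff.rfl
theorem mem_E1 {x : M} : x ∈ E1 ↔ inE1 x = true := Iff.rfl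
theorem mem_E2 {x : M} : x ∈ E2 ↔ inE2 x = true := Iff.rfl
theorem mem_A3 {x : M} : x ∈ A3 ↔ inA3 x = true := Iff.rfl
theorem mem_Q {x : M} : x ∈ Q ↔ inQ x = true := Iff.rfl

theorem lengths : (elts.filter inMax).length = 32 ∧ (elts.filter inZ0).length = 4 ∧
    (elts.filter inE1).length = 8 ∧ (elts.filter inE2).length = 8 ∧ (elts.filter inA3).length = 8 ∧
    (elts.filter inQ).length = 32 := by
  decide +kernel

theorem card_max0 : Nat.card max0 = 32 := (card_pred (max0 : Set M) inMax fun _ => Iff.rfl).trans lengths.1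
theorem card_E1 : Nat.card E1 = 8 := (card_pred (E1 : Set M) inE1 fun _ => Iff.rfl).trans lengths.2.2.1
theorem card_A3 : Nat.card A3 = 8 := (card_pred (A3 : Set M) inA3 fun _ => Iff.rfl).trans lengths.2.2.2.2.1
theorem card_Q : Nat.card Q = 32 := (card_pred (Q : Set M) inQ fun _ => Iff.rfl).trans lengths.2.2.2.2.2

/-- The centraliser of an element. -/
abbrev cent (x : M) : Subgroup M := Subgroup.centralizer ({x} : Set M)

theorem mem_cent {x y : M} : y ∈ cent x ↔ y * x = x * y := Subgroup.mem_centralizer_singleton_iff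

theorem card_cent (x : M) : Nat.card (cent x) = (elts.filter fun y => y * x == x * y).length :=
  card_pred (cent x : Set M) _ fun y => by
    rw [SetLike.mem_coe, mem_cent, beq_iff_eq]

theorem cent_sizes : (elts.all fun x => !isInv x ||
    ((elts.filter fun y => y * x == x * y).length ==
      bif typ x == 0 then 64 else bif typ x == 1 then 32 else bif typ x == 6 then 8 else 16)) = true := by
  decide +kernel

theorem card_cent_inv {x : M} (h : isInv x = true) : Nat.card (cent x) =
    bif typ x == 0 then 64 else bif typ x == 1 then 32 else bif typ x == 6 then 8 else 16 := by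
  have h' := all_elts cent_sizes x
  rw [h] at h'
  simp only [Bool.not_true, Bool.false_or, beq_iff_eq] at h'
  rw [card_cent, h']

theorem cent_reps : (elts.all fun y => (y * w2 == w2 * y) == inE1 y && (y * e == e * y) == inMax y) =
    true := by
  decide +kernel

/-- Commutators inside the centralisers of `u`, `v`, `w0`. -/
theorem comm_small : (elts.all fun x => !(isInv x && (typ x == 2 || typ x == 3 || typ x == 4)) ||
    elts.all fun c => !(c * x == x * c) || elts.all fun d => !(d * x == x * d) ||
      (c * d * c⁻¹ * d⁻¹ == 1 || c * d * c⁻¹ * d⁻¹ == z)) = true := by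
  decide +kernel

/-- Involutions commuting with `u`. -/
theorem cent_u : (elts.all fun x => !(isInv x && x * u == u * x) || x == z ||
    typ x == 2 || typ x == 3 || typ x == 4 || typ x == 5) = true := by
  decide +kernel

/-- The elements `A`, `B`, `W` are images of `(1, 0)`, `(0, 1)`, `w0`. -/
def relMax (A B W : M) : Bool :=
  A * B == B * A && W * W == 1 && !(W == 1) && W * A * W == A⁻¹ && W * B * W == B⁻¹

/-- A homomorphism on `C(e)` interchanging `z` and `e`. -/
theorem max_swap : (elts.all fun A => !(A * A == z) || elts.all fun B => !(B * B == e) ||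
    elts.all fun W => !relMax A B W || typ W == 6 || typ (B * W) == 6) = true := by
  decide +kernel

/-- An automorphism of `C(e)` fixing `z` and `e` that respects the fusion pattern fixes the cosets. -/
theorem max_auto : ([true, false].all fun l => elts.all fun A => !(inMax A && A * A == e) ||
    elts.all fun B => !(inMax B && B * B == z) || elts.all fun W =>
      !(inMax W && relMax A B W) ||
        !((typ W == 4 || (!l && typ W == 6)) && (typ (B * W) == 5 || (l && typ (B * W) == 6)) &&
          isInv W && isInv (B * W)) ||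
        !(inE2 (A * W) && !inZ0 (A * W))) = true := by
  decide +kernel

theorem max_cent_big : (elts.all fun x => !(isInv x && inMax x &&
    decide (16 ≤ (elts.filter fun y => inMax y && y * x == x * y).length)) || inZ0 x) = true := by
  decide +kernel

theorem max_normal : (elts.all fun g => !inMax g || elts.all fun x =>
    (!inE1 x || inE1 (g * x * g⁻¹)) && (!inE2 x || inE2 (g * x * g⁻¹))) = true := by
  decide +kernel

theorem E_conj : (elts.all fun x => inE1 x == inE2 (u * x * u⁻¹)) = true := by decide +kernel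

end Cfsg.Agent.M12Sylow
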