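import Cfsg.Agent.Lib.G2Type.Fusion
import Cfsg.Agent.Lib.M12Sylow.Model
import Cfsg.Agent.Lib.M12Sylow.Gen

/-!
The setting: a simple group containing the model as a Sylow 2-subgroup with two classes of involutions,
and first consequences on fusion.
-/

set_option autoImplicit false
set_option linter.unusedSectionVars false

namespace Cfsg.Agent.M12Sylow

open Cfsg.Agent.G2Type
open Subgroup
open Cfsg.Agent.Involutions

universe w

/-- The model as a Sylow 2-subgroup, with two classes of involutions. -/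
structure Pre (G : Type w) [Group G] [Finite G] where
  /-- the embedding -/
  ι : M →* G
  inj : Function.Injective ι
  /-- the Sylow subgroup -/
  S : Sylow 2 G
  range_eq : ι.range = (S : Subgroup G)
  simple : IsSimpleGroup G
  huz : ¬ IsConj (ι u) (ι z)

variable {G : Type w} [Group G] [Finite G]

namespace Pre

variable (X : Pre G)

/-- Fused to `z`. -/
def K (x : M) : Prop := IsConj (X.ι x) (X.ι z)

theorem orderOf_ι {x : M} (h : isInv x = true) : orderOf (X.ι x) = 2 :=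
  Fusion.orderOf_two X.ι X.inj (isInv_iff.1 h).2 (isInv_iff.1 h).1

theorem isInv_of_orderOf {x : M} (h : orderOf (X.ι x) = 2) : isInv x = true := by
  obtain ⟨h1, h2⟩ := Fusion.sq_of_orderOf h
  exact isInv_iff.2 ⟨X.inj (by rw [map_mul, map_one]; exact h1), fun e1 => h2 (by rw [e1, map_one])⟩

theorem range_pgroup (H : Subgroup M) : IsPGroup 2 ↥(H.map X.ι) :=
  Fusion.range_pgroup X.ι X.S X.range_eq H

theorem mem_S {x : G} : x ∈ (X.S : Subgroup G) ↔ ∃ a, X.ι a = x := by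
  rw [← X.range_eq]; rfl

/-- The centraliser of `z`. -/
abbrev C : Subgroup G := centralizer ({X.ι z} : Set G)

theorem ι_mem_C (a : M) : X.ι a ∈ X.C :=
  mem_centralizer_singleton_iff.2 (by rw [← map_mul, ← map_mul, Mdl.zE_central])

theorem commute_of_mem_cent {a x : M} (h : a ∈ cent x) : X.ι a ∈ centralizer ({X.ι x} : Set G) :=
  mem_centralizer_singleton_iff.2 (by rw [← map_mul, ← map_mul, mem_cent.1 h])

theorem map_cent_le (x : M) : (cent x).map X.ι ≤ centralizer ({X.ι x} : Set G) := by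
  rintro _ ⟨a, ha, rfl⟩
  exact X.commute_of_mem_cent ha

theorem card_map (H : Subgroup M) : Nat.card (H.map X.ι) = Nat.card H :=
  card_map_of_injective X.inj

theorem isConj_conj_C {x y : M} (h : IsConj x y) : ∃ c ∈ X.C, c * X.ι x * c⁻¹ = X.ι y := by
  obtain ⟨s, hs⟩ := isConj_iff.1 h
  exact ⟨X.ι s, X.ι_mem_C s, by rw [← map_inv, ← map_mul, ← map_mul, hs]⟩

theorem isConj_rep {x : M} (h : isInv x = true) : IsConj (X.ι x) (X.ι (rep (typ x))) :=
  X.ι.map_isConj (typ_spec h).1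

theorem K_iff_rep {x : M} (h : isInv x = true) : X.K x ↔ X.K (rep (typ x)) :=
  ⟨fun h' => (X.isConj_rep h).symm.trans h', fun h' => (X.isConj_rep h).trans h'⟩

theorem K_z : X.K z := IsConj.refl _

theorem K_e : X.K e := (Fusion.z_e X.ι X.S X.range_eq X.inj X.simple).symm

theorem isConj_u_of_not {x : M} (h : isInv x = true) (hK : ¬ X.K x) : IsConj (X.ι x) (X.ι u) :=
  (Fusion.two_classes X.ι X.S X.range_eq X.inj X.simple (isInv_iff.1 h).2 (isInv_iff.1 h).1).resolve_left hK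

theorem not_K_u : ¬ X.K u := X.huz

theorem not_K_v : ¬ X.K v := by
  have hze := Fusion.z_e X.ι X.S X.range_eq X.inj X.simple
  have hu : isInv u = true := typ_reps.2.2.2.2.2.2.2.2.2.2.2.1
  rcases Fusion.transfer_i X.ι X.S X.range_eq X.inj X.simple (isInv_iff.1 hu).2 (isInv_iff.1 hu).1
    with h | h | h
  · exact absurd h X.huz
  · exact absurd (h.trans hze.symm) X.huz
  · exact fun hv => X.huz (IsConj.trans h hv)

include X in
/-- Conjugation into the Sylow subgroup. -/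
theorem into_S {P : Subgroup G} (hP : IsPGroup 2 P) : ∃ g : G, ∀ a ∈ P, ∃ m, X.ι m = g * a * g⁻¹ := by
  have : Fact (Nat.Prime 2) := ⟨Nat.prime_two⟩
  obtain ⟨R, hR⟩ := hP.exists_le_sylow
  obtain ⟨g, hg⟩ := MulAction.exists_smul_eq G R X.S
  refine ⟨g, fun a ha => X.mem_S.1 ?_⟩
  rw [← hg]
  exact Subgroup.smul_mem_pointwise_smul a (MulAut.conj g) _ (hR ha)

theorem card_range : Nat.card X.ι.range = 64 := by
  rw [← Nat.card_congr (MonoidHom.ofInjective X.inj).toEquiv, Mdl.card_eq]; norm_num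

include X in
theorem card_le_sixtyfour {P : Subgroup G} (hP : IsPGroup 2 P) : Nat.card P ≤ 64 := by
  have : Fact (Nat.Prime 2) := ⟨Nat.prime_two⟩
  obtain ⟨R, hR⟩ := hP.exists_le_sylow
  refine (card_le_of_le hR).trans (le_of_eq ?_)
  rw [Sylow.card_eq_multiplicity R, ← Sylow.card_eq_multiplicity X.S, ← X.range_eq, X.card_range]

/-- Conjugation into the Sylow subgroup inside `C(z)`. -/
theorem into_SC {P : Subgroup G} (hP : IsPGroup 2 P) (hPC : P ≤ X.C) :
    ∃ c ∈ X.C, ∀ a ∈ P, ∃ m, X.ι m = c * a * c⁻¹ := by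
  obtain ⟨g, hg, h⟩ := exists_conj_into (T := (⊤ : Subgroup M).map X.ι) (H := X.C) (X.range_pgroup _)
    (by rintro _ ⟨a, -, rfl⟩; exact X.ι_mem_C a)
    (fun R hR _ _ => by
      rw [X.card_map, Nat.card_congr Subgroup.topEquiv.toEquiv, Mdl.card_eq]
      exact X.card_le_sixtyfour hR) hP hPC
  exact ⟨g, hg, fun a ha => by
    obtain ⟨m, -, e⟩ := h a ha
    exact ⟨m, e⟩⟩

/-- A homomorphism between subgroups of the model induced by conjugation. -/
theorem exists_psi {H : Subgroup M} {g : G} (h : ∀ a ∈ H, ∃ m, X.ι m = g * X.ι a * g⁻¹) :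
    ∃ ψ : M → M, (∀ a ∈ H, X.ι (ψ a) = g * X.ι a * g⁻¹) ∧
      (∀ a ∈ H, ∀ c ∈ H, ψ (a * c) = ψ a * ψ c) ∧ (∀ a ∈ H, ψ a⁻¹ = (ψ a)⁻¹) ∧
      (∀ a ∈ H, ψ a = 1 ↔ a = 1) ∧ (∀ a ∈ H, isInv a = true → isInv (ψ a) = true) ∧
      (∀ a ∈ H, X.K (ψ a) ↔ X.K a) := by
  classical
  let ψ : M → M := fun a => if ha : a ∈ H then (h a ha).choose else 1
  have hψ : ∀ a ∈ H, X.ι (ψ a) = g * X.ι a * g⁻¹ := fun a ha => by
    simp only [ψ, dif_pos ha]
    exact (h a ha).choose_spec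
  refine ⟨ψ, hψ, fun a ha c hc => X.inj ?_, fun a ha => X.inj ?_, fun a ha => ?_, fun a ha hi => ?_,
    fun a ha => ?_⟩
  · rw [hψ _ (mul_mem ha hc), map_mul, map_mul, hψ _ ha, hψ _ hc]; group
  · rw [hψ _ (inv_mem ha), map_inv, map_inv, hψ _ ha]; group
  · constructor
    · intro e1
      have := hψ a ha
      rw [e1, map_one, eq_comm, conj_eq_one_iff] at this
      exact X.inj (this.trans (map_one _).symm)
    · rintro rfl
      exact X.inj (by rw [hψ 1 ha, map_one]; group)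
  · exact X.isInv_of_orderOf (by rw [hψ a ha, Basic.orderOf_conj, X.orderOf_ι hi])
  · have hc : IsConj (X.ι a) (X.ι (ψ a)) := isConj_iff.2 ⟨g, (hψ a ha).symm⟩
    exact ⟨fun h' => hc.trans h', fun h' => hc.symm.trans h'⟩

/-- A 2-subgroup of the centraliser of a noncentral involution class has order at most 16. -/
theorem card_le_of_not_K {x : M} (hx : isInv x = true) (hK : ¬ X.K x) {R : Subgroup G}
    (hR : IsPGroup 2 R) (hRx : R ≤ centralizer ({X.ι x} : Set G)) : Nat.card R ≤ 16 := by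
  have hR' := isPGroup_sup_zpowers hR (n := 1)
    (by rw [pow_one, pow_two, ← map_mul, (isInv_iff.1 hx).1, map_one]) hRx
  obtain ⟨g, hg⟩ := X.into_S hR'
  obtain ⟨y, hy⟩ := hg (X.ι x) ((le_sup_right : zpowers (X.ι x) ≤ _) (mem_zpowers _))
  have hyi : isInv y = true := X.isInv_of_orderOf (by rw [hy, Basic.orderOf_conj, X.orderOf_ι hx])
  have hxy : IsConj (X.ι x) (X.ι y) := isConj_iff.2 ⟨g, hy.symm⟩
  have hyK : ¬ X.K y := fun h => hK (hxy.trans h)
  have hle : Nat.card R ≤ Nat.card (cent y) := by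
    rw [← X.card_map]
    have hm : ∀ a : R, g * (a : G) * g⁻¹ ∈ (cent y).map X.ι := fun a => by
      obtain ⟨m, hm⟩ := hg a ((le_sup_left : R ≤ _) a.2)
      refine ⟨m, mem_cent.2 (X.inj ?_), hm⟩
      rw [map_mul, map_mul, hm, hy]
      have hc := mem_centralizer_singleton_iff.1 (hRx a.2)
      calc g * (a : G) * g⁻¹ * (g * X.ι x * g⁻¹) = g * ((a : G) * X.ι x) * g⁻¹ := by group
        _ = g * (X.ι x * (a : G)) * g⁻¹ := by rw [hc]
        _ = _ := by group
    refine Nat.card_le_card_of_injective (fun a => (⟨_, hm a⟩ : (cent y).map X.ι)) fun a c h => ?_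
    exact Subtype.ext (mul_left_cancel (mul_right_cancel (congrArg Subtype.val h)))
  refine hle.trans ?_
  rw [card_cent_inv hyi]
  obtain ⟨-, -, h0, h1⟩ := typ_spec hyi
  have t0 : (typ y == 0) = false := beq_eq_false_iff_ne.2 fun e0 => hyK (h0 e0 ▸ X.K_z)
  have t1 : (typ y == 1) = false := beq_eq_false_iff_ne.2 fun e1 => hyK
    ((X.K_iff_rep hyi).2 (by rw [e1]; exact X.K_e))
  rw [t0, t1]
  cases typ y == 6 <;> simp

/-- Conjugation into the centraliser of `x` in the model. -/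
theorem into_cent {x : M} (hx : isInv x = true) (hK : ¬ X.K x) (ht : typ x ≠ 6) {P : Subgroup G}
    (hP : IsPGroup 2 P) (hPx : P ≤ centralizer ({X.ι x} : Set G)) :
    ∃ g ∈ centralizer ({X.ι x} : Set G), ∀ a ∈ P, g * a * g⁻¹ ∈ (cent x).map X.ι := by
  refine exists_conj_into (X.range_pgroup _) (X.map_cent_le x) (fun R hR hRx _ => ?_) hP hPx
  rw [X.card_map, card_cent_inv hx]
  obtain ⟨-, -, h0, h1⟩ := typ_spec hx
  have t0 : (typ x == 0) = false := beq_eq_false_iff_ne.2 fun e0 => hK (h0 e0 ▸ X.K_z)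
  have t1 : (typ x == 1) = false := beq_eq_false_iff_ne.2 fun e1 => hK
    ((X.K_iff_rep hx).2 (by rw [e1]; exact X.K_e))
  rw [t0, t1, beq_eq_false_iff_ne.2 ht]
  exact X.card_le_of_not_K hx hK hR hRx

/-- Two noncentral involutions of `{u, v, w0}`-type are conjugate in `C(z)`. -/
theorem conj_C_of_not_K {x y : M} (hx : isInv x = true) (hy : isInv y = true)
    (tx : typ x = 2 ∨ typ x = 3 ∨ typ x = 4) (ty : typ y = 2 ∨ typ y = 3 ∨ typ y = 4)
    (hKx : ¬ X.K x) (hKy : ¬ X.K y) :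
    ∃ c ∈ X.C, c * X.ι x * c⁻¹ = X.ι y ∧ ∀ a ∈ cent x, ∃ m ∈ cent y, X.ι m = c * X.ι a * c⁻¹ := by
  obtain ⟨g₀, hg₀⟩ := isConj_iff.1 ((X.isConj_u_of_not hx hKx).trans (X.isConj_u_of_not hy hKy).symm)
  have hP : IsPGroup 2 ↥(((cent x).map X.ι).map (MulAut.conj g₀).toMonoidHom) := (X.range_pgroup _).map _
  obtain ⟨g, hg, h⟩ := X.into_cent hy hKy (by omega) hP (by
    rintro _ ⟨_, ⟨a, ha, rfl⟩, rfl⟩
    rw [mem_centralizer_singleton_iff, ← hg₀]
    show g₀ * X.ι a * g₀⁻¹ * (g₀ * X.ι x * g₀⁻¹) = g₀ * X.ι x * g₀⁻¹ * (g₀ * X.ι a * g₀⁻¹)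
    calc g₀ * X.ι a * g₀⁻¹ * (g₀ * X.ι x * g₀⁻¹) = g₀ * X.ι (a * x) * g₀⁻¹ := by rw [map_mul]; group
      _ = g₀ * X.ι (x * a) * g₀⁻¹ := by rw [mem_cent.1 ha]
      _ = _ := by rw [map_mul]; group)
  have hmove : ∀ a ∈ cent x, ∃ m ∈ cent y, X.ι m = g * g₀ * X.ι a * (g * g₀)⁻¹ := fun a ha => by
    obtain ⟨m, hm, e1⟩ := h _ ⟨_, ⟨a, ha, rfl⟩, rfl⟩
    refine ⟨m, hm, ?_⟩
    rw [e1]
    show g * (g₀ * X.ι a * g₀⁻¹) * g⁻¹ = _
    group
  refine ⟨g * g₀, ?_, ?_, hmove⟩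
  · obtain ⟨ψ, hψ, hmul, hinv, h1, -, -⟩ := X.exists_psi (H := cent x) (g := g * g₀)
      fun a ha => (hmove a ha).imp fun m hm => hm.2
    have hin : ∀ a ∈ cent x, ψ a ∈ cent y := fun a ha => by
      obtain ⟨m, hm, e1⟩ := hmove a ha
      rwa [X.inj ((hψ a ha).trans e1.symm)]
    have hw : ∀ w, typ w = 2 ∨ typ w = 3 ∨ typ w = 4 → isInv w = true →
        ∀ c d, c ∈ cent w → d ∈ cent w → c * d * c⁻¹ * d⁻¹ = 1 ∨ c * d * c⁻¹ * d⁻¹ = z := by
      intro w tw hwi c d hc hd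
      have h' := all_elts comm_small w
      simp only [hwi, Bool.true_and] at h'
      rw [show (typ w == 2 || typ w == 3 || typ w == 4) = true by simpa [or_assoc] using tw] at h'
      simp only [Bool.not_true, Bool.false_or] at h'
      have h'' := all_elts h' c
      simp only [show (c * w == w * c) = true from beq_iff_eq.2 (mem_cent.1 hc), Bool.not_true,
        Bool.false_or] at h''
      have h3 := all_elts h'' d
      simp only [show (d * w == w * d) = true from beq_iff_eq.2 (mem_cent.1 hd), Bool.not_true,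
        Bool.false_or, Bool.or_eq_true, beq_iff_eq] at h3
      exact h3
    obtain ⟨c₁, d₁, hc₁, hd₁, hz⟩ : ∃ c d, c ∈ cent x ∧ d ∈ cent x ∧ z = c * d * c⁻¹ * d⁻¹ := by
      obtain ⟨r, hr⟩ := isConj_iff.1 (typ_spec hx).1
      have hrep : rep (typ x) = Mdl.uE 1 ∨ rep (typ x) = Mdl.vE 1 ∨ rep (typ x) = Mdl.w0 1 ∨
          rep (typ x) = Mdl.w1 1 := by
        rcases tx with t | t | t <;> rw [t] <;> simp [rep]
      obtain ⟨c, d, hc, hd, hcd⟩ := Mdl.zE_commutator _ hrep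
      have ex : x = r⁻¹ * rep (typ x) * r := by rw [← hr]; group
      have hm : ∀ q, q * rep (typ x) = rep (typ x) * q → r⁻¹ * q * r ∈ cent x := fun q hq => by
        rw [mem_cent, ex]
        calc r⁻¹ * q * r * (r⁻¹ * rep (typ x) * r) = r⁻¹ * (q * rep (typ x)) * r := by group
          _ = r⁻¹ * (rep (typ x) * q) * r := by rw [hq]
          _ = _ := by group
      refine ⟨_, _, hm c hc, hm d hd, ?_⟩
      calc z = r⁻¹ * (z * r) := by
            rw [show z * r = r * z from Mdl.zE_central r, inv_mul_cancel_left]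
        _ = r⁻¹ * z * r := by group
        _ = _ := by rw [show z = c * d * c⁻¹ * d⁻¹ from hcd]; group
    have hz' : ψ z = ψ c₁ * ψ d₁ * (ψ c₁)⁻¹ * (ψ d₁)⁻¹ := by
      rw [hz, hmul _ (mul_mem (mul_mem hc₁ hd₁) (inv_mem hc₁)) _ (inv_mem hd₁),
        hmul _ (mul_mem hc₁ hd₁) _ (inv_mem hc₁), hmul _ hc₁ _ hd₁, hinv _ hc₁, hinv _ hd₁]
    have hzx : z ∈ cent x := mem_cent.2 (Mdl.zE_central x)
    have hψz : ψ z = z := by
      rcases hw y ty hy _ _ (hin _ hc₁) (hin _ hd₁) with e1 | e1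
      · exact absurd ((h1 z hzx).1 (hz'.trans e1)) Mdl.zE_ne
      · exact hz'.trans e1
    rw [mem_centralizer_singleton_iff, ← mul_inv_eq_iff_eq_mul, ← hψ z hzx, hψz]
  · rw [show g * g₀ * X.ι x * (g * g₀)⁻¹ = g * (g₀ * X.ι x * g₀⁻¹) * g⁻¹ by group, hg₀,
      mul_inv_eq_iff_eq_mul]
    exact mem_centralizer_singleton_iff.1 hg

end Pre

end Cfsg.Agent.M12Sylow
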