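import Cfsg.Agent.Lib.M12Sylow.CentFinal

/-!
The signalizer on the normal eight-group and the subgroup containing every centraliser of a conjugate
of `z` among its involutions.
-/

set_option autoImplicit false
set_option linter.unusedSectionVars false

namespace Cfsg.Agent.M12Sylow

open Cfsg.Agent.G2Type
open Subgroup
open Cfsg.Agent.Involutions

universe w

variable {G : Type w} [Group G] [Finite G]

theorem conj_mem_centralizer {a y g : G} (h : y ∈ centralizer ({a} : Set G)) :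
    g * y * g⁻¹ ∈ centralizer ({g * a * g⁻¹} : Set G) := by
  rw [mem_centralizer_singleton_iff] at h ⊢
  calc g * y * g⁻¹ * (g * a * g⁻¹) = g * (y * a) * g⁻¹ := by group
    _ = g * (a * y) * g⁻¹ := by rw [h]
    _ = _ := by group

theorem conj_mem_core {a y g : G} (h : y ∈ Cfsg.centralizerPPrimeCore 2 a) :
    g * y * g⁻¹ ∈ Cfsg.centralizerPPrimeCore 2 (g * a * g⁻¹) := by
  rw [SolvableSignalizer.centralizerPPrimeCore_conj 2]
  exact ⟨y, h, rfl⟩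

theorem odd_orderOf_core {a y : G} (h : y ∈ Cfsg.centralizerPPrimeCore 2 a) : Odd (orderOf y) :=
  (Nat.coprime_two_right.1 (Components.Balance.centralizerPPrimeCore_coprime 2 a)).of_dvd_nat
    (by rw [← Subgroup.orderOf_mk y h]; exact orderOf_dvd_natCard _)

namespace Ctx

variable (X : Ctx G)

theorem UQ_normal {c x : G} (hc : c ∈ X.C) (hx : x ∈ X.U ⊔ X.QG) : c * x * c⁻¹ ∈ X.U ⊔ X.QG := by
  obtain ⟨a, ha, n, hn, hnQ, rfl⟩ := X.C_split hc
  have h1 : (X.U ⊔ X.QG).map (MulAut.conj n).toMonoidHom ≤ X.U ⊔ X.QG := by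
    rw [Subgroup.map_sup]
    refine sup_le_sup ?_ ?_
    · rintro _ ⟨y, hy, rfl⟩; exact X.conj_mem_U hn hy
    · rintro _ ⟨y, hy, rfl⟩; exact (mem_normalizer_iff.1 hnQ y).1 hy
  have ha' := (le_sup_left : X.U ≤ X.U ⊔ X.QG) ha
  rw [show a * n * x * (a * n)⁻¹ = a * (n * x * n⁻¹) * a⁻¹ by group]
  exact mul_mem (mul_mem ha' (h1 ⟨x, hx, rfl⟩)) (inv_mem ha')

theorem odd_UQ {x : G} (hx : x ∈ X.U ⊔ X.QG) (ho : Odd (orderOf x)) : x ∈ X.U := by
  rw [← SetLike.mem_coe, coe_mul_of_right_le_normalizer_left _ _ (X.Q_le_C.trans X.C_le_norm_U),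
    Set.mem_mul] at hx
  obtain ⟨a, ha, _, ⟨q, hq, rfl⟩, rfl⟩ := hx
  have hn : ∀ k : ℕ, ∃ a' ∈ X.U, (a * X.ι q) ^ k = a' * X.ι q ^ k := by
    intro k
    induction k with
    | zero => exact ⟨1, one_mem _, by simp⟩
    | succ k ih =>
      obtain ⟨a', ha', e'⟩ := ih
      refine ⟨a' * (X.ι q ^ k * a * (X.ι q ^ k)⁻¹), mul_mem ha' (X.conj_mem_U (pow_mem (X.ι_mem_C q) k) ha), ?_⟩
      rw [pow_succ, e', pow_succ]; group
  obtain ⟨a', ha', e'⟩ := hn (orderOf (a * X.ι q))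
  rw [pow_orderOf_eq_one, ← map_pow] at e'
  have h1 : q ^ orderOf (a * X.ι q) = 1 := X.ι_eq_one_of_mem X.U_odd (by
    rw [eq_inv_of_mul_eq_one_right e'.symm]; exact inv_mem ha')
  have h2 : orderOf q = 1 := by
    refine Nat.eq_one_of_dvd_coprimes (b := 2 ^ 6) ((Nat.coprime_two_right.2 ho).pow_right 6)
      (orderOf_dvd_of_pow_eq_one h1) ?_
    refine (orderOf_dvd_natCard q).trans ?_
    rw [Mdl.card_eq]; norm_num
  rw [orderOf_eq_one_iff.1 h2, map_one, mul_one]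
  exact ha

theorem balance_z {a : G} (ha : orderOf a = 2) (haC : a ∈ X.C) :
    Cfsg.centralizerPPrimeCore 2 a ⊓ X.C ≤ X.U := by
  intro n hn
  obtain ⟨hna, hnC⟩ := Subgroup.mem_inf.1 hn
  have hz : IsPGroup 2 ↥(zpowers a) := IsPGroup.of_card (n := 1) (by rw [Nat.card_zpowers, ha, pow_one])
  obtain ⟨c, hc, hcm⟩ := X.into_SC hz (zpowers_le.2 haC)
  obtain ⟨m, hm⟩ := hcm a (mem_zpowers a)
  obtain ⟨q, hqmem, hq⟩ := List.any_eq_true.1 (all_elts q_cent m)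
  simp only [Bool.and_eq_true, beq_iff_eq, Bool.not_eq_true', beq_eq_false_iff_ne] at hq
  have hqQ : q ∈ Q := M12Sylow.mem_Q.2 (List.mem_filter.1 hqmem).2
  obtain ⟨⟨hqm, hq1⟩, hqz⟩ := hq
  have h1 : c * n * c⁻¹ ∈ Cfsg.centralizerPPrimeCore 2 (X.ι m) := by rw [hm]; exact conj_mem_core hna
  set n' := c * n * c⁻¹ with hn'
  have hn'C : n' ∈ X.C := mul_mem (mul_mem hc hnC) (inv_mem hc)
  have hqc : X.ι q ∈ centralizer ({X.ι m} : Set G) := X.commute_of_mem_cent (mem_cent.2 hqm)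
  have h2 : n' * X.ι q * n'⁻¹ * (X.ι q)⁻¹ ∈ Cfsg.centralizerPPrimeCore 2 (X.ι m) := by
    rw [show n' * X.ι q * n'⁻¹ * (X.ι q)⁻¹ = n' * (X.ι q * n'⁻¹ * (X.ι q)⁻¹) by group]
    exact mul_mem h1 ((mem_normalizer_iff.1 (Components.Balance.le_normalizer_centralizerPPrimeCore 2 _ hqc) _).1
      (inv_mem h1))
  have hQ' : X.ι q ∈ X.U ⊔ X.QG := (le_sup_right : X.QG ≤ X.U ⊔ X.QG) ⟨q, hqQ, rfl⟩
  have h3 : n' * X.ι q * n'⁻¹ * (X.ι q)⁻¹ ∈ X.U :=
    X.odd_UQ (mul_mem (X.UQ_normal hn'C hQ') (inv_mem hQ')) (odd_orderOf_core h2)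
  have h4 := X.odd_fix hn'C (odd_orderOf_core h1) hqQ hq1 hqz h3
  have := X.conj_mem_U (inv_mem hc) h4
  rw [hn'] at this
  simpa [mul_assoc] using this

theorem balance {a t : G} (ha : orderOf a = 2) (ht : IsConj t (X.ι z)) (hat : a * t = t * a) :
    Cfsg.centralizerPPrimeCore 2 a ⊓ centralizer ({t} : Set G) ≤ Cfsg.centralizerPPrimeCore 2 t := by
  intro n hn
  obtain ⟨g, hg⟩ := isConj_iff.1 ht
  have h1 : g * n * g⁻¹ ∈ X.U := X.balance_z (a := g * a * g⁻¹) (by rw [Basic.orderOf_conj, ha])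
    (by show g * a * g⁻¹ ∈ centralizer ({X.ι z} : Set G)
        rw [← hg]; exact conj_mem_centralizer (mem_centralizer_singleton_iff.2 hat))
    (Subgroup.mem_inf.2 ⟨conj_mem_core (Subgroup.mem_inf.1 hn).1, by
      show g * n * g⁻¹ ∈ centralizer ({X.ι z} : Set G)
      rw [← hg]; exact conj_mem_centralizer (Subgroup.mem_inf.1 hn).2⟩)
  have h2 := conj_mem_core (g := g⁻¹) h1
  rw [← hg] at h2
  simpa [mul_assoc] using h2

/-- The normal eight-group in `G`. -/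
abbrev AG : Subgroup G := A3.map X.ι

theorem A3_class {x : M} (hx : x ∈ A3) (h1 : x ≠ 1) : isInv x = true ∧ X.K x := by
  have h := all_elts a3_types x
  rw [mem_A3.1 hx, beq_iff_eq, eq_comm] at h
  simp only [Bool.or_eq_true, beq_iff_eq, Bool.and_eq_true] at h
  rcases h with (h | h) | ⟨⟨hi, -⟩, ht⟩
  · exact absurd h h1
  · subst h; exact ⟨inv_z, X.K_z⟩
  · exact ⟨hi, (X.K_iff hi).2 (by omega)⟩

theorem AG_elem {a : G} (ha : a ∈ X.AG) (ha1 : a ≠ 1) : orderOf a = 2 ∧ IsConj a (X.ι z) := by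
  obtain ⟨x, hx, rfl⟩ := ha
  obtain ⟨hi, hk⟩ := X.A3_class hx fun e1 => ha1 (by rw [e1, map_one])
  exact ⟨X.orderOf_ι hi, hk⟩

theorem AG_elementary : Cfsg.IsElementaryAbelian 2 X.AG := by
  refine ⟨⟨⟨?_⟩⟩, ?_⟩
  · rintro ⟨_, x, hx, rfl⟩ ⟨_, y, hy, rfl⟩
    refine Subtype.ext ?_
    show X.ι x * X.ι y = X.ι y * X.ι x
    rw [← map_mul, ← map_mul]
    have h := all_elts a3_comm x
    rw [mem_A3.1 hx] at h
    simp only [Bool.not_true, Bool.false_or] at h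
    have h' := all_elts h y
    rw [mem_A3.1 hy] at h'
    simp only [Bool.not_true, Bool.false_or, beq_iff_eq] at h'
    rw [h']
  · intro a ha
    by_cases h1 : a = 1
    · rw [h1, one_pow]
    · rw [← (X.AG_elem ha h1).1, pow_orderOf_eq_one]

theorem AG_comm {a t : G} (ha : a ∈ X.AG) (ht : t ∈ X.AG) : a * t = t * a :=
  congrArg Subtype.val (X.AG_elementary.1.is_comm.comm (⟨a, ha⟩ : X.AG) ⟨t, ht⟩)

theorem functor : Cfsg.IsSolvableSignalizerFunctor 2 X.AG (Cfsg.centralizerPPrimeCore 2) := by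
  refine ⟨⟨fun a _ _ => map_subtype_le _, fun a _ _ h => ?_, fun a ha ha1 t ht x hx => ?_,
    fun a ha ha1 t ht ht1 => X.balance (X.AG_elem ha ha1).1 (X.AG_elem ht ht1).2 (X.AG_comm ha ht)⟩,
    fun a _ _ => S0205.result (Nat.coprime_two_right.1 (Components.Balance.centralizerPPrimeCore_coprime 2 a))⟩
  · exact (Nat.Prime.coprime_iff_not_dvd Nat.prime_two).1
      (Nat.coprime_comm.1 (Components.Balance.centralizerPPrimeCore_coprime 2 a)) h
  · exact (mem_normalizer_iff.1 (Components.Balance.le_normalizer_centralizerPPrimeCore 2 a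
      (mem_centralizer_singleton_iff.2 (X.AG_comm ht ha))) x).1 hx

/-- The signalizer closure. -/
abbrev W : Subgroup G :=
  ⨆ a : {a : G // a ∈ X.AG ∧ a ≠ 1}, Cfsg.centralizerPPrimeCore 2 (a : G)

theorem W_odd : Odd (Nat.card X.W) := by
  have h := SolvableSignalizer.iSup_mem Nat.prime_two X.AG_elementary (by rw [X.card_map, card_A3]; norm_num)
    X.functor
  exact Nat.odd_iff.2 (Nat.two_dvd_ne_zero.1 h.2.1)

theorem Z0_sub : ∀ x ∈ Z0, x ∈ A3 := by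
  intro x hx
  rw [mem_A3, inA3, mem_Z0.1 hx]; rfl

theorem card_Z0 : Nat.card Z0 = 4 := (card_pred (Z0 : Set M) inZ0 fun _ => Iff.rfl).trans lengths.2.1

theorem Z0_cases {x : M} (hx : x ∈ Z0) : x = 1 ∨ x = z ∨ x = e ∨ x = e' := by
  have h : (elts.all fun y => !inZ0 y || (y == 1 || y == z || y == e || y == e')) = true := by decide +kernel
  have h' := all_elts h x
  rw [mem_Z0.1 hx] at h'
  simpa [or_assoc] using h'

theorem le_W {x : M} (hx : x ∈ A3) (h1 : x ≠ 1) : Cfsg.centralizerPPrimeCore 2 (X.ι x) ≤ X.W :=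
  le_iSup (fun a : {a : G // a ∈ X.AG ∧ a ≠ 1} => Cfsg.centralizerPPrimeCore 2 (a : G))
    ⟨X.ι x, ⟨x, hx, rfl⟩, fun h => h1 (X.inj (h.trans (map_one _).symm))⟩

theorem W_eq : X.W = Cfsg.centralizerPPrimeCore 2 (X.ι z) ⊔ Cfsg.centralizerPPrimeCore 2 (X.ι e) ⊔
    Cfsg.centralizerPPrimeCore 2 (X.ι e') := by
  refine le_antisymm (iSup_le fun a => ?_) (sup_le (sup_le ?_ ?_) ?_)
  · refine SolvableSignalizer.theta_le_of_subgroup Nat.prime_two X.AG_elementary X.functor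
      (E := Z0.map X.ι) (Subgroup.map_mono Z0_sub) ?_ a.2.1 a.2.2 ?_
    · rw [X.card_map, card_Z0]; norm_num
    · rintro _ ⟨x, hx, rfl⟩ h1
      rcases Z0_cases hx with rfl | rfl | rfl | rfl
      · exact absurd (map_one X.ι) h1
      · exact le_sup_of_le_left le_sup_left
      · exact le_sup_of_le_left le_sup_right
      · exact le_sup_right
  · exact X.le_W (mem_A3.2 (by decide +kernel)) (by decide +kernel)
  · exact X.le_W (mem_A3.2 (by decide +kernel)) (by decide +kernel)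
  · exact X.le_W (mem_A3.2 (by decide +kernel)) (by decide +kernel)

/-- The normaliser of the signalizer closure. -/
abbrev MG : Subgroup G := normalizer (X.W : Set G)

theorem mem_MG_of_map_le {g : G} (h : X.W.map (MulAut.conj g).toMonoidHom ≤ X.W) : g ∈ X.MG := by
  have he := Subgroup.eq_of_le_of_card_ge h (le_of_eq (card_map_of_injective (MulAut.conj g).injective).symm)
  refine mem_normalizer_iff.2 fun a => ⟨fun ha => h ⟨a, ha, rfl⟩, fun ha => ?_⟩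
  rw [← he] at ha
  obtain ⟨a', ha', e1⟩ := ha
  rwa [(MulAut.conj g).injective e1] at ha'

theorem normA_le : normalizer (X.AG : Set G) ≤ X.MG := fun g hg => X.mem_MG_of_map_le (by
  rw [Subgroup.map_iSup]
  refine iSup_le fun a => ?_
  rw [← SolvableSignalizer.centralizerPPrimeCore_conj 2]
  exact le_iSup (fun a : {a : G // a ∈ X.AG ∧ a ≠ 1} => Cfsg.centralizerPPrimeCore 2 (a : G))
    ⟨_, (mem_normalizer_iff.1 hg _).1 a.2.1, fun h => a.2.2 (conj_eq_one_iff.1 h)⟩)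

theorem ι_mem_MG (m : M) : X.ι m ∈ X.MG := X.normA_le (mem_normalizer_iff.2 fun y => by
  constructor
  · rintro ⟨x, hx, rfl⟩
    refine ⟨m * x * m⁻¹, ?_, by rw [map_mul, map_mul, map_inv]⟩
    have h := all_elts (all_elts a3_normal m) x
    rw [mem_A3.1 hx] at h
    exact mem_A3.2 (by simpa using h)
  · rintro ⟨x, hx, e1⟩
    refine ⟨m⁻¹ * x * m, ?_, by rw [map_mul, map_mul, map_inv, e1]; group⟩
    have h := all_elts (all_elts a3_normal m⁻¹) x
    rw [mem_A3.1 hx, inv_inv] at h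
    exact mem_A3.2 (by simpa using h))

theorem U_le_W : X.U ≤ X.W := X.le_W (mem_A3.2 (by decide +kernel)) (by decide +kernel)

theorem C_le_MG : X.C ≤ X.MG := by
  intro x hx
  obtain ⟨a, ha, n, hn, hnQ, rfl⟩ := X.C_split hx
  exact mul_mem (le_normalizer (X.U_le_W ha)) (X.normA_le (X.norm_A3 hn hnQ))

theorem swap_mem {g : G} (h1 : g * X.ι e * g⁻¹ = X.ι z) (h2 : g * X.ι z * g⁻¹ = X.ι e) : g ∈ X.MG := by
  refine X.mem_MG_of_map_le ?_
  conv_lhs => rw [W_eq, Subgroup.map_sup, Subgroup.map_sup, ← SolvableSignalizer.centralizerPPrimeCore_conj 2,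
    ← SolvableSignalizer.centralizerPPrimeCore_conj 2, ← SolvableSignalizer.centralizerPPrimeCore_conj 2]
  have hze : g * X.ι e' * g⁻¹ = X.ι e' := by
    rw [show (e' : M) = z * e from rfl, map_mul, show g * (X.ι z * X.ι e) * g⁻¹ =
      g * X.ι z * g⁻¹ * (g * X.ι e * g⁻¹) by group, h1, h2, ← map_mul, ← map_mul, Mdl.zE_central e]
  rw [h1, h2, hze, X.W_eq, sup_comm (Cfsg.centralizerPPrimeCore 2 (X.ι e))]

theorem conj_in_S {x : M} (hx : isInv x = true) : ∃ m ∈ X.MG, m * X.ι x * m⁻¹ = X.ι (rep (typ x)) := by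
  obtain ⟨s, hs⟩ := isConj_iff.1 (typ_spec hx).1
  exact ⟨X.ι s, X.ι_mem_MG s, by rw [← map_inv, ← map_mul, ← map_mul, hs]⟩

theorem toz {x : M} (hx : isInv x = true) (hK : X.K x) : ∃ m ∈ X.MG, m * X.ι x * m⁻¹ = X.ι z := by
  obtain ⟨g, g1, g2, g3⟩ := X.exists_swap
  have hgM := X.swap_mem g1 g2
  have h15 : ∀ y, isInv y = true → typ y = 1 ∨ typ y = 5 → ∃ m ∈ X.MG, m * X.ι y * m⁻¹ = X.ι z := by
    intro y hy ht
    obtain ⟨s, hs, hse⟩ := X.conj_in_S hy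
    rcases ht with t | t <;> rw [t] at hse
    · refine ⟨g * s, mul_mem hgM hs, ?_⟩
      rw [show g * s * X.ι y * (g * s)⁻¹ = g * (s * X.ι y * s⁻¹) * g⁻¹ by group, hse]; exact g1
    · obtain ⟨f, hf, hfe, -⟩ := X.move_to_e (x := w1) (c := u) (d := e) X.hw1 (mem_cent.2 (by decide +kernel))
        (mem_cent.2 (by decide +kernel)) (by decide +kernel) (by decide +kernel)
      refine ⟨g * f * s, mul_mem (mul_mem hgM (X.C_le_MG hf)) hs, ?_⟩
      rw [show g * f * s * X.ι y * (g * f * s)⁻¹ = g * (f * (s * X.ι y * s⁻¹) * f⁻¹) * g⁻¹ by group, hse]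
      show g * (f * X.ι w1 * f⁻¹) * g⁻¹ = _
      rw [hfe, g1]
  rcases (X.K_iff hx).1 hK with t | t | t | ⟨t, hk⟩
  · exact ⟨1, one_mem _, by rw [(typ_spec hx).2.2.1 t]; group⟩
  · exact h15 x hx (Or.inl t)
  · exact h15 x hx (Or.inr t)
  · obtain ⟨y, hy, m, hm, t6, e1⟩ := X.swap_w2 g1 g2 g3
    have hKy : X.K y := (X.K_w2_iff hm t6 e1).1 hk
    have hy1 : y = w1 := hy.resolve_left fun h => X.hw0 (h ▸ hKy)
    subst hy1
    obtain ⟨k, hk', hke⟩ := h15 w1 inv_w1 (Or.inr typ_reps.2.2.2.2.2.1)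
    obtain ⟨s, hs, hse⟩ := X.conj_in_S hm
    obtain ⟨s', hs', hse'⟩ := X.conj_in_S hx
    rw [t6] at hse; rw [t] at hse'
    refine ⟨k * g⁻¹ * s⁻¹ * s', mul_mem (mul_mem (mul_mem hk' (inv_mem hgM)) (inv_mem hs)) hs', ?_⟩
    rw [show k * g⁻¹ * s⁻¹ * s' * X.ι x * (k * g⁻¹ * s⁻¹ * s')⁻¹ =
      k * (g⁻¹ * (s⁻¹ * (s' * X.ι x * s'⁻¹) * s) * g) * k⁻¹ by group, hse', ← hse, e1, ← hke]
    group

theorem tob {x : M} (hx : isInv x = true) (hK : ¬ X.K x) : ∃ m ∈ X.MG, m * X.ι x * m⁻¹ = X.ι w0 := by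
  have h234 : ∀ y, isInv y = true → ¬ X.K y → typ y = 2 ∨ typ y = 3 ∨ typ y = 4 →
      ∃ m ∈ X.MG, m * X.ι y * m⁻¹ = X.ι w0 := by
    intro y hy hk ht
    obtain ⟨c, hc, hce, -⟩ := X.conj_C_of_not_K hy inv_w0 ht (Or.inr (Or.inr typ_reps.2.2.2.2.1)) hk X.hw0
    exact ⟨c, X.C_le_MG hc, hce⟩
  have h := hK
  rw [X.K_iff hx] at h
  push Not at h
  have h6 := (typ_spec hx).2.1
  by_cases t : typ x = 6
  · obtain ⟨g, g1, g2, g3⟩ := X.exists_swap
    have hgM := X.swap_mem g1 g2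
    obtain ⟨y, hy, m, hm, t6, e1⟩ := X.swap_w2 g1 g2 g3
    have hKy : ¬ X.K y := fun hk => h.2.2.2 t ((X.K_w2_iff hm t6 e1).2 hk)
    have hy0 : y = w0 := hy.resolve_right fun e0 => hKy (e0 ▸ X.hw1)
    subst hy0
    obtain ⟨s, hs, hse⟩ := X.conj_in_S hm
    obtain ⟨s', hs', hse'⟩ := X.conj_in_S hx
    rw [t6] at hse; rw [t] at hse'
    refine ⟨g⁻¹ * s⁻¹ * s', mul_mem (mul_mem (inv_mem hgM) (inv_mem hs)) hs', ?_⟩
    rw [show g⁻¹ * s⁻¹ * s' * X.ι x * (g⁻¹ * s⁻¹ * s')⁻¹ =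
      g⁻¹ * (s⁻¹ * (s' * X.ι x * s'⁻¹) * s) * g by group, hse', ← hse,
      show g⁻¹ * (s⁻¹ * (s * X.ι m * s⁻¹) * s) * g = g⁻¹ * X.ι m * g by group, e1]
    group
  · exact h234 x hx hK (by omega)

theorem into_S_MG {t : G} (ht : t ∈ X.MG) (ht2 : orderOf t = 2) :
    ∃ m ∈ X.MG, ∃ x : M, isInv x = true ∧ X.ι x = m * t * m⁻¹ := by
  have hz : IsPGroup 2 ↥(zpowers t) := IsPGroup.of_card (n := 1) (by rw [Nat.card_zpowers, ht2, pow_one])
  obtain ⟨m, hm, hmem⟩ := exists_conj_into (T := (⊤ : Subgroup M).map X.ι) (H := X.MG) (X.range_pgroup _)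
    (by rintro _ ⟨a, -, rfl⟩; exact X.ι_mem_MG a)
    (fun R hR _ _ => by
      rw [X.card_map, card_top, Mdl.card_eq]; exact X.card_le_sixtyfour hR) hz (zpowers_le.2 ht)
  obtain ⟨x, -, hx⟩ := hmem t (mem_zpowers t)
  exact ⟨m, hm, x, X.isInv_of_orderOf (by rw [hx, Basic.orderOf_conj, ht2]), hx⟩

theorem toz_M {t : G} (ht : t ∈ X.MG) (hK : IsConj t (X.ι z)) : ∃ m ∈ X.MG, m * t * m⁻¹ = X.ι z := by
  have ht2 : orderOf t = 2 := by
    obtain ⟨g, hg⟩ := isConj_iff.1 hK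
    rw [← Basic.orderOf_conj g t, hg]; exact X.orderOf_ι inv_z
  obtain ⟨m, hm, x, hx, e1⟩ := X.into_S_MG ht ht2
  have hKx : X.K x := (isConj_iff.2 ⟨m, e1.symm⟩ : IsConj t (X.ι x)).symm.trans hK
  obtain ⟨k, hk, e2⟩ := X.toz hx hKx
  refine ⟨k * m, mul_mem hk hm, ?_⟩
  rw [← e2, e1]; group

theorem fuse {t : G} (ht : t ∈ X.MG) (hK : IsConj t (X.ι z)) {g : G} (hg : g * t * g⁻¹ ∈ X.MG) :
    g ∈ X.MG := by
  obtain ⟨m, hm, e1⟩ := X.toz_M ht hK
  obtain ⟨k, hk, e2⟩ := X.toz_M hg ((isConj_iff.2 ⟨g, rfl⟩ : IsConj t (g * t * g⁻¹)).symm.trans hK)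
  have hC : k * g * m⁻¹ ∈ X.C := by
    refine mem_centralizer_singleton_iff.2 ?_
    calc k * g * m⁻¹ * X.ι z = k * g * m⁻¹ * (m * t * m⁻¹) := by rw [e1]
      _ = k * (g * t * g⁻¹) * k⁻¹ * (k * g * m⁻¹) := by group
      _ = _ := by rw [e2]
  have := mul_mem (mul_mem (inv_mem hk) (X.C_le_MG hC)) hm
  simpa [mul_assoc] using this

theorem cent_le_MG {t : G} (ht : t ∈ X.MG) (hK : IsConj t (X.ι z)) : centralizer ({t} : Set G) ≤ X.MG :=
  fun g hg => X.fuse ht hK (by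
    rw [mem_centralizer_singleton_iff.1 hg, mul_inv_cancel_right]; exact ht)

end Ctx

end Cfsg.Agent.M12Sylow
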