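import Cfsg.Agent.Lib.M12Sylow.Signal
import Cfsg.Agent.S3344
import Cfsg.Agent.Lib.LargeExtra.Affine
import Cfsg.Agent.Lib.JComp.Pair

/-!
The normaliser of the signalizer closure modulo that closure, identified through the centraliser of the
image of `z`.
-/

set_option autoImplicit false
set_option linter.unusedSectionVars false

namespace Cfsg.Agent.M12Sylow

open Cfsg.Agent.G2Type
open Subgroup
open Cfsg.Agent.Involutions

universe w

variable {G : Type w} [Group G] [Finite G]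

namespace Ctx

variable (X : Ctx G)

/-- The quotient. -/
abbrev Mq : Type w := ↥X.MG ⧸ X.W.subgroupOf X.MG

/-- The projection. -/
abbrev pr : ↥X.MG →* X.Mq := QuotientGroup.mk' (X.W.subgroupOf X.MG)

/-- The model in the quotient. -/
def ιq : M →* X.Mq := X.pr.comp (X.ι.codRestrict X.MG X.ι_mem_MG)

theorem pr_eq_one {x : X.MG} : X.pr x = 1 ↔ (x : G) ∈ X.W := by
  rw [QuotientGroup.mk'_apply, QuotientGroup.eq_one_iff]; rfl

theorem pr_eq {x y : X.MG} : X.pr x = X.pr y ↔ (x : G)⁻¹ * y ∈ X.W := by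
  rw [QuotientGroup.mk'_apply, QuotientGroup.mk'_apply, QuotientGroup.eq]; rfl

theorem ιq_inj : Function.Injective X.ιq := by
  rw [injective_iff_map_eq_one]
  intro m hm
  exact X.ι_eq_one_of_mem X.W_odd ((X.pr_eq_one).1 hm)

theorem W_inf_C : ∀ x ∈ X.W, x ∈ X.C → x ∈ X.U := by
  intro x hx hxC
  have h := SolvableSignalizer.iSup_mem Nat.prime_two X.AG_elementary (by rw [X.card_map, card_A3]; norm_num)
    X.functor
  exact h.2.2.2 (X.ι z) ⟨z, mem_A3.2 (by decide +kernel), rfl⟩ (Basic.ne_one (X.orderOf_ι inv_z))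
    (Subgroup.mem_inf.2 ⟨hx, hxC⟩)

/-- An element whose image commutes with that of an involution of the model is one commuting with it,
up to the kernel. -/
theorem lift_cent {x : M} (hx : isInv x = true) {y : X.MG} (h : X.pr y * X.ιq x = X.ιq x * X.pr y) :
    ∃ y' : X.MG, X.pr y' = X.pr y ∧ (y' : G) ∈ centralizer ({X.ι x} : Set G) := by
  have hox : orderOf (X.ι x) = 2 := X.orderOf_ι hx
  have hmem : (y : G) * X.ι x * (y : G)⁻¹ * X.ι x ∈ X.W := by
    have e : X.pr (y * ⟨X.ι x, X.ι_mem_MG x⟩ * y⁻¹ * ⟨X.ι x, X.ι_mem_MG x⟩) = 1 := by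
      rw [map_mul, map_mul, map_mul, map_inv]
      show X.pr y * X.ιq x * (X.pr y)⁻¹ * X.ιq x = 1
      rw [h, mul_inv_cancel_right, ← map_mul, (isInv_iff.1 hx).1, map_one]
    exact X.pr_eq_one.1 e
  obtain ⟨d, hd, hde⟩ := exists_conj_of_congr X.W_odd (s := (y : G) * X.ι x * (y : G)⁻¹)
    (by rw [Basic.orderOf_conj, hox]) hox hmem
  refine ⟨⟨d * y, mul_mem (le_normalizer hd) y.2⟩, ?_, ?_⟩
  · rw [show (⟨d * (y : G), mul_mem (le_normalizer hd) y.2⟩ : X.MG) =
      (⟨d, le_normalizer hd⟩ : X.MG) * y from rfl, map_mul, (X.pr_eq_one).2 hd, one_mul]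
  · refine mem_centralizer_singleton_iff.2 (mul_inv_eq_iff_eq_mul.1 ?_)
    show d * (y : G) * X.ι x * (d * (y : G))⁻¹ = X.ι x
    conv_rhs => rw [← hde]
    group

/-- The centraliser of the image of `z`. -/
abbrev L : Subgroup X.Mq := centralizer ({X.ιq z} : Set X.Mq)

/-- The projection on centralisers. -/
def prC : ↥X.C →* ↥X.L :=
  (X.pr.comp (Subgroup.inclusion X.C_le_MG)).codRestrict X.L fun c => by
    rw [mem_centralizer_singleton_iff]
    show X.pr ⟨c, X.C_le_MG c.2⟩ * X.pr ⟨X.ι z, X.ι_mem_MG z⟩ = X.pr ⟨X.ι z, X.ι_mem_MG z⟩ * X.pr ⟨c, X.C_le_MG c.2⟩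
    rw [← map_mul, ← map_mul]
    exact congrArg X.pr (Subtype.ext (mem_centralizer_singleton_iff.1 c.2))

theorem prC_surjective : Function.Surjective X.prC := by
  rintro ⟨l, hl⟩
  obtain ⟨y, rfl⟩ := QuotientGroup.mk'_surjective (X.W.subgroupOf X.MG) l
  obtain ⟨y', h1, h2⟩ := X.lift_cent (x := z) inv_z (mem_centralizer_singleton_iff.1 hl)
  exact ⟨⟨y', h2⟩, Subtype.ext h1⟩

theorem prC_eq_one {c : X.C} : X.prC c = 1 ↔ (c : G) ∈ X.U :=
  ⟨fun h => X.W_inf_C _ (X.pr_eq_one.1 (congrArg Subtype.val h)) c.2,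
    fun h => Subtype.ext (X.pr_eq_one.2 (X.U_le_W h))⟩

theorem L_card : Nat.card X.L = 192 := by
  have h := X.prC.ker.card_eq_card_quotient_mul_card_subgroup
  rw [Nat.card_congr (QuotientGroup.quotientKerEquivOfSurjective _ X.prC_surjective).toEquiv] at h
  have hk : Nat.card X.prC.ker = Nat.card X.U := by
    rw [show X.prC.ker = X.U.subgroupOf X.C from Subgroup.ext fun c => X.prC_eq_one,
      Nat.card_congr (subgroupOfEquivOfLe X.U_le).toEquiv]
  rw [X.C_card, hk] at h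
  exact (Nat.eq_of_mul_eq_mul_right Nat.card_pos h).symm

/-- `Q` in the centraliser. -/
def ιL : ↥Q →* ↥X.L := X.prC.comp ((X.ι.comp Q.subtype).codRestrict X.C fun q => X.ι_mem_C q)

theorem ιL_coe (q : ↥Q) : ((X.ιL q : X.L) : X.Mq) = X.ιq q := rfl

theorem ιL_inj : Function.Injective X.ιL := fun p q h =>
  Subtype.ext (X.ιq_inj (congrArg Subtype.val h))

theorem range_ιL_normal : (X.ιL).range.Normal := by
  refine ⟨fun x hx g => ?_⟩
  obtain ⟨q, rfl⟩ := hx
  obtain ⟨c, rfl⟩ := X.prC_surjective g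
  obtain ⟨a, ha, n, hn, hnQ, hc⟩ := X.C_split c.2
  obtain ⟨q', hq', e⟩ := (mem_normalizer_iff.1 hnQ _).1 (show X.ι q ∈ X.QG from ⟨q, q.2, rfl⟩)
  refine ⟨⟨q', hq'⟩, Subtype.ext ?_⟩
  have hca : X.prC c = X.prC ⟨n, hn⟩ := by
    rw [show c = (⟨a, X.U_le ha⟩ : X.C) * ⟨n, hn⟩ from Subtype.ext hc, map_mul,
      (X.prC_eq_one (c := ⟨a, X.U_le ha⟩)).2 ha, one_mul]
  rw [hca]
  exact congrArg X.pr (Subtype.ext e)

/-- The hypotheses of the characterisation by the centraliser of an involution. -/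
theorem mq_cases :
    (∃ (N : Subgroup X.Mq) (hN : N.Normal), IsMulCommutative N ∧ (∀ n ∈ N, n ^ 2 = 1) ∧ Nat.card N = 8 ∧
        Nonempty (X.Mq ⧸ N ≃* Matrix.ProjectiveSpecialLinearGroup (Fin 3) (ZMod 2))) ∨
    Nonempty (X.Mq ≃* alternatingGroup (Fin 8)) ∨ Nonempty (X.Mq ≃* alternatingGroup (Fin 9)) ∨
      Cfsg.Spor.IsoM12 X.Mq := by
  have hp : Fact (Nat.Prime 2) := ⟨Nat.prime_two⟩
  have h3 : Fact (Nat.Prime 3) := ⟨Nat.prime_three⟩
  set R := (X.ιL).range with hR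
  have hRn : R.Normal := X.range_ιL_normal
  have hRcard : Nat.card R = 32 := by
    rw [hR, ← Nat.card_congr (MonoidHom.ofInjective X.ιL_inj).toEquiv, card_Q]
  have hR2 : IsPGroup 2 R := IsPGroup.of_card (n := 5) (by rw [hRcard]; norm_num)
  -- the images of `w2` and of the moving element
  obtain ⟨g, hg, hgnot⟩ := X.exists_noncomm
  set wL := X.prC ⟨X.ι w2, X.ι_mem_C w2⟩ with hwL
  set gL := X.prC ⟨g, hg⟩ with hgL
  have hcommnot : gL * wL * gL⁻¹ * wL⁻¹ ∉ R := by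
    rintro ⟨q, hq⟩
    have h1 : X.prC (⟨g, hg⟩ * ⟨X.ι w2, X.ι_mem_C w2⟩ * ⟨g, hg⟩⁻¹ * (⟨X.ι w2, X.ι_mem_C w2⟩ : X.C)⁻¹ *
        (⟨X.ι q, X.ι_mem_C q⟩ : X.C)⁻¹) = 1 := by
      rw [map_mul, map_mul, map_mul, map_mul, map_inv, map_inv, map_inv, mul_inv_eq_one]
      exact hq.symm
    have h2 : g * X.ι w2 * g⁻¹ * (X.ι w2)⁻¹ * (X.ι q)⁻¹ ∈ X.U := (X.prC_eq_one).1 h1
    apply hgnot
    have h3 := mul_mem ((le_sup_left : X.U ≤ X.U ⊔ X.QG) h2)
      ((le_sup_right : X.QG ≤ X.U ⊔ X.QG) (⟨q, q.2, rfl⟩ : X.ι q ∈ X.QG))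
    rwa [inv_mul_cancel_right] at h3
  have hcore : Cfsg.pCore 2 X.L = R := by
    refine le_antisymm ?_ (Cores.le_pCore hR2)
    intro x hx
    by_contra hxR
    have hle : R ≤ Cfsg.pCore 2 X.L := Cores.le_pCore hR2
    obtain ⟨n, hn⟩ := IsPGroup.iff_card.1 (Cores.pCore_isPGroup (G := X.L) 2)
    have hdvd : 2 ^ n ∣ 192 := by
      rw [← hn, ← X.L_card]; exact card_subgroup_dvd_card _
    have hlt : 32 < 2 ^ n := by
      rw [← hn, ← hRcard]
      refine lt_of_le_of_ne (card_le_of_le hle) fun h => hxR ?_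
      rw [Subgroup.eq_of_le_of_card_ge hle h.ge]; exact hx
    have hn6 : n = 6 := by
      have h7 : n < 7 := by
        by_contra h
        push Not at h
        have := (pow_dvd_pow 2 h).trans hdvd
        norm_num at this
      interval_cases n <;> omega
    subst hn6
    -- the core is then the only Sylow subgroup
    set P := Cfsg.pCore 2 X.L
    have hPn : P.Normal := Cores.pCore_normal 2
    have hall : ∀ y : X.L, y * y = 1 → y ∈ P := by
      intro y hy
      have hz : IsPGroup 2 ↥(zpowers y) := by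
        obtain ⟨j, -, hj⟩ := (Nat.dvd_prime_pow Nat.prime_two).1
          (orderOf_dvd_of_pow_eq_one (show y ^ 2 ^ 1 = 1 by rw [pow_one, pow_two, hy]))
        exact IsPGroup.of_card (n := j) (by rw [Nat.card_zpowers, hj])
      have hsup : IsPGroup 2 ↥(P ⊔ zpowers y) :=
        IsPGroup.to_sup_of_normal_left' (IsPGroup.of_card hn) hz (by rw [normalizer_eq_top_iff.2 hPn]; exact le_top)
      obtain ⟨j, hj⟩ := IsPGroup.iff_card.1 hsup
      have hd : 2 ^ j ∣ 192 := by rw [← hj, ← X.L_card]; exact card_subgroup_dvd_card _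
      have he : P = P ⊔ zpowers y := by
        refine Subgroup.eq_of_le_of_card_ge le_sup_left ?_
        rw [hj, hn]
        by_contra h
        push Not at h
        have h7 : 7 ≤ j := (Nat.pow_lt_pow_iff_right (by norm_num)).1 h
        have := (pow_dvd_pow 2 h7).trans hd
        norm_num at this
      rw [he]; exact (le_sup_right : zpowers y ≤ P ⊔ zpowers y) (mem_zpowers y)
    have hw : wL ∈ P := hall _ (by rw [hwL, ← map_mul]; exact (congrArg X.prC (Subtype.ext (by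
      show X.ι w2 * X.ι w2 = 1
      rw [← map_mul, (isInv_iff.1 inv_w2).1, map_one]))).trans (map_one _))
    have hgw : gL * wL * gL⁻¹ ∈ P := hPn.conj_mem _ hw _
    have hwR : wL ∉ R := by
      rintro ⟨q, hq⟩
      have := congrArg Subtype.val hq
      have e1 : X.ιq (q : M) = X.ιq w2 := this
      exact absurd (X.ιq_inj e1 ▸ M12Sylow.mem_Q.1 q.2) (by decide +kernel)
    have hidx : (R.subgroupOf P).index = 2 := by
      have h := (R.subgroupOf P).card_mul_index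
      rw [Nat.card_congr (subgroupOfEquivOfLe hle).toEquiv, hRcard, hn] at h
      omega
    have hm := Subgroup.mul_mem_iff_of_index_two hidx (a := (⟨gL * wL * gL⁻¹, hgw⟩ : P))
      (b := (⟨wL, hw⟩ : P)⁻¹)
    refine hcommnot (hm.2 (iff_of_false (fun h => hwR ?_) fun h => hwR ?_))
    · have h' := hRn.conj_mem _ (h : gL * wL * gL⁻¹ ∈ R) gL⁻¹
      simpa [mul_assoc] using h'
    · have h' : wL⁻¹ ∈ R := h
      simpa using inv_mem h'
  have hQeq : (Cfsg.pCore 2 X.L).map X.L.subtype = (X.L.subtype.comp X.ιL).range := by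
    rw [hcore, MonoidHom.range_comp]
  set Qb := (X.L.subtype.comp X.ιL).range with hQb
  have hQcard : Nat.card Qb = 32 := by
    rw [hQb, MonoidHom.range_comp, card_map_of_injective X.L.subtype_injective]; exact hRcard
  have mz : z ∈ Q := M12Sylow.mem_Q.2 (by decide +kernel)
  have hext : Cfsg.IsExtraspecial 2 Qb := by
    refine LargeExtra.Affine.isExtraspecial_mk (z := X.ιq z) (IsPGroup.of_card (n := 5) (by rw [hQcard]; norm_num))
      ⟨⟨z, mz⟩, rfl⟩ (fun h => Mdl.zE_ne (X.ιq_inj (h.trans (map_one _).symm))) ?_ ?_ ?_ ?_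
    · rintro _ ⟨q, rfl⟩
      show X.ιq q * X.ιq z = X.ιq z * X.ιq q
      rw [← map_mul, ← map_mul, show (q : M) * z = z * q from (Mdl.zE_central _).symm]
    · rintro _ ⟨q, rfl⟩
      show X.ιq q * X.ιq q = 1 ∨ X.ιq q * X.ιq q = X.ιq z
      have h := all_elts q_sq (q : M)
      rw [M12Sylow.mem_Q.1 q.2] at h
      simp only [Bool.not_true, Bool.false_or, Bool.or_eq_true, beq_iff_eq] at h
      rw [← map_mul]
      rcases h with h | h <;> rw [h]
      exacts [Or.inl (map_one _), Or.inr rfl]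
    · rintro _ ⟨q, rfl⟩ hy
      have h := all_elts q_center (q : M)
      rw [M12Sylow.mem_Q.1 q.2] at h
      simp only [Bool.not_true, Bool.false_or, Bool.or_eq_true, beq_iff_eq, Bool.not_eq_true'] at h
      show X.ιq q = 1 ∨ X.ιq q = X.ιq z
      rcases h with (h | h) | h
      · exact Or.inl (by rw [h, map_one])
      · exact Or.inr (by rw [h])
      · exfalso
        rw [Bool.eq_false_iff] at h
        refine h (List.all_eq_true.2 fun y hym => beq_iff_eq.2 (X.ιq_inj ?_))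
        have := hy (X.ιq y) ⟨⟨y, M12Sylow.mem_Q.2 (List.mem_filter.1 hym).2⟩, rfl⟩
        rw [map_mul, map_mul]
        exact this.symm
    · refine ⟨_, ⟨⟨u, M12Sylow.mem_Q.2 (by decide +kernel)⟩, rfl⟩, _,
        ⟨⟨e, M12Sylow.mem_Q.2 (by decide +kernel)⟩, rfl⟩, fun h => ?_⟩
      have h' : X.ιq e * X.ιq u = X.ιq u * X.ιq e := h
      rw [← map_mul, ← map_mul] at h'
      exact absurd (X.ιq_inj h') (by decide +kernel)
  have hqcard : Nat.card (X.L ⧸ Cfsg.pCore 2 X.L) = 6 := by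
    have h := (Cfsg.pCore 2 X.L).card_eq_card_quotient_mul_card_subgroup
    rw [X.L_card, hcore, hRcard] at h
    rw [hcore]
    omega
  obtain ⟨e3⟩ := JComp.mul_equiv_perm_three hqcard ⟨(gL : X.L ⧸ Cfsg.pCore 2 X.L), (wL : X.L ⧸ Cfsg.pCore 2 X.L), fun h => by
    apply hcommnot
    have h1 : ((gL * wL : X.L) : X.L ⧸ Cfsg.pCore 2 X.L) = ((wL * gL : X.L) : X.L ⧸ Cfsg.pCore 2 X.L) := h
    rw [QuotientGroup.eq, hcore] at h1
    have h2 := hRn.conj_mem _ (inv_mem h1) (wL * gL)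
    simpa [mul_assoc] using h2⟩
  obtain ⟨T⟩ : Nonempty (Sylow 3 X.L) := inferInstance
  refine S3344.result (X.ιq z) ?_ X.L rfl Qb (hQeq.symm) hext hQcard e3 T ?_ ?_
  · exact orderOf_eq_prime (by rw [pow_two, ← map_mul, show (z : M) * z = 1 from Mdl.zE_sq, map_one])
      fun h => Mdl.zE_ne (X.ιq_inj (h.trans (map_one _).symm))
  · -- a Sylow 3-subgroup fixes only `⟨z⟩`
    refine le_antisymm ?_ (zpowers_le.2 (Subgroup.mem_inf.2 ⟨⟨⟨z, mz⟩, rfl⟩, ?_⟩))
    · intro x hx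
      obtain ⟨⟨q, rfl⟩, hxT⟩ := Subgroup.mem_inf.1 hx
      change X.ιq q ∈ _
      by_cases h1 : (q : M) = 1
      · rw [h1, map_one]; exact one_mem _
      by_cases hz : (q : M) = z
      · rw [hz]; exact mem_zpowers _
      exfalso
      obtain ⟨t, ht, ht3⟩ : ∃ t ∈ (T : Subgroup X.L), orderOf t = 3 := by
        have hd : 3 ∣ Nat.card (T : Subgroup X.L) :=
          T.dvd_card_of_dvd_card (by rw [X.L_card]; norm_num)
        obtain ⟨⟨t, ht⟩, e⟩ := exists_prime_orderOf_dvd_card' 3 hd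
        exact ⟨t, ht, by simpa using e⟩
      obtain ⟨c, rfl⟩ := X.prC_surjective t
      -- replace by the odd part
      obtain ⟨k, m, hm, hkm⟩ := Nat.exists_eq_two_pow_mul_odd (orderOf_pos c).ne'
      have hco : Odd (orderOf (c ^ 2 ^ k)) := by
        rw [orderOf_pow' c (by positivity), hkm, Nat.gcd_eq_right (dvd_mul_right _ _), Nat.mul_div_cancel_left _ (by positivity)]
        exact hm
      have hcomm : X.prC c * X.ιL q = X.ιL q * X.prC c :=
        Subtype.ext (mem_centralizer_iff.1 hxT _ ⟨_, ht, rfl⟩)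
      have hc2 : X.prC (c ^ 2 ^ k) * X.ιL q = X.ιL q * X.prC (c ^ 2 ^ k) := by
        rw [map_pow]; exact (Commute.pow_left hcomm _).eq
      have hU : ((c ^ 2 ^ k : X.C) : G) ∈ X.U := by
        refine X.odd_fix (c ^ 2 ^ k).2 (by rw [Subgroup.orderOf_coe]; exact hco) q.2 h1 hz ?_
        refine (X.prC_eq_one (c := (c ^ 2 ^ k) * ⟨X.ι q, X.ι_mem_C q⟩ * (c ^ 2 ^ k)⁻¹ *
          (⟨X.ι q, X.ι_mem_C q⟩ : X.C)⁻¹)).1 ?_
        rw [map_mul, map_mul, map_mul, map_inv, map_inv]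
        change X.prC (c ^ 2 ^ k) * X.ιL q * (X.prC (c ^ 2 ^ k))⁻¹ * (X.ιL q)⁻¹ = 1
        rw [hc2]; group
      have h0 := (X.prC_eq_one).2 hU
      rw [map_pow] at h0
      have hd := orderOf_dvd_of_pow_eq_one h0
      rw [ht3] at hd
      exact absurd ((Nat.prime_three.dvd_of_dvd_pow hd)) (by norm_num)
    · rw [mem_centralizer_iff]
      rintro _ ⟨t, -, rfl⟩
      exact mem_centralizer_singleton_iff.1 t.2
  · obtain ⟨g', g1, g2, -⟩ := X.exists_swap
    refine ⟨X.pr ⟨g', X.swap_mem g1 g2⟩, ⟨⟨e, M12Sylow.mem_Q.2 (by decide +kernel)⟩, ?_⟩, fun h => ?_⟩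
    · show X.pr ⟨X.ι e, X.ι_mem_MG e⟩ = _ * X.pr ⟨X.ι z, X.ι_mem_MG z⟩ * _
      rw [← map_inv, ← map_mul, ← map_mul]
      exact congrArg X.pr (Subtype.ext g2.symm)
    · have h' : X.ιq e = X.ιq z := by
        rw [← h]
        show X.pr ⟨X.ι e, X.ι_mem_MG e⟩ = _ * X.pr ⟨X.ι z, X.ι_mem_MG z⟩ * _
        rw [← map_inv, ← map_mul, ← map_mul]
        exact congrArg X.pr (Subtype.ext g2.symm)
      exact Mdl.eE_ne_zE (X.ιq_inj h')

theorem no_order_eight_alt {n : ℕ} (hn : n ≤ 9) (σ : alternatingGroup (Fin n)) : orderOf σ ≠ 8 := by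
  intro h
  set p : Equiv.Perm (Fin n) := (σ : Equiv.Perm (Fin n))
  have hp : orderOf p = 8 := by rw [Subgroup.orderOf_coe, h]
  have hsign : Equiv.Perm.sign p = 1 := Equiv.Perm.mem_alternatingGroup.1 σ.2
  have hlcm := Equiv.Perm.lcm_cycleType p
  rw [hp] at hlcm
  have hsum : p.cycleType.sum ≤ 9 := by
    rw [Equiv.Perm.sum_cycleType]
    exact (Finset.card_le_univ _).trans (by simpa using hn)
  have hdvd : ∀ m ∈ p.cycleType, m ∣ 8 := fun m hm => hlcm ▸ Multiset.dvd_lcm hm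
  have h8 : 8 ∈ p.cycleType := by
    by_contra hno
    have h4 : p.cycleType.lcm ∣ 4 := Multiset.lcm_dvd.2 fun m hm => by
      have hm' := (Nat.dvd_prime_pow Nat.prime_two).1 (show m ∣ 2 ^ 3 from hdvd m hm)
      obtain ⟨j, hj, rfl⟩ := hm'
      have : j ≠ 3 := by rintro rfl; exact hno hm
      exact (pow_dvd_pow 2 (show j ≤ 2 by omega))
    rw [hlcm] at h4
    norm_num at h4
  obtain ⟨rest, hrest⟩ := Multiset.exists_cons_of_mem h8
  rw [hrest, Multiset.sum_cons] at hsum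
  have h0 : rest = 0 := by
    rw [Multiset.eq_zero_iff_forall_notMem]
    intro m hm
    have h2 : 2 ≤ m := Equiv.Perm.two_le_of_mem_cycleType (hrest ▸ Multiset.mem_cons_of_mem hm)
    have := Multiset.le_sum_of_mem hm
    omega
  rw [Equiv.Perm.sign_of_cycleType, hrest, h0] at hsign
  simp at hsign
  exact absurd hsign (by decide)

theorem exists_eight : ∃ x : M, orderOf x = 8 := by
  obtain ⟨x, h1, h2⟩ := exists_order_eight
  refine ⟨x, orderOf_eq_prime_pow (p := 2) (n := 2) ?_ ?_⟩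
  · rw [show (2 : ℕ) ^ 2 = 2 * 2 from rfl, pow_mul, pow_two, pow_two]; exact h1
  · rw [show (2 : ℕ) ^ (2 + 1) = 2 * 2 * 2 from rfl, pow_mul, pow_mul, pow_two, pow_two, pow_two]; exact h2

/-- The two possible quotients. -/
theorem mq_two :
    (∃ (N : Subgroup X.Mq) (_ : N.Normal), IsMulCommutative N ∧ (∀ n ∈ N, n ^ 2 = 1) ∧ Nat.card N = 8) ∨
      Cfsg.Spor.IsoM12 X.Mq := by
  obtain ⟨x, hx⟩ := exists_eight
  have hq : orderOf (X.ιq x) = 8 := by rw [orderOf_injective X.ιq X.ιq_inj, hx]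
  rcases X.mq_cases with ⟨N, hN, h1, h2, h3, -⟩ | ⟨⟨e8⟩⟩ | ⟨⟨e9⟩⟩ | h
  · exact Or.inl ⟨N, hN, h1, h2, h3⟩
  · exact absurd (by rw [MulEquiv.orderOf_eq, hq]) (no_order_eight_alt (n := 8) (by norm_num) (e8 (X.ιq x)))
  · exact absurd (by rw [MulEquiv.orderOf_eq, hq]) (no_order_eight_alt (n := 9) le_rfl (e9 (X.ιq x)))
  · exact Or.inr h

end Ctx

end Cfsg.Agent.M12Sylow
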