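import Cfsg.Agent.Lib.M12Sylow.Labels

/-!
The centraliser of `z` and `w2` has Sylow 2-subgroups of order eight.
-/

set_option autoImplicit false
set_option linter.unusedSectionVars false

namespace Cfsg.Agent.M12Sylow

open Cfsg.Agent.G2Type
open Subgroup
open Cfsg.Agent.Involutions

universe w

variable {G : Type w} [Group G] [Finite G]

namespace Ctx

variable (X : Ctx G)

theorem inv_u : isInv u = true := typ_reps.2.2.2.2.2.2.2.2.2.2.2.1
theorem inv_v : isInv v = true := typ_reps.2.2.2.2.2.2.2.2.2.2.2.2.1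
theorem inv_w0 : isInv w0 = true := typ_reps.2.2.2.2.2.2.2.2.2.2.2.2.2.1
theorem inv_w1 : isInv w1 = true := typ_reps.2.2.2.2.2.2.2.2.2.2.2.2.2.2.1
theorem inv_w2 : isInv w2 = true := typ_reps.2.2.2.2.2.2.2.2.2.2.2.2.2.2.2
theorem inv_z : isInv z = true := typ_reps.2.2.2.2.2.2.2.2.1
theorem inv_e : isInv e = true := typ_reps.2.2.2.2.2.2.2.2.2.1

/-- The labels. -/
theorem K_iff {x : M} (hx : isInv x = true) :
    X.K x ↔ typ x = 0 ∨ typ x = 1 ∨ typ x = 5 ∨ (typ x = 6 ∧ X.K w2) := by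
  rw [X.K_iff_rep hx]
  have h6 := (typ_spec hx).2.1
  obtain h | h | h | h | h | h | h : typ x = 0 ∨ typ x = 1 ∨ typ x = 2 ∨ typ x = 3 ∨ typ x = 4 ∨
      typ x = 5 ∨ typ x = 6 := by omega
  all_goals rw [h]
  · simp [rep, X.K_z]
  · simp [rep, X.K_e]
  · simpa [rep] using X.not_K_u
  · simpa [rep] using X.not_K_v
  · simpa [rep, Pre.K] using X.hw0
  · exact iff_of_true X.hw1 (Or.inr (Or.inr (Or.inl rfl)))
  · simp [rep]

theorem max_E {x g : M} (hg : g ∈ max0) : (x ∈ E1 → g * x * g⁻¹ ∈ E1) ∧ (x ∈ E2 → g * x * g⁻¹ ∈ E2) := by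
  have h := all_elts max_normal g
  rw [mem_max0.1 hg] at h
  simp only [Bool.not_true, Bool.false_or] at h
  have h' := all_elts h x
  simp only [Bool.and_eq_true, Bool.or_eq_true, Bool.not_eq_true'] at h'
  exact ⟨fun hx => h'.1.resolve_left (by rw [mem_E1.1 hx]; simp),
    fun hx => h'.2.resolve_left (by rw [mem_E2.1 hx]; simp)⟩

theorem max_E_image (E : Subgroup M) (h : ∀ x g, g ∈ max0 → x ∈ E → g * x * g⁻¹ ∈ E) {g : M}
    (hg : g ∈ max0) : X.ι g ∈ normalizer ((E.map X.ι : Subgroup G) : Set G) := by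
  refine mem_normalizer_iff.2 fun y => ?_
  constructor
  · rintro ⟨x, hx, rfl⟩
    exact ⟨g * x * g⁻¹, h x g hg hx, by rw [map_mul, map_mul, map_inv]⟩
  · rintro ⟨x, hx, e1⟩
    refine ⟨g⁻¹ * x * g, ?_, ?_⟩
    · simpa using h x g⁻¹ (inv_mem hg) hx
    · rw [map_mul, map_mul, map_inv, e1]; group

/-- No element of `C(z)` normalises `C(w2)` and moves `e` to `ez`. -/
theorem no_swap {n : G} (hn : n ∈ X.C)
    (hE : n ∈ normalizer (((E1).map X.ι : Subgroup G) : Set G)) :
    n * X.ι e * n⁻¹ ≠ X.ι e' := by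
  intro hne
  set d := X.ι u * n with hd
  have hde : d * X.ι e * d⁻¹ = X.ι e := by
    rw [hd, show X.ι u * n * X.ι e * (X.ι u * n)⁻¹ = X.ι u * (n * X.ι e * n⁻¹) * (X.ι u)⁻¹ by group, hne,
      ← map_inv, ← map_mul, ← map_mul]
    congr 1
  have hd0 : d ∈ X.C0 := Subgroup.mem_inf.2 ⟨mul_mem (X.ι_mem_C u) hn,
    mem_centralizer_singleton_iff.2 (mul_inv_eq_iff_eq_mul.1 hde)⟩
  have hE12 : ∀ y : G, y ∈ E1.map X.ι ↔ X.ι u * y * (X.ι u)⁻¹ ∈ E2.map X.ι := by
    intro y
    constructor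
    · rintro ⟨x, hx, rfl⟩
      refine ⟨u * x * u⁻¹, ?_, by rw [map_mul, map_mul, map_inv]⟩
      have h := all_elts E_conj x
      rw [beq_iff_eq] at h
      show inE2 _ = true
      rw [← h]; exact hx
    · rintro ⟨x, hx, e1⟩
      refine ⟨u⁻¹ * x * u, ?_, by rw [map_mul, map_mul, map_inv, e1]; group⟩
      have h := all_elts E_conj (u⁻¹ * x * u)
      rw [beq_iff_eq, show u * (u⁻¹ * x * u) * u⁻¹ = x by group, mem_E2.1 hx] at h
      exact mem_E1.2 h
  have hdE : ∀ y : G, y ∈ E1.map X.ι ↔ d * y * d⁻¹ ∈ E2.map X.ι := fun y => by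
    rw [mem_normalizer_iff.1 hE y, hE12, hd]
    rw [show X.ι u * (n * y * n⁻¹) * (X.ι u)⁻¹ = X.ι u * n * y * (X.ι u * n)⁻¹ by group]
  -- inside `N = N(E2) ∩ C(z, e)` both images of `C(e)` are maximal
  set N := X.C0 ⊓ normalizer (((E2).map X.ι : Subgroup G) : Set G) with hN
  have hT : max0.map X.ι ≤ N := le_inf X.map_max_le (by
    rintro _ ⟨g, hg, rfl⟩
    exact X.max_E_image E2 (fun x g hg hx => ((max_E hg).2 hx)) hg)
  obtain ⟨c, hc, hcm⟩ := exists_conj_into (X.range_pgroup max0) hT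
    (fun R hR hRN _ => by rw [X.card_map, card_max0]; exact X.card_le_C0 hR (hRN.trans inf_le_left))
    (P := (max0.map X.ι).map (MulAut.conj d).toMonoidHom) ((X.range_pgroup max0).map _) (by
      rintro _ ⟨_, ⟨g, hg, rfl⟩, rfl⟩
      show d * X.ι g * d⁻¹ ∈ N
      refine Subgroup.mem_inf.2 ⟨mul_mem (mul_mem hd0 (X.map_max_le ⟨g, hg, rfl⟩)) (inv_mem hd0), ?_⟩
      refine mem_normalizer_iff.2 fun y => ?_
      have h1 := hdE (d⁻¹ * y * d)
      rw [show d * (d⁻¹ * y * d) * d⁻¹ = y by group] at h1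
      have h2 := mem_normalizer_iff.1 (X.max_E_image E1 (fun x g hg hx => ((max_E hg).1 hx)) hg)
        (d⁻¹ * y * d)
      have h3 := hdE (X.ι g * (d⁻¹ * y * d) * (X.ι g)⁻¹)
      rw [show d * (X.ι g * (d⁻¹ * y * d) * (X.ι g)⁻¹) * d⁻¹ = d * X.ι g * d⁻¹ * y * (d * X.ι g * d⁻¹)⁻¹
        by group] at h3
      exact h1.symm.trans (h2.trans h3))
  set g := c * d with hgdef
  have hg : ∀ m ∈ max0, ∃ m', X.ι m' = g * X.ι m * g⁻¹ ∧ m' ∈ max0 := fun m hm => by
    obtain ⟨m', hm', e1⟩ := hcm _ ⟨_, ⟨m, hm, rfl⟩, rfl⟩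
    refine ⟨m', ?_, hm'⟩
    rw [e1, hgdef]
    show c * (d * X.ι m * d⁻¹) * c⁻¹ = _
    group
  obtain ⟨ψ, hψ, hmul, hinv, hone, hii, hKψ⟩ := X.exists_psi (H := max0) (g := g)
    fun m hm => (hg m hm).imp fun _ h => h.1
  have hin : ∀ m ∈ max0, ψ m ∈ max0 := fun m hm => by
    obtain ⟨m', e1, hm'⟩ := hg m hm
    rwa [X.inj ((hψ m hm).trans e1.symm)]
  have hg0 : g ∈ X.C0 := mul_mem hc.1 hd0
  have ha : a ∈ max0 := mem_max0.2 (by decide +kernel)
  have hb : b ∈ max0 := mem_max0.2 (by decide +kernel)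
  have hw : w0 ∈ max0 := mem_max0.2 (by decide +kernel)
  have hw1m : w1 ∈ max0 := mem_max0.2 (by decide +kernel)
  have hw2m : w2 ∈ max0 := mem_max0.2 (by decide +kernel)
  have hfix : ∀ m ∈ max0, X.ι m = g * X.ι m * g⁻¹ → ψ m = m := fun m hm h =>
    X.inj ((hψ m hm).trans h.symm)
  have hem : e ∈ max0 := mem_max0.2 (by decide +kernel)
  have hzm : z ∈ max0 := mem_max0.2 (by decide +kernel)
  have ee : ψ e = e := hfix e hem (mul_inv_eq_iff_eq_mul.2 (mem_centralizer_singleton_iff.1 hg0.2)).symm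
  have ez : ψ z = z := hfix z hzm (mul_inv_eq_iff_eq_mul.2 (mem_centralizer_singleton_iff.1 hg0.1)).symm
  have p1 : a * a = e := by decide +kernel
  have p2 : b * b = z := by decide +kernel
  have p3 : a * b = b * a := by decide +kernel
  have p4 : w0 * a * w0 = a⁻¹ := by decide +kernel
  have p5 : w0 * b * w0 = b⁻¹ := by decide +kernel
  have p7 : b * w0 = w1 := by decide +kernel
  have p8 : a * w0 = w2 := by decide +kernel
  -- the image of `w2`
  have hw2E : ψ w2 ∈ E2 ∧ inZ0 (ψ w2) = false := by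
    have h2 : X.ι (ψ w2) ∈ E2.map X.ι := by
      rw [hψ _ hw2m, hgdef, show c * d * X.ι w2 * (c * d)⁻¹ = c * (d * X.ι w2 * d⁻¹) * c⁻¹ by group]
      exact (mem_normalizer_iff.1 hc.2 _).1 ((hdE _).1 ⟨w2, mem_E1.2 (by decide +kernel), rfl⟩)
    obtain ⟨x, hx, e1⟩ := h2
    refine ⟨X.inj e1 ▸ hx, ?_⟩
    by_contra hZ
    rw [Bool.not_eq_false] at hZ
    have hz0 : (elts.all fun x => !inZ0 x || (x == 1 || x == z || x == e || x == z * e)) = true := by
      decide +kernel
    have h := all_elts hz0 (ψ w2)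
    rw [hZ] at h
    simp only [Bool.not_true, Bool.false_or, Bool.or_eq_true, beq_iff_eq] at h
    have hinj : ∀ m ∈ max0, ψ w2 = ψ m → w2 = m := fun m hm e2 => by
      have h1 := hψ _ hw2m
      rw [e2, hψ _ hm] at h1
      exact (X.inj ((MulAut.conj g).injective h1)).symm
    rcases h with ((h | h) | h) | h
    · exact absurd (hinj 1 (one_mem _) (h.trans ((hone 1 (one_mem _)).2 rfl).symm)) (by decide +kernel)
    · exact absurd (hinj z hzm (h.trans ez.symm)) (by decide +kernel)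
    · exact absurd (hinj e hem (h.trans ee.symm)) (by decide +kernel)
    · exact absurd (hinj (z * e) (mul_mem hzm hem) (by rw [hmul _ hzm _ hem, ez, ee, h])) (by decide +kernel)
  classical
  have hf := List.all_eq_true.1 max_auto (decide (X.K w2)) (by cases decide (X.K w2) <;> simp)
  have h1 := all_elts hf (ψ a)
  rw [show (inMax (ψ a) && ψ a * ψ a == e) = true by
    rw [Bool.and_eq_true, beq_iff_eq]
    exact ⟨mem_max0.1 (hin _ ha), by rw [← hmul _ ha _ ha, p1, ee]⟩] at h1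
  simp only [Bool.not_true, Bool.false_or] at h1
  have h2 := all_elts h1 (ψ b)
  rw [show (inMax (ψ b) && ψ b * ψ b == z) = true by
    rw [Bool.and_eq_true, beq_iff_eq]
    exact ⟨mem_max0.1 (hin _ hb), by rw [← hmul _ hb _ hb, p2, ez]⟩] at h2
  simp only [Bool.not_true, Bool.false_or] at h2
  have h3 := all_elts h2 (ψ w0)
  have hi0 := hii _ hw inv_w0
  have hi1 := hii _ hw1m inv_w1
  have hrel : relMax (ψ a) (ψ b) (ψ w0) = true := by
    simp only [relMax, Bool.and_eq_true, beq_iff_eq, Bool.not_eq_true', beq_eq_false_iff_ne]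
    refine ⟨⟨⟨⟨?_, ?_⟩, (isInv_iff.1 hi0).2⟩, ?_⟩, ?_⟩
    · rw [← hmul _ ha _ hb, ← hmul _ hb _ ha, p3]
    · exact (isInv_iff.1 hi0).1
    · rw [← hmul _ hw _ ha, ← hmul _ (mul_mem hw ha) _ hw, p4, hinv _ ha]
    · rw [← hmul _ hw _ hb, ← hmul _ (mul_mem hw hb) _ hw, p5, hinv _ hb]
  rw [← hmul _ hb _ hw, p7, ← hmul _ ha _ hw, p8, mem_E2.1 hw2E.1, hw2E.2,
    mem_max0.1 (hin _ hw), hrel, hi0, hi1] at h3
  have hmax : (elts.all fun x => !(isInv x && inMax x) ||
      (typ x == 0 || typ x == 1 || typ x == 4 || typ x == 5 || typ x == 6)) = true := by decide +kernel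
  have t0 := all_elts hmax (ψ w0)
  have t1 := all_elts hmax (ψ w1)
  rw [hi0, mem_max0.1 (hin _ hw)] at t0
  rw [hi1, mem_max0.1 (hin _ hw1m)] at t1
  have k0 : ¬ X.K (ψ w0) := fun h => X.hw0 ((hKψ _ hw).1 h)
  have k1 : X.K (ψ w1) := (hKψ _ hw1m).2 X.hw1
  rw [X.K_iff hi0] at k0
  rw [X.K_iff hi1] at k1
  have nz : typ (ψ w1) ≠ 0 ∧ typ (ψ w1) ≠ 1 := by
    have hinj : ∀ m ∈ max0, ψ w1 = ψ m → w1 = m := fun m hm e2 => by
      have h1 := hψ _ hw1m
      rw [e2, hψ _ hm] at h1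
      exact (X.inj ((MulAut.conj g).injective h1)).symm
    obtain ⟨-, -, c0, c1⟩ := typ_spec hi1
    refine ⟨fun h => absurd (hinj z hzm ((c0 h).trans ez.symm)) (by decide +kernel), fun h => ?_⟩
    rcases c1 h with h' | h'
    · exact absurd (hinj e hem (h'.trans ee.symm)) (by decide +kernel)
    · exact absurd (hinj (z * e) (mul_mem hzm hem) (by rw [hmul _ hzm _ hem, ez, ee]; exact h')) (by decide +kernel)
  have h6 := (typ_spec hi0).2.1
  have h6' := (typ_spec hi1).2.1
  clear hrel hf h1 h2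
  generalize typ (ψ w0) = A at h3 k0 t0 h6
  generalize typ (ψ w1) = B at h3 k1 t1 h6' nz
  by_cases hl : X.K w2
  · simp only [decide_eq_true hl, hl, and_true] at h3 k0 k1
    interval_cases A <;> interval_cases B <;> simp at h3 k0 k1 t0 t1 nz
  · simp only [decide_eq_false hl, hl, and_false, or_false] at h3 k0 k1
    interval_cases A <;> interval_cases B <;> simp at h3 k0 k1 t0 t1 nz

theorem E1_in_C0 : E1.map X.ι ≤ X.C0 := by
  refine le_trans ?_ X.map_max_le
  rintro _ ⟨m, hm, rfl⟩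
  refine ⟨m, ?_, rfl⟩
  have h : (elts.all fun x => !inE1 x || inMax x) = true := by decide +kernel
  have h' := all_elts h m
  rw [mem_E1.1 hm] at h'
  exact mem_max0.2 (by simpa using h')

/-- The Sylow 2-subgroups of `C(z) ∩ C(w2)` have order eight. -/
theorem card_le_eight {P : Subgroup G} (hP : IsPGroup 2 P) (hPz : P ≤ X.C)
    (hPw : P ≤ centralizer ({X.ι w2} : Set G)) (hE : E1.map X.ι ≤ P) : Nat.card P ≤ 8 := by
  have hp : Fact (Nat.Prime 2) := ⟨Nat.prime_two⟩
  set E := E1.map X.ι with hEdef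
  by_contra hbig
  push Not at hbig
  have hE8 : Nat.card E = 8 := (X.card_map _).trans card_E1
  -- an element of the normaliser squaring into `E`
  obtain ⟨t, htP, htE, htn, ht2⟩ : ∃ t ∈ P, t ∉ E ∧ t ∈ normalizer (E : Set G) ∧ t * t ∈ E := by
    have hdvd : 2 ^ (3 + 1) ∣ Nat.card P := by
      obtain ⟨n, hn⟩ := IsPGroup.iff_card.1 hP
      rw [hn] at hbig ⊢
      refine pow_dvd_pow 2 ?_
      by_contra h
      push Not at h
      have := Nat.pow_le_pow_right (show 0 < 2 by norm_num) (show n ≤ 3 by omega)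
      omega
    obtain ⟨K, hK, hEK⟩ := Sylow.exists_subgroup_card_pow_succ (G := P) (p := 2) (n := 3) hdvd
      (H := E.subgroupOf P) (by rw [Nat.card_congr (subgroupOfEquivOfLe hE).toEquiv, hE8]; rfl)
    have hidx : (E.subgroupOf P).relIndex K = 2 := by
      have h := (E.subgroupOf P).subgroupOf K |>.card_mul_index
      rw [Nat.card_congr (subgroupOfEquivOfLe hEK).toEquiv, hK,
        Nat.card_congr (subgroupOfEquivOfLe hE).toEquiv, hE8] at h
      change 8 * (E.subgroupOf P).relIndex K = 2 ^ (3 + 1) at h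
      omega
    obtain ⟨⟨t, ht⟩, htK⟩ : ∃ t : K, t ∉ (E.subgroupOf P).subgroupOf K := by
      by_contra h
      push Not at h
      rw [Subgroup.relIndex, (Subgroup.eq_top_iff' _).2 h, index_top] at hidx
      norm_num at hidx
    have hnor : ((E.subgroupOf P).subgroupOf K).Normal := normal_of_index_eq_two hidx
    refine ⟨t, t.2, fun h => htK h, ?_, ?_⟩
    · refine mem_normalizer_iff.2 fun y => ?_
      have key : ∀ s : K, ∀ y : G, y ∈ E → ((s : P) : G) * y * ((s : P) : G)⁻¹ ∈ E := fun s y hy =>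
        hnor.conj_mem ⟨⟨y, hE hy⟩, hEK hy⟩ hy s
      constructor
      · exact key ⟨t, ht⟩ y
      · intro h
        have h' := key ⟨t, ht⟩⁻¹ _ h
        simpa [mul_assoc] using h'
    · exact Subgroup.mul_self_mem_of_index_two hidx ⟨t, ht⟩
  have hfix : ∀ {x : G}, x ∈ X.C → x ∈ centralizer ({X.ι w2} : Set G) →
      x * X.ι z * x⁻¹ = X.ι z ∧ x * X.ι w2 * x⁻¹ = X.ι w2 := fun hx hx' =>
    ⟨mul_inv_eq_iff_eq_mul.2 (mem_centralizer_singleton_iff.1 hx),
      mul_inv_eq_iff_eq_mul.2 (mem_centralizer_singleton_iff.1 hx')⟩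
  obtain ⟨fz, fw⟩ := hfix (hPz htP) (hPw htP)
  have hem : X.ι e ∈ E := ⟨e, mem_E1.2 (by decide +kernel), rfl⟩
  obtain ⟨m, hm, hme⟩ := (mem_normalizer_iff.1 htn _).1 hem
  -- the possible images of `e`
  have hm' : m = e ∨ m = e' ∨ m = e * w2 ∨ m = e * (z * w2) := by
    have h : (elts.all fun x => !inE1 x || (x == e || x == e' || x == e * w2 || x == e * (z * w2) ||
        x == 1 || x == z || x == w2 || x == z * w2)) = true := by decide +kernel
    have h' := all_elts h m
    rw [mem_E1.1 hm] at h'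
    simp only [Bool.not_true, Bool.false_or, Bool.or_eq_true, beq_iff_eq] at h'
    have hinj : ∀ y, X.ι m = t * X.ι y * t⁻¹ → e = y := fun y h =>
      X.inj ((MulAut.conj t).injective (hme.symm.trans h))
    rcases h' with ((((((h' | h') | h') | h') | h') | h') | h') | h'
    · exact Or.inl h'
    · exact Or.inr (Or.inl h')
    · exact Or.inr (Or.inr (Or.inl h'))
    · exact Or.inr (Or.inr (Or.inr h'))
    · exact absurd (hinj 1 (by rw [h', map_one]; group)) (by decide +kernel)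
    · exact absurd (hinj z (by rw [h', fz])) (by decide +kernel)
    · exact absurd (hinj w2 (by rw [h', fw])) (by decide +kernel)
    · refine absurd (hinj (z * w2) (by rw [h', map_mul,
        show t * (X.ι z * X.ι w2) * t⁻¹ = (t * X.ι z * t⁻¹) * (t * X.ι w2 * t⁻¹) by group, fz, fw]))
        (by decide +kernel)
  rcases hm' with rfl | rfl | hm'
  · -- `t` centralises `E`
    have hte : t ∈ centralizer ({X.ι e} : Set G) :=
      mem_centralizer_singleton_iff.2 (mul_inv_eq_iff_eq_mul.1 hme.symm)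
    set R := P ⊓ centralizer ({X.ι e} : Set G) with hR
    have hER : E ≤ R := le_inf hE ((X.E1_in_C0).trans inf_le_right)
    obtain ⟨c, hc, hcm⟩ := X.into_max (P := R) (hP.to_le inf_le_left)
      (le_inf (inf_le_left.trans hPz) inf_le_right)
    have hw2R : X.ι w2 ∈ R := hER ⟨w2, mem_E1.2 (by decide +kernel), rfl⟩
    obtain ⟨x, hxm, hx⟩ := hcm _ hw2R
    have hxi : isInv x = true := X.isInv_of_orderOf (by rw [hx, Basic.orderOf_conj, X.orderOf_ι inv_w2])
    have hR16 : 16 ≤ Nat.card R := by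
      obtain ⟨n, hn⟩ := IsPGroup.iff_card.1 (hP.to_le (inf_le_left : R ≤ P))
      have hlt : Nat.card E < Nat.card R := by
        refine lt_of_le_of_ne (card_le_of_le hER) fun h => htE ?_
        rw [Subgroup.eq_of_le_of_card_ge hER h.ge]
        exact ⟨htP, hte⟩
      rw [hE8, hn] at hlt
      rw [hn]
      calc 16 = 2 ^ 4 := rfl
        _ ≤ 2 ^ n := Nat.pow_le_pow_right (by norm_num) (by
          by_contra h
          push Not at h
          have := Nat.pow_le_pow_right (show 0 < 2 by norm_num) (show n ≤ 3 by omega)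
          omega)
    have hcount : 16 ≤ (elts.filter fun y => inMax y && y * x == x * y).length := by
      refine hR16.trans ?_
      rw [← card_pred {y | y ∈ max0 ∧ y * x = x * y} (fun y => inMax y && y * x == x * y) fun y => by
        simp [mem_max0]]
      have hmm : ∀ r : R, ∃ y : {y : M | y ∈ max0 ∧ y * x = x * y}, X.ι y = c * (r : G) * c⁻¹ := by
        intro r
        obtain ⟨y, hy, e1⟩ := hcm _ r.2
        refine ⟨⟨y, hy, X.inj ?_⟩, e1⟩
        rw [map_mul, map_mul, e1, hx]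
        have h := mem_centralizer_singleton_iff.1 (hPw r.2.1)
        calc c * (r : G) * c⁻¹ * (c * X.ι w2 * c⁻¹) = c * ((r : G) * X.ι w2) * c⁻¹ := by group
          _ = c * (X.ι w2 * (r : G)) * c⁻¹ := by rw [h]
          _ = _ := by group
      choose φ hφ using hmm
      refine Nat.card_le_card_of_injective φ fun r s h => ?_
      have := hφ r
      rw [h, hφ s] at this
      exact Subtype.ext (mul_left_cancel (mul_right_cancel this.symm))
    have h := all_elts max_cent_big x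
    rw [hxi, mem_max0.1 hxm, decide_eq_true hcount] at h
    simp only [Bool.and_self, Bool.not_true, Bool.false_or] at h
    have hZ : (elts.all fun y => !(isInv y && inZ0 y) || (y == z || y == e || y == z * e)) = true := by
      decide +kernel
    have h' := all_elts hZ x
    rw [hxi, h] at h'
    simp only [Bool.and_self, Bool.not_true, Bool.false_or, Bool.or_eq_true, beq_iff_eq] at h'
    have cz : c * X.ι z * c⁻¹ = X.ι z := mul_inv_eq_iff_eq_mul.2 (mem_centralizer_singleton_iff.1 hc.1)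
    have ce : c * X.ι e * c⁻¹ = X.ι e := mul_inv_eq_iff_eq_mul.2 (mem_centralizer_singleton_iff.1 hc.2)
    have hinj : ∀ y, X.ι x = c * X.ι y * c⁻¹ → w2 = y := fun y h =>
      X.inj ((MulAut.conj c).injective (hx.symm.trans h))
    rcases h' with (h' | h') | h'
    · exact absurd (hinj z (by rw [h', cz])) (by decide +kernel)
    · exact absurd (hinj e (by rw [h', ce])) (by decide +kernel)
    · exact absurd (hinj (z * e) (by rw [h', map_mul,
        show c * (X.ι z * X.ι e) * c⁻¹ = (c * X.ι z * c⁻¹) * (c * X.ι e * c⁻¹) by group, cz, ce]))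
        (by decide +kernel)
  · exact X.no_swap (hPz htP) htn hme.symm
  · -- the transvection `w2 ↦ w2 z` transported by `t`
    set p := X.ι b with hp'
    have hbm : b ∈ max0 := mem_max0.2 (by decide +kernel)
    have hpn : p ∈ normalizer (E : Set G) := X.max_E_image E1 (fun x g hg hx => ((max_E hg).1 hx)) hbm
    have pz : p * X.ι z * p⁻¹ = X.ι z := by
      rw [hp', ← map_inv, ← map_mul, ← map_mul]; exact congrArg X.ι (by decide +kernel)
    have pe : p * X.ι e * p⁻¹ = X.ι e := by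
      rw [hp', ← map_inv, ← map_mul, ← map_mul]; exact congrArg X.ι (by decide +kernel)
    have pw : p * X.ι w2 * p⁻¹ = X.ι z * X.ι w2 := by
      rw [hp', ← map_inv, ← map_mul, ← map_mul, ← map_mul]; exact congrArg X.ι (by decide +kernel)
    -- `t⁻¹ e t = t e t⁻¹`
    have hback : t⁻¹ * X.ι e * t = X.ι m := by
      obtain ⟨s, hs, hse⟩ := ht2
      have hcomm : t * t * X.ι e = X.ι e * (t * t) := by
        rw [← hse, ← map_mul, ← map_mul]
        congr 1
        have h : (elts.all fun x => !inE1 x || x * e == e * x) = true := by decide +kernel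
        have h' := all_elts h s
        rw [mem_E1.1 hs] at h'
        simpa using h'
      rw [hme]
      calc t⁻¹ * X.ι e * t = t⁻¹ * (X.ι e * (t * t)) * t⁻¹ := by group
        _ = t⁻¹ * (t * t * X.ι e) * t⁻¹ := by rw [hcomm]
        _ = _ := by group
    set n := t * p * t⁻¹ with hn
    have hnC : n ∈ X.C := mul_mem (mul_mem (hPz htP) (X.ι_mem_C b)) (inv_mem (hPz htP))
    have hnn : n ∈ normalizer (E : Set G) := mul_mem (mul_mem htn hpn) (inv_mem htn)
    refine X.no_swap hnC hnn ?_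
    rw [hn, show t * p * t⁻¹ * X.ι e * (t * p * t⁻¹)⁻¹ = t * (p * (t⁻¹ * X.ι e * t) * p⁻¹) * t⁻¹ by group,
      hback]
    have conj_mul' : ∀ g x y : G, g * (x * y) * g⁻¹ = g * x * g⁻¹ * (g * y * g⁻¹) := fun g x y => by group
    rcases hm' with rfl | rfl <;>
      simp only [map_mul, conj_mul', pe, pw, pz, fz, fw, ← hme, mul_assoc] <;>
      simp only [← map_mul] <;> exact congrArg X.ι (by decide +kernel)

/-- No conjugate of `w2` in `C(z)` lies in `Q`. -/
theorem w2_not_into_Q {c : G} (hc : c ∈ X.C) {y : M} (hy : y ∈ Q) : c * X.ι w2 * c⁻¹ ≠ X.ι y := by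
  intro h
  have hp : Fact (Nat.Prime 2) := ⟨Nat.prime_two⟩
  have hyi : isInv y = true := X.isInv_of_orderOf (by rw [← h, Basic.orderOf_conj, X.orderOf_ι inv_w2])
  have h6 : typ y ≠ 6 := by
    have hq : (elts.all fun x => !(inQ x && isInv x) || !(typ x == 6)) = true := by decide +kernel
    have h' := all_elts hq y
    rw [mem_Q.1 hy, hyi] at h'
    simpa using h'
  have hbig : 16 ≤ Nat.card (cent y) := by
    rw [card_cent_inv hyi, beq_eq_false_iff_ne.2 h6]
    cases typ y == 0 <;> cases typ y == 1 <;> simp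
  set H := X.C ⊓ centralizer ({X.ι w2} : Set G) with hH
  have hE : E1.map X.ι ≤ H := le_inf ((X.E1_in_C0).trans inf_le_left) (by
    rw [← Pre.cent_w2_eq]; exact X.map_cent_le w2)
  set P := ((cent y).map X.ι).map (MulAut.conj c⁻¹).toMonoidHom with hPdef
  have hP : IsPGroup 2 P := (X.range_pgroup _).map _
  obtain ⟨g, -, hg⟩ := exists_conj_into (X.range_pgroup E1) hE
    (fun R hR hRH hER => by
      rw [X.card_map, card_E1]
      exact X.card_le_eight hR (hRH.trans inf_le_left) (hRH.trans inf_le_right) hER) hP (by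
      rintro _ ⟨_, ⟨m, hm, rfl⟩, rfl⟩
      show c⁻¹ * X.ι m * c⁻¹⁻¹ ∈ H
      refine Subgroup.mem_inf.2 ⟨mul_mem (mul_mem (inv_mem hc) (X.ι_mem_C m)) (inv_mem (inv_mem hc)), ?_⟩
      rw [mem_centralizer_singleton_iff, show X.ι w2 = c⁻¹ * X.ι y * c⁻¹⁻¹ by rw [← h]; group]
      calc c⁻¹ * X.ι m * c⁻¹⁻¹ * (c⁻¹ * X.ι y * c⁻¹⁻¹) = c⁻¹ * X.ι (m * y) * c⁻¹⁻¹ := by rw [map_mul]; group
        _ = c⁻¹ * X.ι (y * m) * c⁻¹⁻¹ := by rw [mem_cent.1 hm]
        _ = _ := by rw [map_mul]; group)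
  have hle : Nat.card P ≤ Nat.card (E1.map X.ι) :=
    Nat.card_le_card_of_injective (fun a => (⟨_, hg _ a.2⟩ : E1.map X.ι)) fun a d h =>
      Subtype.ext (mul_left_cancel (mul_right_cancel (congrArg Subtype.val h)))
  rw [hPdef, card_map_of_injective (MulAut.conj c⁻¹).injective, X.card_map, X.card_map, card_E1] at hle
  omega

end Ctx

end Cfsg.Agent.M12Sylow
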